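import Cfsg.Agent.H71.Glue
set_option maxRecDepth 1000000
set_option Elab.async false
open H71
namespace H93.U33L0
noncomputable def nx_0 : ℕ := 0x34cd0d967ee0
noncomputable def nx_1 : ℕ := 0x27761c000000060bf4
noncomputable def nx_2 : ℕ := 0x5b00006ea000a9200050c
noncomputable def nx_3 : ℕ := 0x1e00801e01c016020036004
noncomputable def nx_4 : ℕ := 0x180106186082004102104080
noncomputable def nx_5 : ℕ := 0x41008040000241200001001
noncomputable def nx_6 : ℕ := 0x241208241048249201241201
noncomputable def nx_7 : ℕ := 0x49209201001009248209000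
noncomputable def nx_8 : ℕ := 0x144106083102102182187040
noncomputable def nx_9 : ℕ := 0xd00701003c019037038010
noncomputable def nx_10 : ℕ := 0x5d1000f8a000445000a1a
noncomputable def nx_11 : ℕ := 0xf5955b000000d2b702
noncomputable def nx_12 : ℕ := 0x7774b992e38
noncomputable def nx : Net := .cons 48 nx_0 <| .cons 24 nx_1 <| .cons 12 nx_2 <| .cons 6 nx_3 <| .cons 3 nx_4 <| .cons 2 nx_5 <| .cons 1 nx_6 <| .cons 2 nx_7 <| .cons 3 nx_8 <| .cons 6 nx_9 <| .cons 12 nx_10 <| .cons 24 nx_11 <| .cons 48 nx_12 <| .nil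
theorem vnx : Net.valid 96 nx = true := by decide +kernel
noncomputable def ny_0 : ℕ := 0xb541f4526a94
noncomputable def ny_1 : ℕ := 0x2496a0000000238cd0
noncomputable def ny_2 : ℕ := 0xbf8000ba400040a000b94
noncomputable def ny_3 : ℕ := 0x801600801401200c002012
noncomputable def ny_4 : ℕ := 0x100102082084080102004080
noncomputable def ny_5 : ℕ := 0x40001200008009208201000
noncomputable def ny_6 : ℕ := 0x49241201209209249209041
noncomputable def ny_7 : ℕ := 0x8209001200041008240040
noncomputable def ny_8 : ℕ := 0x182041043000101085141003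
noncomputable def ny_9 : ℕ := 0xc00601702500b00702d004
noncomputable def ny_10 : ℕ := 0x13a0007f00000a5000184
noncomputable def ny_11 : ℕ := 0xa4516b00000023dae2
noncomputable def ny_12 : ℕ := 0x1103cb4e8ba6
noncomputable def ny : Net := .cons 48 ny_0 <| .cons 24 ny_1 <| .cons 12 ny_2 <| .cons 6 ny_3 <| .cons 3 ny_4 <| .cons 2 ny_5 <| .cons 1 ny_6 <| .cons 2 ny_7 <| .cons 3 ny_8 <| .cons 6 ny_9 <| .cons 12 ny_10 <| .cons 24 ny_11 <| .cons 48 ny_12 <| .nil
theorem vny : Net.valid 96 ny = true := by decide +kernel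
noncomputable def nh_0 : ℕ := 0x8097638b0000
noncomputable def nh_1 : ℕ := 0xe3e6800000007a45ec
noncomputable def nh_2 : ℕ := 0x98800030c000748000a50
noncomputable def nh_3 : ℕ := 0xa01002a03e01402400601a
noncomputable def nh_4 : ℕ := 0x184104082104002100006
noncomputable def nh_5 : ℕ := 0x8041201009048008049241
noncomputable def nh_6 : ℕ := 0x209241209209249009049249
noncomputable def nh_7 : ℕ := 0x48200048208008201240001
noncomputable def nh_8 : ℕ := 0x440c7143084140147105104
noncomputable def nh_9 : ℕ := 0xa03801002b02e03302a005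
noncomputable def nh_10 : ℕ := 0xaa70002ca000566000e3b
noncomputable def nh_11 : ℕ := 0xe52db70000003e81ad
noncomputable def nh_12 : ℕ := 0x644b96cde194
noncomputable def nh : Net := .cons 48 nh_0 <| .cons 24 nh_1 <| .cons 12 nh_2 <| .cons 6 nh_3 <| .cons 3 nh_4 <| .cons 2 nh_5 <| .cons 1 nh_6 <| .cons 2 nh_7 <| .cons 3 nh_8 <| .cons 6 nh_9 <| .cons 12 nh_10 <| .cons 24 nh_11 <| .cons 48 nh_12 <| .nil
theorem vnh : Net.valid 96 nh = true := by decide +kernel
noncomputable def nt_0 : ℕ := 0x1d50c12e7bd8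
noncomputable def nt_1 : ℕ := 0x157388000000a38450
noncomputable def nt_2 : ℕ := 0xd14000078000420000168
noncomputable def nt_3 : ℕ := 0x3003802c008018020008002
noncomputable def nt_4 : ℕ := 0x180100000084004002104184
noncomputable def nt_5 : ℕ := 0x8049241248208240048000
noncomputable def nt_6 : ℕ := 0x208249241249249241249041
noncomputable def nt_7 : ℕ := 0x40009209201241249049048
noncomputable def nt_8 : ℕ := 0xc11041020070830811001c1
noncomputable def nt_9 : ℕ := 0x3d02900101800802f03b00f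
noncomputable def nt_10 : ℕ := 0xe96000bfb000d8500026b
noncomputable def nt_11 : ℕ := 0x5c7baf000000ea8c77
noncomputable def nt_12 : ℕ := 0xe2af3ed18427
noncomputable def nt : Net := .cons 48 nt_0 <| .cons 24 nt_1 <| .cons 12 nt_2 <| .cons 6 nt_3 <| .cons 3 nt_4 <| .cons 2 nt_5 <| .cons 1 nt_6 <| .cons 2 nt_7 <| .cons 3 nt_8 <| .cons 6 nt_9 <| .cons 12 nt_10 <| .cons 24 nt_11 <| .cons 48 nt_12 <| .nil
theorem vnt : Net.valid 96 nt = true := by decide +kernel
noncomputable def gensN : List Net := [nx, ny, Net.nil, nh]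
noncomputable def invsN : List Net := [nt]
noncomputable def A : ℕ → ℕ → ℕ := mkA gensN invsN
noncomputable def π : ℕ → Equiv.Perm ℕ := mkPi gensN invsN
theorem vG : ∀ r ∈ ([nx, ny, Net.nil, nh] : List Net), Net.valid 96 r = true := by
  intro r hr
  simp only [List.mem_cons, List.not_mem_nil, or_false] at hr
  rcases hr with rfl | rfl | rfl | rfl
  · exact vnx
  · exact vny
  · rfl
  · exact vnh
theorem vI : ∀ r ∈ ([nt] : List Net), Net.valid 96 r = true := by
  intro r hr
  simp only [List.mem_cons, List.not_mem_nil, or_false] at hr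
  rcases hr with rfl
  · exact vnt
theorem env : Env 96 π A := env_mk vG vI
theorem hN : 96 ≤ 2 ^ 7 := by norm_num
theorem pinv : ∀ l, π (linv 8 l) = (π l)⁻¹ := mkPi_inv' hN rfl vI (by decide +kernel)
def R : List (List ℕ) := [[0,0,0,0],
  [2,2,2,2],
  [0,2,1,3],
  [8,0,8,3],
  [6,6,6],
  [6,0,2,7,3,1],
  [6,0,3,7,1,1,8],
  [6,8,0,0,7,2,1,1,1,8],
  [8,0,6,1,8,6]]
def RH : List (List ℕ) := []
def HL : List ℕ := []
def S : List ℕ := [0,1,2,3,6,7,8]
theorem relP : ∀ r ∈ R, evw π r = 1 := env.eq_one_of_allId hN (by decide +kernel)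
def seeds : List (List ℕ) := []
theorem seeds_mem {G : Type*} [Group G] {val : ℕ → G} {H : Subgroup G} (hv : ∀ l, val (linv 8 l) = (val l)⁻¹) (he : val 9 = 1)
    (hR : ∀ r ∈ R ++ RH, evw val r = 1) (hH : ∀ l ∈ HL, val l ∈ H) : ∀ w ∈ seeds, evw val w ∈ H := by simp [seeds]
def spec : List ℕ := [32768,0,8192,16384,16388,16390,24576,24578,24582,40964,40968,65540,65544,65546,49156,49158,49162,57348,57350,57356,16386,24580,40960,40962,40966,40970,65536,65542,49152,49154,49160,57344,57346,57352,57354,57362]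
noncomputable def rules : List (List ℕ) := spec.map (mkRule 8 R)
noncomputable def hs : List (List ℕ) := HL.map (fun z => [z]) ++ seeds
noncomputable def D0 : ℕ := Nat.shiftLeft 1 0
noncomputable def K0 : List ℕ := List.replicate 9 0
def steps0_0 : List ℕ := [0,4,8,12,24,28,32,0,4,8,1,26,5,2,9,10,13,2,17,6,21,14,25,34,29,2,33,14,37,10,41,14,45,26,49,34,53,26,57,14,61,30,65,6,69,2,73,2,77,6,5,2,9,10,13,2,81,10,21,14,25,34,85,34,33,14,89,26,93,2,37,10,97,30,101,6,105,34,45,26,109,6,49,34,53,26,113,26,117,2,57,14,61,30,121,6,65,6,125,26,129,34,69,2,73,2,133,30,137,10,141,34,1,26,5,2,9,10,81,10,21,14,25,34,85,34,89,26,97,30]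
theorem run0 : tcRun A 8 0 rules hs (steps0_0) (finSt A S (ival 0 96)) D0 K0 = true := by decide +kernel
theorem done {G : Type*} [Group G] {val : ℕ → G} {H : Subgroup G} (hv : ∀ l, val (linv 8 l) = (val l)⁻¹) (he : val 9 = 1)
    (hR : ∀ r ∈ R ++ RH, evw val r = 1) (hH : ∀ l ∈ HL, val l ∈ H) : TCDone val H π 0 S (ival 0 96) := by
  have T : TCHyp val H 96 π A 8 rules hs := tcHyp_mk env hv pinv (fun r hr => hR r (List.mem_append_left _ hr)) relP hH (seeds_mem hv he hR hH) spec
  have h0 : Inv val H π 0 D0 K0 := inv_init val H π 0 9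
  exact tcRun_fin T h0 run0
end H93.U33L0
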