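import Cfsg.Agent.H71.Glue
set_option maxRecDepth 1000000
set_option Elab.async false
open H71
namespace H93.U33L1
noncomputable def nx_0 : ℕ := 0x80000000
noncomputable def nx_1 : ℕ := 0x8000
noncomputable def nx_2 : ℕ := 0x80
noncomputable def nx_3 : ℕ := 0x8
noncomputable def nx_4 : ℕ := 0x55550050
noncomputable def nx_5 : ℕ := 0x1111111111111110
noncomputable def nx_6 : ℕ := 0xb0b0b0b00000b08
noncomputable def nx_7 : ℕ := 0xfa00fa00390080
noncomputable def nx_8 : ℕ := 0xa0e100008000
noncomputable def nx_9 : ℕ := 0x80000000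
noncomputable def nx : Net := .cons 32 nx_0 <| .cons 16 nx_1 <| .cons 8 nx_2 <| .cons 4 nx_3 <| .cons 1 nx_4 <| .cons 2 nx_5 <| .cons 4 nx_6 <| .cons 8 nx_7 <| .cons 16 nx_8 <| .cons 32 nx_9 <| .nil
theorem vnx : Net.valid 64 nx = true := by decide +kernel
noncomputable def ny_0 : ℕ := 0x80000000
noncomputable def ny_1 : ℕ := 0x8000
noncomputable def ny_2 : ℕ := 0x80
noncomputable def ny_3 : ℕ := 0x8
noncomputable def ny_4 : ℕ := 0x55550050
noncomputable def ny_5 : ℕ := 0x2222222222222220
noncomputable def ny_6 : ℕ := 0xd0d0d0d0f0f0d08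
noncomputable def ny_7 : ℕ := 0x44004400a00080
noncomputable def ny_8 : ℕ := 0x96a500008000
noncomputable def ny_9 : ℕ := 0x80000000
noncomputable def ny : Net := .cons 32 ny_0 <| .cons 16 ny_1 <| .cons 8 ny_2 <| .cons 4 ny_3 <| .cons 1 ny_4 <| .cons 2 ny_5 <| .cons 4 ny_6 <| .cons 8 ny_7 <| .cons 16 ny_8 <| .cons 32 ny_9 <| .nil
theorem vny : Net.valid 64 ny = true := by decide +kernel
noncomputable def ng_0 : ℕ := 0x987f8000
noncomputable def ng_1 : ℕ := 0x12ca00008000
noncomputable def ng_2 : ℕ := 0x900070004a0098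
noncomputable def ng_3 : ℕ := 0x20c04020c040208
noncomputable def ng_4 : ℕ := 0x2002002002002002
noncomputable def ng_5 : ℕ := 0x4514514514514514
noncomputable def ng_6 : ℕ := 0x3323323323323323
noncomputable def ng_7 : ℕ := 0xc0a0f0c0a0f0c08
noncomputable def ng_8 : ℕ := 0x9800ad00e400d8
noncomputable def ng_9 : ℕ := 0x9c6400008000
noncomputable def ng_10 : ℕ := 0xd87f8000
noncomputable def ng : Net := .cons 32 ng_0 <| .cons 16 ng_1 <| .cons 8 ng_2 <| .cons 4 ng_3 <| .cons 2 ng_4 <| .cons 1 ng_5 <| .cons 2 ng_6 <| .cons 4 ng_7 <| .cons 8 ng_8 <| .cons 16 ng_9 <| .cons 32 ng_10 <| .nil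
theorem vng : Net.valid 64 ng = true := by decide +kernel
noncomputable def nh_0 : ℕ := 0x1d200000e780
noncomputable def nh_1 : ℕ := 0xdc00dc004a0080
noncomputable def nh_2 : ℕ := 0xc04020e
noncomputable def nh_3 : ℕ := 0x2200220002002002
noncomputable def nh_4 : ℕ := 0x1100445514514514
noncomputable def nh_5 : ℕ := 0x11002223323322
noncomputable def nh_6 : ℕ := 0x10a0b0a0f0c0a
noncomputable def nh_7 : ℕ := 0xdc00dc00e40080
noncomputable def nh_8 : ℕ := 0x49210000a780
noncomputable def nh : Net := .cons 16 nh_0 <| .cons 8 nh_1 <| .cons 4 nh_2 <| .cons 2 nh_3 <| .cons 1 nh_4 <| .cons 2 nh_5 <| .cons 4 nh_6 <| .cons 8 nh_7 <| .cons 16 nh_8 <| .nil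
theorem vnh : Net.valid 64 nh = true := by decide +kernel
noncomputable def nt_0 : ℕ := 0x80000000
noncomputable def nt_1 : ℕ := 0x80
noncomputable def nt_2 : ℕ := 0x2
noncomputable def nt_3 : ℕ := 0x5555555500005504
noncomputable def nt_4 : ℕ := 0x3333333311113312
noncomputable def nt_5 : ℕ := 0xf0f0f0f05050f00
noncomputable def nt_6 : ℕ := 0xe700e700770080
noncomputable def nt_7 : ℕ := 0xfe7f00000000
noncomputable def nt_8 : ℕ := 0x80000000
noncomputable def nt : Net := .cons 32 nt_0 <| .cons 8 nt_1 <| .cons 2 nt_2 <| .cons 1 nt_3 <| .cons 2 nt_4 <| .cons 4 nt_5 <| .cons 8 nt_6 <| .cons 16 nt_7 <| .cons 32 nt_8 <| .nil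
theorem vnt : Net.valid 64 nt = true := by decide +kernel
noncomputable def gensN : List Net := [nx, ny, ng, nh]
noncomputable def invsN : List Net := [nt]
noncomputable def A : ℕ → ℕ → ℕ := mkA gensN invsN
noncomputable def π : ℕ → Equiv.Perm ℕ := mkPi gensN invsN
theorem vG : ∀ r ∈ ([nx, ny, ng, nh] : List Net), Net.valid 64 r = true := by
  intro r hr
  simp only [List.mem_cons, List.not_mem_nil, or_false] at hr
  rcases hr with rfl | rfl | rfl | rfl
  · exact vnx
  · exact vny
  · exact vng
  · exact vnh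
theorem vI : ∀ r ∈ ([nt] : List Net), Net.valid 64 r = true := by
  intro r hr
  simp only [List.mem_cons, List.not_mem_nil, or_false] at hr
  rcases hr with rfl
  · exact vnt
theorem env : Env 64 π A := env_mk vG vI
theorem hN : 64 ≤ 2 ^ 6 := by norm_num
theorem pinv : ∀ l, π (linv 8 l) = (π l)⁻¹ := mkPi_inv' hN rfl vI (by decide +kernel)
def R : List (List ℕ) := [[0,0,0,0],
  [2,2,2,2],
  [0,2,1,3],
  [8,0,8,3],
  [6,6,6],
  [6,0,2,7,3,1],
  [6,0,3,7,1,1,8],
  [6,8,0,0,7,2,1,1,1,8],
  [8,0,6,1,8,6],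
  [4,4,4],
  [4,0,5,3,0],
  [4,2,5,0],
  [8,4,8,4],
  [4,6,5,8,7,5,0,0,6,1,1,4,6,8,4,7,5,0,0,7,1,1]]
def RH : List (List ℕ) := []
def HL : List ℕ := [0,1,2,3,6,7,8]
def S : List ℕ := [0,1,2,3,4,5,6,7,8]
theorem relP : ∀ r ∈ R, evw π r = 1 := env.eq_one_of_allId hN (by decide +kernel)
def seeds : List (List ℕ) := [[4,6,0,6,4],
  [4,6,4,6,0,6,4,6,4]]
noncomputable def pc0 : ℕ := 0x188000bc1000188000c89000198000c08000198000bc0000190000bc1000188000b06000180000986000178000847000118000b030001600008880001600003c40001480008810001480008c80001480003c50001300009080001300008c00001300003840001200008400001200003850001180003040001100003050001080002c50000700003880000700003000000700003030000600002c30000600002c00000600003c80000780003830000780002c20000780002c10000780003800000880003c90000580002c80000880003800000880003830000880002c20000880002c10000780003870000780001c60000700001c70000600002c70000600001060000580001070000380001c30000380001080000380001c0000038000004000020000100000020000102000020000005000000000008000000000003000000000001000000000009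
noncomputable def pT : Tr := (.leaf pc0)
noncomputable def pJ0_0 : List ℕ := [0x2,1,1,1,0,0x240000300002000c006,0x900000c0000400002001000a,0,0x3c0000500003800c00e,0x3c0000600002000c012,0xf00000c0000e000040010016,0,0,0x1900005800801a,0,0,0x1f00007000801a,0,0x8c000170000340000b00005801401e,0x2300005c0001200004400011000070018022,0x940002200009c00c026,0x880002900007400014000040000100000400001300005802402a,0x230000a8000170000480001100007801802e,0x2c0000a4008032,0x2c00008c008036,0x2c00009400803a,0x2c00009c00803e,0x6c0002a0000c0000210000b8014042,0x1b0000a8000300000bc000200000cc018046,0xdc000310000a800c04a,0xd0000330000e800c04e,0xf4000390000e800c052,0xd0000360000f800c056,0,0,0,0,0x490000b80003300010801000a,0,0x1340003d00011800c00e,0x1340004000012000c012,0,0x14c0003600011800c05a,0x530000d40003f00011001005e,0,0x1640003600011000c012,0x1500005700016800c04a,0,0,0,0,0,0x19c0005f00012800050000180014062,0x18c0005c000138000600001a00006700019001c066,0x6b000194008036]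
noncomputable def pJ0 : List ℕ := pJ0_0
def pspec : List ℕ := [188416,90116,81924,90112,98309,81928,32773,40966,49158,16386,57363,65540,122880,114688,139264,131072,65538,49156,24576,8193,16389,24578,98310,81929,65546,49160]
noncomputable def prules : List (List ℕ) := pspec.map (mkRule 8 ((R ++ RH) ++ trivRels 8 9))
theorem pk0 : chkFacts (look pT) 8 9 (maskL HL) prules pJ0 0 = true := by decide +kernel
theorem ps0 : chkSeed (look pT) 8 9 55 [4,6,0,6,4] 0xe0000780003100005c00009005 = true := by decide +kernel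
theorem ps1 : chkSeed (look pT) 8 9 55 [4,6,4,6,0,6,4,6,4] 0xe000078000580001880006d00017c0004300005c00009009 = true := by decide +kernel
theorem seeds_mem {G : Type*} [Group G] {val : ℕ → G} {H : Subgroup G} (hv : ∀ l, val (linv 8 l) = (val l)⁻¹) (he : val 9 = 1)
    (hR : ∀ r ∈ R ++ RH, evw val r = 1) (hH : ∀ l ∈ HL, val l ∈ H) : ∀ w ∈ seeds, evw val w ∈ H := by
  have P : PHyp val H 8 9 (maskL HL) prules := pHyp_mk hv he hR hH pspec
  have h0 := holds_start val H (look pT)
  have h1 := chkFacts_step (k' := 55) P h0 pk0 (by decide +kernel)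
  intro w hw
  simp only [seeds, List.mem_cons, List.not_mem_nil, or_false] at hw
  rcases hw with rfl | rfl
  · exact chkSeed_sound P h1 ps0
  · exact chkSeed_sound P h1 ps1
def spec : List ℕ := [32768,73728,90114,90118,98304,81922,81926,40964,65536,49156,57350,65542,49160,57346,57354,40968,40970,65544,49154,49162,16384,16390,24576,24580,24582,40962,65538,49164,57362,0,8192,106498,40960,40966,65540,65546,49152,49158,57344,57352]
noncomputable def rules : List (List ℕ) := spec.map (mkRule 8 R)
noncomputable def hs : List (List ℕ) := HL.map (fun z => [z]) ++ seeds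
noncomputable def D0 : ℕ := Nat.shiftLeft 1 0
noncomputable def K0 : List ℕ := List.replicate 9 0
def steps0_0 : List ℕ := [3,2,32771,10,65539,26,98307,16,20,24,28,16,20,24,28,16,20,1,26,5,18,9,10,13,2,17,34,21,2,25,14,114699,2,9,10,29,10,33,37,14,41,2,9,10,13,2,17,34,21,2,25,14,33,34,45,6,49,6,53,57,10,9,10,13,2,17,34,21,2,25,14,131091,2,9,10,29,10,33,37,14,41,2,9,10,13,2,17,34,21,2,25,14,61,14,65,6,33,34,45,6,69,34,73,2,49,6,77,6,53,34,57,10,81,2,85,14,89,93,97,14,9,10,13,2,17,34,21,2,25,14,101,2,29,10,65,6,33,34,105,2,73,2,37,14,49,6,109,34,41,2,57,10,113,117,2,121,10,9,10,13,2,17,34,21,2,25,14,125,26,129,26,133,30,137,26,141,26,145,26,149,30,153,26,157,30,1,26]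
theorem run0 : tcRun A 8 0 rules hs (steps0_0) (finSt A S (ival 0 63)) D0 K0 = true := by decide +kernel
theorem done {G : Type*} [Group G] {val : ℕ → G} {H : Subgroup G} (hv : ∀ l, val (linv 8 l) = (val l)⁻¹) (he : val 9 = 1)
    (hR : ∀ r ∈ R ++ RH, evw val r = 1) (hH : ∀ l ∈ HL, val l ∈ H) : TCDone val H π 0 S (ival 0 63) := by
  have T : TCHyp val H 64 π A 8 rules hs := tcHyp_mk env hv pinv (fun r hr => hR r (List.mem_append_left _ hr)) relP hH (seeds_mem hv he hR hH) spec
  have h0 : Inv val H π 0 D0 K0 := inv_init val H π 0 9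
  exact tcRun_fin T h0 run0
end H93.U33L1
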