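import Cfsg.Agent.H57.DPCSpec
import Cfsg.Agent.H52.Sec6c
import Cfsg.Agent.H14.FStar

/-! Chapter C+KM of S3275, slot B (the components lemma). -/

set_option autoImplicit false

open Subgroup Cfsg H98 H48.DP H57.DPC

namespace H93.DPC

universe u

variable {G : Type*} [Group G]

theorem le_ce_of_comm {H K : Subgroup G} (hK : K ≤ H) {O : Subgroup H}
    (h : ⁅K.subgroupOf H, O⁆ = ⊥) : O.map H.subtype ≤ Ce K := by
  rintro _ ⟨o, ho, rfl⟩ k hk
  have h1 := commutator_eq_bot_iff_le_centralizer.mp h (show (⟨k, hK hk⟩ : H) ∈ K.subgroupOf H from hk)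
    o ho
  exact (congrArg Subtype.val h1).symm

theorem c1_ne_top [IsSimpleGroup G] (hnc : ¬ IsMulCommutative G) {x : G} (hx : x ≠ 1) :
    C1 x ≠ ⊤ := by
  intro e
  have hz : x ∈ center G := mem_center_iff.mpr fun g =>
    mem_centralizer_singleton_iff.mp (show g ∈ C1 x from e ▸ mem_top g)
  rcases (inferInstance : (center G).Normal).eq_bot_or_eq_top with h | h
  · exact hx (by simpa [h] using hz)
  · exact hnc ⟨⟨fun a b => mem_center_iff.mp (show b ∈ center G from h ▸ mem_top b) a⟩⟩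

theorem jobB : JobB.{u} := by
  intro hCM hFs hPr hRR hB1 G _ _ h N hZO B T tB hT hT1 hBT x hx hx1 hTx K hK
  have := h.simple
  have h3 : Fact (Nat.Prime 3) := ⟨Nat.prime_three⟩
  have hx3 : x ^ 3 = 1 := tB.el.2 x hx
  have hox : orderOf x = 3 := orderOf_eq_prime hx3 hx1
  have hO2 := hZO B tB x hx hx1
  have hcm : ∀ J, IsComponentOf J (C1 x) → Cm (C1 x) J := fun J hJ =>
    hCM G h.toHyp _ J (c1_ne_top h.nc hx1) hO2 hJ
  have hxc : ∀ J, IsComponentOf J (C1 x) → x ∈ Ce J := fun J hJ k hk =>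
    mem_centralizer_singleton_iff.mp (hJ.1 hk)
  have cm := hcm K hK
  have hBH : B ≤ C1 x := fun b hb => mem_centralizer_singleton_iff.mpr
    (congrArg Subtype.val (tB.el.1.is_comm.comm ⟨b, hb⟩ ⟨x, hx⟩))
  have hBK : B ≤ No K := hRR G N B _ K tB.mx tB.el tB.big hBH cm
  obtain ⟨-, hpr⟩ := hPr G K cm.sm.cen cm.inn
  obtain ⟨hcard, -, hel, -, hnrm⟩ := hpr B hBK
  have hP9 : Nat.card (pr K B) ≤ 9 := cm.sm.rk _ inf_le_left (hel 3 tB.el)
  have hC3 : Nat.card ↥(B ⊓ Ce K) ≤ 3 := by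
    have h9 := hB1 G h N hZO B K tB x hx hx1 hK
    obtain ⟨k, hk⟩ := ((H87.KM.pgrp Nat.prime_three tB.el).to_le
      (inf_le_left : B ⊓ Ce K ≤ B)).exists_card_eq
    rw [hk] at h9 ⊢
    have : k < 2 := (Nat.pow_lt_pow_iff_right (by norm_num : 1 < 3)).mp (by simpa using h9)
    interval_cases k <;> norm_num
  have hN : N ≤ 27 := tB.big.trans (by rw [hcard]; nlinarith)
  have hP3 : 3 < Nat.card (pr K B) := by
    have := tB.cube.trans tB.big
    rw [hcard] at this
    nlinarith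
  have hW : ∀ w ∈ Ce K, w ∈ C1 x → orderOf w = 3 → w ∈ zpowers x := by
    intro w hwK hwx how
    by_contra hw
    obtain ⟨V, hVK, y, hyK, hV, hV1, hoy, hyV⟩ := cm.sm.loc
    have ex := H87.KM.elem_zpowers hx3
    have ew : IsElementaryAbelian 3 (zpowers w) := H87.KM.elem_zpowers (how ▸ pow_orderOf_eq_one w)
    have ey : IsElementaryAbelian 3 (zpowers y) := H87.KM.elem_zpowers (hoy ▸ pow_orderOf_eq_one y)
    have eU : IsElementaryAbelian 3 (zpowers x ⊔ zpowers w) := H46.elem_sup ex ew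
      (zpowers_le.mpr (by
        rintro _ ⟨k, rfl⟩
        exact ((Commute.symm (mem_centralizer_singleton_iff.mp hwx)).zpow_left k).eq))
    have hUK : zpowers x ⊔ zpowers w ≤ Ce K :=
      sup_le (zpowers_le.mpr (hxc K hK)) (zpowers_le.mpr hwK)
    have eB : IsElementaryAbelian 3 ((zpowers x ⊔ zpowers w) ⊔ zpowers y) := H46.elem_sup eU ey
      (H46.le_cent_symm (hUK.trans (H46.cent_anti (zpowers_le.mpr hyK))))
    have c9 : 9 ≤ Nat.card ↥(zpowers x ⊔ zpowers w) := by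
      have := H3.mul_card_le_of_lt' (H87.KM.pgrp Nat.prime_three eU)
        (lt_of_le_of_ne (le_sup_left : zpowers x ≤ _) fun e =>
          hw (e ▸ mem_sup_right (mem_zpowers w)))
      rwa [Nat.card_zpowers, hox] at this
    have c27 : 27 ≤ Nat.card ↥((zpowers x ⊔ zpowers w) ⊔ zpowers y) := by
      have := H3.mul_card_le_of_lt' (H87.KM.pgrp Nat.prime_three eB)
        (lt_of_le_of_ne (le_sup_left : zpowers x ⊔ zpowers w ≤ _) fun e => by
          have hy : y ∈ zpowers x ⊔ zpowers w := e ▸ mem_sup_right (mem_zpowers y)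
          have hy1 : y ∈ K ⊓ Ce K := ⟨hyK, hUK hy⟩
          rw [cm.sm.cen, mem_bot] at hy1
          simp [hy1] at hoy)
      omega
    have tB' : Top N ((zpowers x ⊔ zpowers w) ⊔ zpowers y) :=
      ⟨tB.mx, tB.cube, eB, hN.trans c27, V, hV, hV1,
        sup_le (hUK.trans ((H46.cent_anti hVK).trans (H46.cent_le_nrm V))) (zpowers_le.mpr hyV)⟩
    have h9 := hB1 G h N hZO _ K tB' x (mem_sup_left (mem_sup_left (mem_zpowers x))) hx1 hK
    have := card_le_of_le (le_inf (le_sup_left : zpowers x ⊔ zpowers w ≤ _ ⊔ zpowers y) hUK)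
    omega
  have hTK : T ≤ No K := fun g hg => cm.two g (hTx hg) (hT.to_le (zpowers_le.mpr hg))
  obtain ⟨-, hp2, -, hbot, -⟩ := hpr T hTK
  have hTC : T ≤ Ce K := by
    rcases cm.sm.f4 (pr K B) (pr K T) inf_le_left inf_le_left (hel 3 tB.el) (hp2 2 hT)
      (hnrm T hTK hBT) with e | e
    · exact hbot e
    · omega
  have hOK : pCoreOf 3 (C1 x) ≤ Ce K := le_ce_of_comm hK.1 (H14.comp_commutator_pCore hK.2 3)
  have hTO : T ≤ Ce (pCoreOf 3 (C1 x)) := by
    refine H52.coprime_odd_faithful_Ohm1 Nat.prime_three (by norm_num) (isPGroup_pCoreOf _)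
      (le_normalizer_pCoreOf_of_le hTx) ?_ ?_
    · obtain ⟨k, hk⟩ := hT.exists_card_eq
      rw [hk]
      exact Nat.Coprime.pow_left k (by norm_num)
    · intro w hw how
      obtain ⟨k, rfl⟩ := hW w (hOK hw) (pCoreOf_le _ hw) how
      intro t ht
      exact mem_centralizer_singleton_iff.mpr
        (Commute.zpow_right (mem_centralizer_singleton_iff.mp (hTx ht)) k).eq
  refine hT1 (hFs G h.nd (C1 x) T hO2 hTx hT hTO fun J hJ => ?_)
  by_cases e : J = K
  · exact e ▸ hTC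
  exfalso
  have hJK : J ≤ Ce K := by
    have := le_ce_of_comm hK.1 (H14.comp_commute_of_ne hK.2 hJ.2 fun e2 => e (by
      have := congrArg (fun S => S.map (C1 x).subtype) e2
      simpa [subgroupOf_map_subtype, inf_eq_left.mpr hK.1, inf_eq_left.mpr hJ.1] using this.symm))
    rwa [subgroupOf_map_subtype, inf_eq_left.mpr hJ.1] at this
  obtain ⟨-, -, y, hyJ, -, -, hoy, -⟩ := (hcm J hJ).sm.loc
  have hy : y ∈ J ⊓ Ce J := ⟨hyJ, zpowers_le.mpr (hxc J hJ) (hW y (hJK hyJ) (hJ.1 hyJ) hoy)⟩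
  rw [(hcm J hJ).sm.cen, mem_bot] at hy
  simp [hy] at hoy

end H93.DPC
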