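import Cfsg.Agent.H14.CBSpec
import Cfsg.Agent.H14.FEKit

/-! Slot CB-H1 of the tower for S1308: a group transitive on the involutions of `E`. -/

set_option autoImplicit false

namespace H93.CbH1

open Cfsg Subgroup MulAction H14 H98 H1.Gold H31.S2 H14.GC H14.FE H14.NF H14.CB
open scoped commutatorElement

universe u

theorem el_two {G : Type u} [Group G] {A : Subgroup G} (h : El A) : IsPGroup 2 A :=
  isPGroup_iff_forall.2 fun a ha => ⟨1, by rw [pow_one, pow_two, h a ha]⟩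

theorem jobH1 : JH1.{u} := by
  intro act tr G _ _ Q E h Q₁ T P P' C ln pg' x hx xT PC xC r hr s hs r1 s1
  have : Fact (Nat.Prime 2) := ⟨Nat.prime_two⟩
  obtain ⟨-, hn, htr⟩ := tr G Q E h Q₁ T P P' ln pg' x hx xT
  obtain ⟨g, hg, rfl⟩ := htr r hr s hs r1 s1
  obtain ⟨g₁, eQ, eT⟩ := ln.col.p2
  have TQ : T ≤ Q₁ := by
    rw [eQ, eT]
    exact cj_mono g₁ h.le
  have elT : El T := fun t ht => by
    rw [eT] at ht
    have := h.el _ (mem_cj.1 ht)
    calc t * t = g₁ * (g₁⁻¹ * t * g₁ * (g₁⁻¹ * t * g₁)) * g₁⁻¹ := by group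
      _ = 1 := by rw [this]; group
  have cE : cen E ≤ nor Q := fun c hc => by
    have := h.cen_le 1 r (by rw [cj_one]; exact h.le hr) ⟨r1, h.el r hr⟩
      (mem_centralizer_singleton_iff.2 (hc r hr).symm)
    rwa [cj_one] at this
  have cT : cen T ≤ nor Q₁ := fun c hc => by
    have ht : g₁ * r * g₁⁻¹ ∈ T := eT ▸ conj_mem_cj hr
    have := h.cen_le g₁ _ (conj_mem_cj (h.le hr)) ⟨fun e => r1 (by simpa using e), elT _ ht⟩
      (mem_centralizer_singleton_iff.2 (hc _ ht).symm)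
    rwa [← eQ] at this
  have ET : E ≤ cen T := fun e he t ht => (ln.col.comm ht e he).symm
  have exc := h.exc _ _ _ _ (h.sym _ _ _ _ ln.col)
  have hF : IsPGroup 2 ↥(E ⊔ T) :=
    (el_two h.el).to_sup_of_normal_right' (el_two elT) (le_normalizer_of_le_centralizer ET)
  have FQ : (E ⊔ T) ⊓ Q = E :=
    le_antisymm (exc _ (le_inf inf_le_right (inf_le_left.trans
      (sup_le (ET.trans cT) (TQ.trans le_normalizer)))) (hF.to_le inf_le_left)
      (le_inf le_sup_left h.le)) (le_inf le_sup_left h.le)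
  have gF : g ∈ nor (E ⊔ T) := hn hg
  have gC : g ∈ cen C := sup_le PC (zpowers_le.2 xC) hg
  have gQ : g ∈ nor Q := by
    rw [← cj_eq_self_iff]
    by_contra hne
    refine h.ti g 1 (by rwa [cj_one]) _ ⟨conj_mem_cj (h.le hr), ?_⟩ ⟨s1, h.el _ hs⟩
    rw [cj_one]
    exact h.le hs
  have gE : g ∈ nor E := by
    rw [← FQ]
    exact zpowers_le.1 (le_normalizer_inf (zpowers_le.2 gF) (zpowers_le.2 gQ))
  set M := Q ⊓ cen E ⊓ nor (E ⊔ T) ⊓ cen C with hM
  have gM : g ∈ nor M := zpowers_le.1 (le_normalizer_inf (le_normalizer_inf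
    (le_normalizer_inf (zpowers_le.2 gQ) (le_normalizer_centralizer (zpowers_le.2 gE)))
    (le_normalizer_of_le (zpowers_le.2 gF))) (le_normalizer_of_le (zpowers_le.2 gC)))
  have syl : IsSyl 2 P M := by
    refine ⟨le_inf (le_inf ln.pg.le (le_sup_left.trans hn)) PC, ln.pg.two,
      fun P₁ h2 h1 hle => le_antisymm (fun v hv => ?_) h1⟩
    obtain ⟨⟨⟨vQ, vE⟩, vF⟩, -⟩ := hle hv
    obtain ⟨y, yP, hy⟩ := act G Q E h Q₁ T P ln v vE fun t ht => by
      rw [← FQ]
      exact ⟨comm_mem_left (mem_sup_right ht) vF, comm_mem_right (cE (ln.col.comm ht)) vQ⟩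
    have wT : y⁻¹ * v ∈ cen T := fun t ht => by
      have e := hy t⁻¹ (inv_mem ht)
      rw [commutatorElement_def, commutatorElement_def, inv_inv] at e
      calc t * (y⁻¹ * v) = y⁻¹ * t * (t⁻¹ * y * t * y⁻¹) * v := by group
        _ = y⁻¹ * v * t := by rw [← e]; group
    have wP : y⁻¹ * v ∈ P₁ := mul_mem (inv_mem (h1 yP)) hv
    have UP : E ⊔ zpowers (y⁻¹ * v) ≤ P₁ := sup_le (ln.pg.lt.le.trans h1) (zpowers_le.2 wP)
    have := exc _ (le_inf (fun a ha => (hle (UP ha)).1.1.1)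
      (sup_le (ET.trans cT) (zpowers_le.2 (cT wT)))) (h2.to_le UP) le_sup_left
      (mem_sup_right (mem_zpowers _))
    have := mul_mem yP (ln.pg.lt.le this)
    rwa [mul_inv_cancel_left] at this
  obtain ⟨c, hc, e⟩ := (syl.cj_of_mem_normalizer gM).exists_cj_eq syl
  rw [cj_cj, cj_eq_self_iff] at e
  refine ⟨c * g, ⟨⟨e, mul_mem hc.1.2 gF⟩, mul_mem hc.2 gC⟩, ?_⟩
  have e2 := hc.1.1.2 _ hs
  calc c * g * r * (c * g)⁻¹ = c * (g * r * g⁻¹) * c⁻¹ := by group
    _ = g * r * g⁻¹ := by rw [← e2]; group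

end H93.CbH1
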