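import Cfsg.Agent.H44.CD2
import Cfsg.Agent.H32.McE
import Cfsg.Agent.H4.Product

/-! The group `Lin N` of linear characters with its action; degrees over a character of a normal
subgroup (blueprints/DEG.md). -/

set_option autoImplicit false
open Cfsg H28 H32 H44

namespace H93.DG

/-- The group of linear characters. -/
def Lin (G : Type*) [Group G] := G →* ℂˣ

section lin

variable {G : Type*} [Group G]

noncomputable instance : CommGroup (Lin G) := inferInstanceAs (CommGroup (G →* ℂˣ))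

instance [Finite G] : Finite (Lin G) := finite_hom G

/-- Evaluation at `g`. -/
noncomputable def Lin.ev (g : G) : Lin G →* ℂˣ where
  toFun l := (show G →* ℂˣ from l) g
  map_one' := rfl
  map_mul' _ _ := rfl

/-- The underlying homomorphism. -/
def Lin.hom (l : Lin G) : G →* ℂˣ := l

theorem Lin.ev_apply (g : G) (l : Lin G) : Lin.ev g l = l.hom g := rfl

theorem Lin.ext' {l m : Lin G} (h : ∀ g, l.hom g = m.hom g) : l = m := MonoidHom.ext h

theorem Lin.one_hom (g : G) : (1 : Lin G).hom g = 1 := rfl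

theorem Lin.mul_hom (l m : Lin G) (g : G) : (l * m).hom g = l.hom g * m.hom g := rfl

theorem Lin.pow_hom (l : Lin G) (n : ℕ) (g : G) : (l ^ n).hom g = l.hom g ^ n := rfl

theorem Lin.inv_hom (l : Lin G) (g : G) : l⁻¹.hom g = (l.hom g)⁻¹ := rfl

/-- The character of a linear character. -/
noncomputable def ch : Lin G →* (G → ℂ) := homToFun G

theorem ch_apply (l : Lin G) (g : G) : ch l g = l.hom g := rfl

theorem ch_injective : Function.Injective (ch : Lin G → G → ℂ) := homToFun_injective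

theorem ch_one : ch (1 : Lin G) = fun _ => 1 := rfl

theorem isIrr_ch (l : Lin G) : IsIrrCharacter G (ch l) := isIrrCharacter_of_hom l.hom

theorem ch_apply_one (l : Lin G) : ch l 1 = 1 := by simp [ch_apply]

theorem charDegree_ch (l : Lin G) : charDegree (ch l) = 1 := charDegree_hom l.hom

theorem ch_ne_one {l : Lin G} (h : l ≠ 1) : ch l ≠ fun _ => 1 := fun e => h (ch_injective e)

theorem mul_ch_cancel {θ φ : G → ℂ} (l : Lin G) (h : θ * ch l = φ * ch l) : θ = φ :=
  funext fun g => mul_right_cancel₀ (l.hom g).ne_zero (congrFun h g)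

theorem charDegree_mul_ch (θ : G → ℂ) (l : Lin G) : charDegree (θ * ch l) = charDegree θ :=
  charDegree_congr (by rw [Pi.mul_apply, ch_apply_one, mul_one])

theorem exists_ch {θ : G → ℂ} (hθ : IsCharacter G θ) (h : charDegree θ = 1) :
    ∃ l : Lin G, θ = ch l := hθ.exists_hom (hθ.charDegree_eq_one_iff.1 h)

variable [Finite G]

theorem card_lin : Nat.card (Lin G) = (commutator G).index := card_hom_units

theorem isIrr_mul_ch {θ : G → ℂ} (hθ : IsIrrCharacter G θ) (l : Lin G) :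
    IsIrrCharacter G (θ * ch l) :=
  hθ.mul_linear (isIrr_ch l).isCharacter (ch_apply_one l)

theorem detH_mul_ch {χ : G → ℂ} (hχ : IsCharacter G χ) (β : Lin G) (g : G) :
    detH (χ * ch β) g = detH χ g * β.hom g ^ charDegree χ := by
  obtain ⟨n, ρ, rfl⟩ := hχ
  let σ : Representation ℂ G (Fin n → ℂ) :=
    { toFun := fun g => (β.hom g : ℂ) • ρ g
      map_one' := by simp
      map_mul' := fun a b => by rw [smul_mul_smul_comm, map_mul, map_mul, Units.val_mul] }
  have hσ : ρ.character * ch β = σ.character := by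
    ext g
    simp [σ, Representation.character, ch_apply, mul_comm]
  refine Units.ext ?_
  rw [hσ, Units.val_mul, detH_apply, detH_apply, detChar_rep, detChar_rep, charDegree_rep]
  change LinearMap.det ((β.hom g : ℂ) • ρ g) = _
  rw [LinearMap.det_smul, mul_comm, Units.val_pow_eq_pow_val]

theorem pow_eq_one_of_mul_ch_eq {θ : G → ℂ} (hθ : IsCharacter G θ) {l : Lin G}
    (h : θ * ch l = θ) : l ^ charDegree θ = 1 := by
  refine Lin.ext' fun g => ?_
  have := detH_mul_ch hθ l g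
  rw [h] at this
  exact (mul_eq_left.1 this.symm :)

/-- A linear character trivial on the common kernel of a group `V` of linear characters lies in
`V`. -/
theorem mem_of_ker_le (V : Subgroup (Lin G)) {l : Lin G}
    (h : ∀ g, (∀ v ∈ V, v.hom g = 1) → l.hom g = 1) : l ∈ V := by
  classical
  cases nonempty_fintype G
  cases nonempty_fintype V
  by_contra hl
  have h0 : classInner (∑ v : V, ch (v : Lin G)) (ch l) = 0 := by
    rw [classInner_sum_left]
    exact Finset.sum_eq_zero fun v _ => (isIrr_ch _).classInner_of_ne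
      (isIrr_ch _) fun e => hl (ch_injective e ▸ v.2)
  have h1 : ∀ g, (∑ v : V, ch (v : Lin G)) g * (starRingEnd ℂ) (ch l g) =
      if ∀ v ∈ V, v.hom g = 1 then (Fintype.card V : ℂ) else 0 := by
    intro g
    rw [Finset.sum_apply]
    split_ifs with hg
    · have : ∀ v : V, ch (v : Lin G) g = 1 := fun v => by simp [ch_apply, hg v v.2]
      rw [Finset.sum_congr rfl fun v _ => this v]
      simp [ch_apply, h g hg]
    · push Not at hg
      obtain ⟨v, hv, hg⟩ := hg
      let f : V →* ℂ := (Units.coeHom ℂ).comp ((Lin.ev g).comp V.subtype)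
      have : ∑ v : V, f v = 0 := sum_hom_units_eq_zero f fun e => hg (Units.ext
        (DFunLike.congr_fun e (⟨v, hv⟩ : V) :))
      rw [show ∑ v : V, ch (v : Lin G) g = 0 from this, zero_mul]
  rw [classInner_def, Finset.sum_congr rfl fun g _ => h1 g, ← Finset.sum_filter, Finset.sum_const,
    nsmul_eq_mul] at h0
  refine mul_ne_zero (inv_ne_zero (card_ne_zero' G)) (mul_ne_zero ?_ ?_) h0
  · exact Nat.cast_ne_zero.2 (Finset.card_ne_zero.2 ⟨1, by simp⟩)
  · exact Nat.cast_ne_zero.2 Fintype.card_ne_zero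

end lin

section act

variable {G : Type*} [Group G] {N : Subgroup G} [hN : N.Normal]

noncomputable instance : MulDistribMulAction G (Lin N) where
  smul g l := cjh g⁻¹ l.hom
  one_smul l := by
    change cjh (1 : G)⁻¹ l.hom = l.hom
    rw [inv_one, cjh_one]
  mul_smul a b l := by
    change cjh (a * b)⁻¹ l.hom = cjh a⁻¹ (cjh b⁻¹ l.hom)
    rw [mul_inv_rev, cjh_mul]
  smul_mul _ _ _ := rfl
  smul_one _ := rfl

theorem smul_hom (g : G) (l : Lin N) (n : N) :
    (g • l).hom n = l.hom ⟨g⁻¹ * n * g⁻¹⁻¹, hN.conj_mem n n.2 g⁻¹⟩ := rfl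

theorem cj_ch (g : G) (l : Lin N) : cj g (ch l) = ch (g⁻¹ • l) := by
  ext n
  simp only [cj_apply, ch_apply, smul_hom, inv_inv]

theorem cj_mul_ch (g : G) (θ : N → ℂ) (l : Lin N) :
    cj g (θ * ch l) = cj g θ * ch (g⁻¹ • l) := by rw [cj_mul_fun, cj_ch]

theorem inertia_ch (l : Lin N) : inertia (ch l) = MulAction.stabilizer G l := by
  ext g
  rw [mem_inertia, cj_ch, ch_injective.eq_iff, MulAction.mem_stabilizer_iff, inv_smul_eq_iff,
    eq_comm]

theorem smul_of_mem {g : G} (hg : g ∈ N) (l : Lin N) : g • l = l :=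
  MulAction.mem_stabilizer_iff.1 (inertia_ch l ▸ le_inertia (isIrr_ch l).isClassFunction hg)

theorem inertia_mul_of_inv {θ : N → ℂ} {l : Lin N} (hl : ∀ g : G, g • l = l) :
    inertia (θ * ch l) = inertia θ := by
  ext g
  rw [mem_inertia, mem_inertia, cj_mul_ch, hl]
  exact ⟨mul_ch_cancel l, fun h => by rw [h]⟩

theorem exists_ch_of_eq_one {θ : N → ℂ} (hθ : IsIrrCharacter N θ)
    (h : (inertia θ).index * charDegree θ = 1) :
    ∃ m : Lin N, θ = ch m ∧ ∀ g : G, g • m = m := by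
  obtain ⟨m, rfl⟩ := exists_ch hθ.isCharacter (Nat.eq_one_of_mul_eq_one_left h)
  refine ⟨m, rfl, fun g => MulAction.mem_stabilizer_iff.1 ?_⟩
  rw [← inertia_ch, Subgroup.index_eq_one.1 (Nat.eq_one_of_mul_eq_one_right h)]
  trivial

end act

variable {G : Type*} [Group G] [Finite G] {N : Subgroup G} [hN : N.Normal] [Fintype N]

/-- `c` is the degree of an irreducible character of `G` over `θ`. -/
def Dg (θ : N → ℂ) (c : ℕ) : Prop :=
  ∃ χ, IsIrrCharacter G χ ∧ classInner (fun n : N => χ n) θ ≠ 0 ∧ charDegree χ = c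

omit hN in
theorem exists_dg {θ : N → ℂ} (hθ : IsIrrCharacter N θ) : ∃ c, Dg θ c := by
  cases nonempty_fintype G
  obtain ⟨χ, h1, h2⟩ := exists_irr_over hθ
  exact ⟨_, χ, h1, h2, rfl⟩

omit [Finite G] in
theorem Dg.exists_res {θ : N → ℂ} (hθ : IsIrrCharacter N θ) {c : ℕ} [Fintype G] (h : Dg θ c) :
    ∃ (χ : G → ℂ) (e : ℕ), IsIrrCharacter G χ ∧ charDegree χ = c ∧ e ≠ 0 ∧
      c = e * ((inertia θ).index * charDegree θ) ∧
      (fun n : N => χ n) = (e : ℂ) • ∑ φ ∈ conjSet θ, φ := by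
  obtain ⟨χ, hχ, h, rfl⟩ := h
  obtain ⟨e, he⟩ := (hχ.isCharacter.restrict N).classInner_nat hθ.isCharacter
  have h1 := clifford_degree hχ hθ h
  have h2 := clifford hχ hθ h
  rw [he] at h h1 h2
  rw [← hθ.cast_charDegree] at h1
  exact ⟨χ, e, hχ, rfl, Nat.cast_ne_zero.1 h, charDegree_eq (by rw [h1]; push_cast; ring), h2⟩

theorem Dg.dvd {θ : N → ℂ} (hθ : IsIrrCharacter N θ) {c : ℕ} (h : Dg θ c) :
    (inertia θ).index * charDegree θ ∣ c := by
  cases nonempty_fintype G
  obtain ⟨-, e, -, -, -, h, -⟩ := h.exists_res hθ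
  exact h ▸ dvd_mul_left _ _

theorem Dg.dvd_ch {l : Lin N} {c : ℕ} (h : Dg (ch l) c) : (MulAction.stabilizer G l).index ∣ c := by
  have := h.dvd (isIrr_ch l)
  rwa [charDegree_ch, mul_one, inertia_ch] at this

omit hN [Finite G] in
theorem Dg.mem_cd {θ : N → ℂ} {c : ℕ} (h : Dg θ c) : c ∈ charDegrees G := by
  obtain ⟨χ, h1, -, rfl⟩ := h
  exact H44.mem_cd h1

omit [Fintype N] in
theorem exists_cd_dvd (l : Lin N) : ∃ d ∈ charDegrees G, (MulAction.stabilizer G l).index ∣ d := by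
  cases nonempty_fintype N
  obtain ⟨c, h⟩ := exists_dg (isIrr_ch l)
  exact ⟨c, h.mem_cd, h.dvd_ch⟩

omit hN [Finite G] in
theorem Dg.mem {θ : N → ℂ} (hθ : IsIrrCharacter N θ) (h1 : θ ≠ fun _ => 1) {c : ℕ} (h : Dg θ c) :
    c ∈ relCharDegrees N := by
  obtain ⟨χ, hχ, h, rfl⟩ := h
  refine ⟨⟨χ, hχ⟩, ?_, rfl⟩
  by_contra hc
  push Not at hc
  have : (fun n : N => χ n) = χ 1 • fun _ : N => (1 : ℂ) := funext fun n => by
    simpa using hc n n.2
  rw [this, classInner_smul_left, isIrrCharacter_one.classInner_of_ne hθ h1.symm, mul_zero] at h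
  exact h rfl

theorem exists_of_mem_rel {χ : G → ℂ} (hχ : IsIrrCharacter G χ) (h : ∃ x ∈ N, χ x ≠ χ 1) :
    ∃ θ : N → ℂ, IsIrrCharacter N θ ∧ (θ ≠ fun _ => 1) ∧ classInner (fun n : N => χ n) θ ≠ 0 := by
  cases nonempty_fintype G
  obtain ⟨x, hx, h⟩ := h
  obtain ⟨θ, h1, h2⟩ := exists_constituent_res (H := N) hχ.isCharacter hχ.apply_one_ne_zero
  refine ⟨θ, h1, ?_, h2⟩
  rintro rfl
  exact h (apply_of_mem_charKer (hχ.le_charKer_of_classInner_ne_zero N h2 hx))

omit hN [Fintype N] in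
theorem one_lt_of_mem_rel (hG : N ≤ commutator G) {c : ℕ} (h : c ∈ relCharDegrees N) : 1 < c := by
  obtain ⟨⟨χ, hχ⟩, ⟨x, hx, h⟩, rfl⟩ := h
  refine lt_of_le_of_ne hχ.charDegree_pos fun e => h ?_
  exact apply_of_mem_charKer (hχ.charDegree_eq_one_iff.1 e.symm (hG hx))

omit hN [Fintype N] in
theorem detH_res (hG : N ≤ commutator G) {χ : G → ℂ} (hχ : IsCharacter G χ) (n : N) :
    detH (fun n : N => χ n) n = 1 :=
  (detH_comp N.subtype hχ n).trans (Abelianization.commutator_subset_ker _ (hG n.2))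

/-- The determinant argument. -/
theorem pow_eq_one_of_dg (hG : N ≤ commutator G) {θ : N → ℂ} (hθ : IsIrrCharacter N θ)
    {l : Lin N} (hl : ∀ g : G, g • l = l) {a b : ℕ} (ha : Dg θ a)
    (hb : Dg (θ * ch l) b) : l ^ (a * b) = 1 := by
  classical
  cases nonempty_fintype G
  obtain ⟨χ, e, hχ, rfl, he, -, h1⟩ := ha.exists_res hθ
  obtain ⟨ψ, f, hψ, -, hf, rfl, h2⟩ := hb.exists_res (isIrr_mul_ch hθ l)
  have h3 : ∑ φ ∈ conjSet (θ * ch l), φ = (∑ φ ∈ conjSet θ, φ) * ch l := by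
    have : conjSet (θ * ch l) = (conjSet θ).image (· * ch l) := by
      ext φ
      simp only [mem_conjSet, Finset.mem_image, cj_mul_ch, hl]
      exact ⟨fun ⟨g, h⟩ => ⟨_, ⟨g, rfl⟩, h.symm⟩, fun ⟨_, ⟨g, h⟩, h'⟩ => ⟨g, h ▸ h'.symm⟩⟩
    rw [this, Finset.sum_image fun _ _ _ _ h => mul_ch_cancel l h, Finset.sum_mul]
  have h4 : (f : ℂ) • ((fun n : N => χ n) * ch l) = (e : ℂ) • fun n : N => ψ n := by
    rw [h1, h2, h3, smul_mul_assoc, smul_comm]
  have h5 : l ^ (charDegree χ * f) = 1 := by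
    refine Lin.ext' fun n => ?_
    have : detH _ n = detH _ n := congrArg (fun φ => detH φ n) h4
    rw [detH_nsmul ((hχ.isCharacter.restrict N).mul (isIrr_ch l).isCharacter) hf,
      detH_nsmul (hψ.isCharacter.restrict N) he, detH_res hG hψ.isCharacter,
      detH_mul_ch (hχ.isCharacter.restrict N), detH_res hG hχ.isCharacter, charDegree_restrict,
      one_mul, one_pow, ← pow_mul] at this
    exact this
  rw [← mul_assoc, pow_mul, h5, one_pow]

theorem pow_eq_one_of_dg_ch (hG : N ≤ commutator G) {l : Lin N} (hl : ∀ g : G, g • l = l)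
    {b : ℕ} (hb : Dg (ch l) b) : l ^ b = 1 := by
  have := pow_eq_one_of_dg hG isIrrCharacter_one hl (a := 1) (b := b)
    ⟨_, isIrrCharacter_one, by rw [classInner_one_one]; exact one_ne_zero, charDegree_one⟩
    (by rwa [show (fun _ : N => (1 : ℂ)) * ch l = ch l from one_mul _])
  rwa [one_mul] at this

theorem not_coprime_of_dvd {k a b : ℕ} (hk : k ≠ 1) (ha : k ∣ a) (hb : k ∣ b) : ¬ a.Coprime b :=
  fun h => hk (Nat.eq_one_of_dvd_coprimes h ha hb)

/-- Case (i): an invariant linear character of prime order `p`. -/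
theorem case_inv (hG : N ≤ commutator G) {p : ℕ} (hp : p.Prime) {l : Lin N}
    (hl : ∀ g : G, g • l = l) (ho : orderOf l = p) {a : ℕ} (ha : a ∈ relCharDegrees N) :
    ∃ c ∈ relCharDegrees N, ¬ a.Coprime c ∧ p ∣ c := by
  by_cases hpa : p ∣ a
  · exact ⟨a, ha, not_coprime_of_dvd hp.ne_one hpa hpa, hpa⟩
  obtain ⟨⟨χ, hχ⟩, hx, rfl⟩ := ha
  obtain ⟨θ, hθ, h1, h2⟩ := exists_of_mem_rel hχ hx
  have hd : Dg θ (charDegree χ) := ⟨χ, hχ, h2, rfl⟩
  have hθ' := isIrr_mul_ch hθ l
  obtain ⟨c, hc⟩ := exists_dg hθ'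
  have hpc : p ∣ c := ((Nat.Prime.dvd_mul hp).1 (ho ▸ orderOf_dvd_of_pow_eq_one
    (pow_eq_one_of_dg hG hθ hl hd hc))).resolve_left hpa
  have hne : θ * ch l ≠ fun _ => 1 := by
    intro e
    have e1 : θ = ch l⁻¹ := mul_ch_cancel l (by rw [e, ← map_mul, inv_mul_cancel, ch_one])
    have := pow_eq_one_of_dg_ch hG (l := l⁻¹) (fun g => by rw [smul_inv', hl]) (e1 ▸ hd)
    rw [inv_pow, inv_eq_one] at this
    exact hpa (ho ▸ orderOf_dvd_of_pow_eq_one this)
  refine ⟨c, hc.mem hθ' hne, ?_, hpc⟩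
  by_cases h : (inertia θ).index * charDegree θ = 1
  · obtain ⟨m, rfl, hm⟩ := exists_ch_of_eq_one hθ h
    have e1 := pow_eq_one_of_dg_ch hG hm hd
    have e2 := pow_eq_one_of_dg_ch hG (l := m * l) (fun g => by rw [smul_mul', hm, hl])
      (by rw [map_mul]; exact hc)
    rw [mul_pow, (orderOf_dvd_iff_pow_eq_one (x := l)).1 (ho ▸ hpc), mul_one] at e2
    refine not_coprime_of_dvd (fun e => h1 ?_) (orderOf_dvd_of_pow_eq_one e1)
      (orderOf_dvd_of_pow_eq_one e2)
    rw [orderOf_eq_one_iff.1 e, ch_one]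
  · refine not_coprime_of_dvd h (hd.dvd hθ) ?_
    have := hc.dvd hθ'
    rwa [inertia_mul_of_inv hl, charDegree_mul_ch] at this

end H93.DG
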