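/- L2DEG tower (row S3598): the Sylow `p`-subgroups are TI. -/
import Cfsg.Agent.S4828
import Cfsg.Agent.S4659
import Cfsg.Agent.S0908
import Cfsg.Agent.S0999
import Cfsg.Agent.S2544
import Cfsg.Agent.S2300
import Cfsg.Agent.S4713
import Cfsg.Agent.H61.SL2Lift

set_option autoImplicit false

namespace H93.Ld
open Cfsg Subgroup

universe u

variable {p : ℕ} [hp : Fact p.Prime]

theorem psolv (n : ℕ) : ∀ (X : Type u) [Group X] [Finite X], Nat.card X = n → n < p ^ 3 →
    (∀ χ : IrrCharacter X, ¬ p ∣ charDegree χ.1) → IsPSolvable p X := by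
  induction n using Nat.strong_induction_on with
  | _ n ih =>
  intro X _ _ hn h3 h
  by_cases d : p ∣ Nat.card X
  swap
  · exact H18.isPSolvable_of_coprime (hp.out.coprime_iff_not_dvd.2 d).symm
  by_cases hs : ∀ N : Subgroup X, N.Normal → N = ⊥ ∨ N = ⊤
  swap
  · push Not at hs
    obtain ⟨N, _, h1, h2⟩ := hs
    have a1 := N.card_mul_index
    have a2 := one_lt_index_of_ne_top h2
    have a3 := (one_lt_card_iff_ne_bot N).2 h1
    have b1 : Nat.card N < n := by nlinarith
    have b2 : Nat.card (X ⧸ N) < n := by rw [← index]; nlinarith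
    exact H18.isPSolvable_of_normal_of_quotient N
      (ih _ b1 N rfl (b1.trans h3) (H38.not_dvd_charDegree_normal h N))
      (ih _ b2 _ rfl (b2.trans h3) fun χ => h ⟨_, H28.Cfsg.IsIrrCharacter.inflate χ.2⟩)
  have : Nontrivial X := Finite.one_lt_card_iff_nontrivial.1
    (hp.out.one_lt.trans_le (Nat.le_of_dvd Nat.card_pos d))
  have : IsSimpleGroup X := ⟨hs⟩
  by_cases c : IsCyclic X
  · have : Group.IsSolvable X := Group.isSolvable_of_comm (IsCyclic.commGroup (α := X)).mul_comm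
    exact H18.isPSolvable_of_isSolvable p
  have key : ∀ {Y : Type} [Group Y] (e : X ≃* Y) (χ : Y → ℂ), IsIrrCharacter Y χ → ∀ m : ℕ, χ 1 = m →
      ¬ p ∣ m := fun e χ hχ m hm => by
    have a := H35.coe_deg ⟨_, H28.Cfsg.IsIrrCharacter.comp_mulEquiv hχ e⟩
    simp only [map_one, hm, Nat.cast_inj] at a
    exact a ▸ h ⟨_, H28.Cfsg.IsIrrCharacter.comp_mulEquiv hχ e⟩
  obtain ⟨F, _, _, h1, -, ⟨e⟩⟩ | ⟨m, F, _, _, h1, h2, h4, ⟨e⟩⟩ :=
    Agent.S0999.result c p hp.out d (hn ▸ h3)
  · have := charP_of_card_eq_prime h1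
    obtain ⟨χ, hχ, k⟩ := Agent.S2544.result (F := F) p 2 le_rfl
    exact absurd (Sylow.dvd_card_of_dvd_card default (Nat.card_congr e.toEquiv ▸ d))
      (key e χ hχ _ (k default).1)
  · have := charP_of_card_eq_prime_pow h1
    have h5 : 4 ≤ Fintype.card F := by
      have := hp.out.eq_two_or_odd
      omega
    obtain ⟨⟨χ, k⟩⟩ := (Nat.card_pos_iff.1 (((Agent.S2300.result (F := F)).2 h5).2.2.1.symm ▸
      (by omega : 0 < (Fintype.card F - 2) / 2))).1
    exact absurd dvd_rfl (key (e.trans (H61.slEquivPslOfTwo CharTwo.two_eq_zero).symm) χ.1 χ.2 p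
      (by rw [k, h1, h2]; push_cast; rfl))

variable {G : Type u} [Group G] [Finite G]

theorem lift (h2 : (Nat.card G).factorization p = 2) {Z : Subgroup G} (hZ : Nat.card Z = p)
    (θ : IrrCharacter (centralizer (Z : Set G))) (h1 : ∀ z : centralizer (Z : Set G), (z : G) ∈ Z →
      θ.1 z = θ.1 1) (h3 : (charDegree θ.1).factorization p + 1 =
        (Nat.card (centralizer (Z : Set G))).factorization p) :
    ∃ χ : IrrCharacter G, (charDegree χ.1).factorization p = 1 := by
  obtain ⟨M, hM⟩ := H35.exists_isPModular p hp.out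
  have := hM.2.1
  have pZ : IsPGroup p Z := IsPGroup.of_card (n := 1) (by rw [hZ, pow_one])
  have cm : ∀ Q : Subgroup G, IsPGroup p Q → ∀ a ∈ Q, ∀ b ∈ Q, a * b = b * a := fun Q hQ a ha b hb => by
    obtain ⟨P, hP⟩ := hQ.exists_le_sylow
    exact congrArg Subtype.val ((IsPGroup.isMulCommutative_of_card_eq_prime_sq (G := P)
      (by rw [P.card_eq_multiplicity, h2])).1.1 ⟨a, hP ha⟩ ⟨b, hP hb⟩)
  obtain ⟨B, hB⟩ := (Agent.S4828.result p M hM Z (blockOf M θ.1) ⟨pZ, θ, rfl⟩).2
    ⟨θ, H37.mem_blockOf_self θ, h1, by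
      rw [inf_eq_left.2 fun a ha b hb => cm Z pZ b hb a ha, hZ, hp.out.factorization_self, h3],
      fun g hg _ ⟨k, hk⟩ => mem_sup_right fun z hz => cm (zpowers g ⊔ Z)
        ((IsPGroup.of_card (by rw [Nat.card_zpowers, hk])).to_sup_of_normal_right' pZ
          (zpowers_le.2 hg)) z (mem_sup_right hz) g (mem_sup_left (mem_zpowers g))⟩
  have _ := Fintype.ofFinite G
  have a := Agent.S0908.result p M hM B hB.1.2.1 Z (Agent.S4659.result p M hM B Z _ hB)
  obtain ⟨χ, h4, h5⟩ := H35.exists_height_zero p (H35.IsPBlock.nonempty' hB.1.2.1)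
  have b := H37.factorization_add_blockDefect h4 h5
  replace a := Nat.pow_right_injective hp.out.two_le (((pow_one p).trans hZ.symm).trans a)
  exact ⟨χ, by omega⟩

/-- the Sylow `p`-subgroups are TI -/
theorem ti (h2 : (Nat.card G).factorization p = 2)
    (hχ : ∀ χ : IrrCharacter G, (charDegree χ.1).factorization p ≠ 1)
    (hN : ∀ N : Subgroup G, N ≠ ⊤ → Nat.card N < p ^ 4)
    (hO : ∀ Z : Subgroup G, Z.Normal → IsPGroup p Z → Z = ⊥) {P P' : Sylow p G} (ne : P ≠ P') :
    (P : Subgroup G) ⊓ P' = ⊥ := by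
  by_contra h0
  obtain ⟨Z, hZ⟩ : ∃ Z, Z = (P : Subgroup G) ⊓ P' := ⟨_, rfl⟩
  have cP : ∀ P : Sylow p G, Nat.card P = p ^ 2 := fun P => by rw [P.card_eq_multiplicity, h2]
  have le : ∀ P : Sylow p G, Z ≤ P → (P : Subgroup G) ≤ centralizer (Z : Set G) :=
    fun P h a ha b hb => congrArg Subtype.val
      ((IsPGroup.isMulCommutative_of_card_eq_prime_sq (cP P)).1.1 ⟨b, h hb⟩ ⟨a, ha⟩)
  have l1 : Z ≤ P := hZ ▸ inf_le_left
  have l2 : Z ≤ P' := hZ ▸ inf_le_right
  have cZ : Nat.card Z = p := by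
    obtain ⟨k, hk, e⟩ := (Nat.dvd_prime_pow hp.out).1 (cP P ▸ card_dvd_of_le l1)
    obtain rfl | rfl | rfl : k = 0 ∨ k = 1 ∨ k = 2 := by omega
    · exact absurd (hZ ▸ card_eq_one.1 e) h0
    · rw [e, pow_one]
    · exact absurd (Sylow.ext ((eq_of_le_of_card_ge l1 (by rw [e, cP])).symm.trans
        (eq_of_le_of_card_ge l2 (by rw [e, cP])))) ne
  have nt : centralizer (Z : Set G) ≠ ⊤ := fun e => h0 (hZ ▸ hO Z
    ⟨fun z hz g => by rwa [← (e.ge (mem_top g)) z hz, mul_inv_cancel_right]⟩ (P.2.to_le l1))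
  have l3 := l1.trans (le P l1)
  have : (Z.subgroupOf (centralizer (Z : Set G))).Normal := ⟨fun z hz g => by
    rwa [show g * z = z * g from Subtype.ext (g.2 z hz).symm, mul_inv_cancel_right]⟩
  have c1 := (Z.subgroupOf (centralizer (Z : Set G))).card_mul_index
  rw [Nat.card_congr (subgroupOfEquivOfLe l3).toEquiv, cZ, index] at c1
  by_cases h : ∀ ψ : IrrCharacter (centralizer (Z : Set G) ⧸ Z.subgroupOf (centralizer (Z : Set G))),
    ¬ p ∣ charDegree ψ.1
  · have s := psolv _ _ rfl (Nat.lt_of_mul_lt_mul_left (a := p) (by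
      rw [c1, ← pow_succ']; exact hN _ nt)) h
    have f := QuotientGroup.mk'_surjective (Z.subgroupOf (centralizer (Z : Set G)))
    have := ((Agent.S4713.result p s ((P.subtype (le P l1)).mapSurjective f)).2 h).1
    have := Sylow.unique_of_normal ((P.subtype (le P l1)).mapSurjective f) this
    have e := congrArg Sylow.toSubgroup (Subsingleton.elim ((P.subtype (le P l1)).mapSurjective f)
      ((P'.subtype (le P' l2)).mapSurjective f))
    rw [Sylow.coe_mapSurjective, Sylow.coe_mapSurjective, map_eq_map_iff, QuotientGroup.ker_mk',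
      Sylow.coe_subtype, Sylow.coe_subtype, sup_eq_left.2 (subgroupOf_mono _ l1),
      sup_eq_left.2 (subgroupOf_mono _ l2),
      subgroupOf_inj, inf_eq_left.2 (le P l1), inf_eq_left.2 (le P' l2)] at e
    exact ne (Sylow.ext e)
  push Not at h
  obtain ⟨ψ, hψ⟩ := h
  obtain ⟨χ, e⟩ := lift h2 cZ ⟨_, H28.Cfsg.IsIrrCharacter.inflate ψ.2⟩
    (fun z hz => congrArg ψ.1 ((QuotientGroup.eq_one_iff z).2 hz)) (by
      have a1 := H35.deg_factorization_le p ψ.2
      have a2 := hp.out.factorization_pos_of_dvd (fun e => by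
        have := H35.coe_deg ψ
        rw [e, Nat.cast_zero] at this
        exact H28.Cfsg.IsIrrCharacter.apply_one_ne_zero ψ.2 this.symm) hψ
      have a3 := (Nat.factorization_le_iff_dvd Nat.card_pos.ne' Nat.card_pos.ne').2
        (card_subgroup_dvd_card (centralizer (Z : Set G))) p
      have a4 := congrArg (Nat.factorization · p) c1
      simp only [Nat.factorization_mul hp.out.ne_zero Nat.card_pos.ne', Finsupp.add_apply,
        hp.out.factorization_self] at a4
      change (charDegree ψ.1).factorization p + 1 = _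
      omega)
  exact hχ χ e

end H93.Ld
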