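import Cfsg.Agent.H82.FSSpec3
import Cfsg.Agent.H82.HRKit
import Cfsg.Agent.H12.Basic

/-! Tower FS: the slot ZA1. -/

set_option autoImplicit false
set_option linter.unusedSectionVars false

namespace H93.FS

open Cfsg Subgroup H98
open H82.HR (BF ZZ DD nor cen)
open H82.FS (Syl2 CB JobZA1 JobBen)

universe u

variable {D L : Type u} [Group D] [Finite D] [Group L] [Finite L] {π : D →* L}

/-- a central extension with kernel of odd order -/
structure Ce (π : D →* L) : Prop where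
  sur : Function.Surjective π
  le : π.ker ≤ center D
  odd : Odd (Nat.card π.ker)

namespace Ce

variable (h : Ce π)
include h

theorem eq_one {x : D} {k : ℕ} (h1 : π x = 1) (h2 : x ^ 2 ^ k = 1) : x = 1 :=
  orderOf_eq_one_iff.1 (Nat.eq_one_of_dvd_coprimes ((Nat.coprime_two_right.2 h.odd).pow_right k)
    (π.ker.orderOf_dvd_natCard h1) (orderOf_dvd_of_pow_eq_one h2))

theorem eq_one' {P : Subgroup D} (hP : IsPGroup 2 P) {x : D} (hx : x ∈ P) (h1 : π x = 1) :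
    x = 1 := by
  obtain ⟨k, hk⟩ := isPGroup_iff_forall.1 hP x hx
  exact h.eq_one h1 hk

theorem comm {d z : D} (h2 : z * z = 1) (h1 : π d * π z = π z * π d) : d * z = z * d := by
  have h3 : π (d * z * d⁻¹ * z⁻¹) = 1 := by
    rw [map_mul, map_mul, map_mul, h1, map_inv, map_inv]; group
  have h4 : Commute (d * z * d⁻¹) z⁻¹ := by
    have : Commute (d * z * d⁻¹ * z⁻¹) z := (mem_center_iff.1 (h.le h3) z).symm
    simpa using (this.mul_left (Commute.refl z)).inv_right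
  refine mul_inv_eq_iff_eq_mul.1 (mul_inv_eq_one.1 (h.eq_one (k := 1) h3 ?_))
  rw [h4.mul_pow, pow_one, conj_pow, inv_pow, pow_two, h2]
  group

theorem card_map {P : Subgroup D} (hP : IsPGroup 2 P) : Nat.card (P.map π) = Nat.card P :=
  (Nat.card_eq_of_bijective _ ⟨(injective_iff_map_eq_one (π.subgroupMap P)).2 fun x hx =>
    Subtype.ext (h.eq_one' hP x.2 (congrArg Subtype.val hx)), π.subgroupMap_surjective P⟩).symm

theorem syl (T : Sylow 2 D) : IsSyl 2 ((T : Subgroup D).map π) ⊤ :=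
  haveI := Fact.mk Nat.prime_two
  map_top_of_surjective π h.sur ▸ (isSyl_sylow T).map π

theorem inj {T T' : Sylow 2 D} (e : (T : Subgroup D).map π = (T' : Subgroup D).map π) : T = T' := by
  have h1 : (T' : Subgroup D) ≤ normalizer ((T : Subgroup D) : Set D) := by
    refine le_trans ?_ (sup_le le_normalizer (h.le.trans (center_le_normalizer _)))
    rw [← comap_map_eq, e]
    exact le_comap_map _ _
  exact Sylow.ext (T'.is_maximal' T.isPGroup'
    ((isSyl_sylow T).le_of_le_normalizer' T'.isPGroup' le_top h1))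

omit h in
theorem smul (g : D) (T : Sylow 2 D) :
    ((g • T : Sylow 2 D) : Subgroup D).map π = H98.cj (π g) ((T : Subgroup D).map π) := by
  rw [Sylow.coe_subgroup_smul, ← cj_eq_smul, H98.map_cj]

theorem exists_over {W : Subgroup L} (hW : IsSyl 2 W ⊤) :
    ∃ T : Sylow 2 D, (T : Subgroup D).map π = W := by
  have := Fact.mk Nat.prime_two
  obtain ⟨g, -, e⟩ := (h.syl default).exists_cj_eq hW
  obtain ⟨g, rfl⟩ := h.sur g
  exact ⟨g • default, by rw [smul, e]⟩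

theorem fix_iff {g : D} {T : Sylow 2 D} : g • T = T ↔ π g ∈ nor ((T : Subgroup D).map π) := by
  rw [← H98.cj_eq_self_iff, ← smul]
  exact ⟨fun e => by rw [e], h.inj⟩

variable {S : Sylow 2 D} {V : Subgroup L} {q : ℕ} (b : BF ⊤ ((S : Subgroup D).map π) V q)
include b

theorem mem_ZZ {s : D} (h1 : s ∈ S) (h2 : s * s = 1) : s ∈ ZZ (S : Subgroup D) :=
  ⟨h1, h2, fun x hx => h.comm h2 ((b.cent _ (mem_map_of_mem π h1)
    (by rw [← map_mul, h2, map_one])).2.2 _ (mem_map_of_mem π hx))⟩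

theorem map_ZZ : (ZZ (S : Subgroup D)).map π = ZZ ((S : Subgroup D).map π) := by
  refine le_antisymm ?_ ?_
  · rintro _ ⟨z, hz, rfl⟩
    exact b.cent _ (mem_map_of_mem π hz.1) (by rw [← map_mul, hz.2.1, map_one])
  · rintro _ ⟨⟨z, hz, rfl⟩, h2, -⟩
    exact mem_map_of_mem π (h.mem_ZZ b hz (h.eq_one' S.isPGroup' (mul_mem hz hz)
      (by rw [map_mul, h2])))

theorem cen_iff {d : D} : d ∈ cen (ZZ (S : Subgroup D)) ↔ π d ∈ cen (ZZ ((S : Subgroup D).map π)) := by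
  rw [← h.map_ZZ b]
  refine ⟨fun e => map_le_centralizer_map π le_rfl (mem_map_of_mem π e), fun e z hz => ?_⟩
  exact (h.comm hz.2.1 (e _ (mem_map_of_mem π hz)).symm).symm

theorem reg (T T' : Sylow 2 D) (h1 : T ≠ S) (h2 : T' ≠ S) : ∃ s ∈ S, T' = s • T := by
  obtain ⟨x, hx, e⟩ := b.trans (h.syl T) fun e => h1 (h.inj e)
  obtain ⟨y, hy, e'⟩ := b.trans (h.syl T') fun e => h2 (h.inj e)
  obtain ⟨s, hs, e1⟩ := mul_mem hy (inv_mem hx)
  exact ⟨s, hs, h.inj (by rw [smul, e1, ← e, ← e', H98.cj_cj, inv_mul_cancel_right])⟩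

theorem alt1 (h1 : (S : Subgroup D).map π ≤ ZZ ((S : Subgroup D).map π)) {k : D} {n : ℕ}
    (hk : k ∈ cen (ZZ (S : Subgroup D))) (h3 : k ^ 3 ^ n = 1) : π k = 1 := by
  have h2 := (h.cen_iff b).1 hk
  obtain ⟨y, hy, -, -, y1, -, -⟩ := b.two
  have h4 := b.cen_le hy.1 y1 (le_normalizer (mem_top _)) (h2 y hy).symm
  obtain ⟨x, hx, h5⟩ := b.bor (le_normalizer (mem_top _)) h4
  have h6 := b.DD_free h1 ⟨⟨mem_top _, mul_mem (le_normalizer (inv_mem hx)) h4⟩, h5⟩ hy.1 y1 (by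
    rw [mul_assoc, ← h2 y hy, ← mul_assoc, hy.2.2 _ (inv_mem hx), mul_assoc])
  have h7 : π k ^ 2 = 1 := by rw [← inv_mul_eq_one.1 h6, pow_two, (h1 hx).2.1]
  exact orderOf_eq_one_iff.1 (Nat.eq_one_of_dvd_coprimes
    (Nat.Coprime.pow_right n (by decide : Nat.Coprime 2 3)) (orderOf_dvd_of_pow_eq_one h7)
    (orderOf_dvd_of_pow_eq_one (by rw [← map_pow, h3, map_one])))

end Ce

theorem syl_cen {U V K : Subgroup L} {q l : ℕ} [Fact l.Prime] (b : BF ⊤ U V q) (l2 : l ≠ 2)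
    (hK : IsSyl l K (DD ⊤ U V ⊓ cen (ZZ U))) : IsSyl l K (cen (ZZ U)) := by
  have := Fact.mk Nat.prime_two
  obtain ⟨y, hy, -, -, y1, -, -⟩ := b.two
  have n : DD ⊤ U V ⊓ cen (ZZ U) ≤ nor U := inf_le_left.trans (inf_le_left.trans inf_le_right)
  have hU : U ≤ cen (ZZ U) := fun x hx z hz => (hz.2.2 x hx).symm
  have h1 : DD ⊤ U V ⊓ cen (ZZ U) ⊔ U = cen (ZZ U) := le_antisymm (sup_le inf_le_right hU)
    fun c hc => by
      have h4 := b.cen_le hy.1 y1 (le_normalizer (mem_top _)) (hc y hy).symm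
      obtain ⟨x, hx, h5⟩ := b.bor (le_normalizer (mem_top _)) h4
      rw [← mul_inv_cancel_left x c]
      exact mul_mem (mem_sup_right hx) (mem_sup_left ⟨⟨⟨mem_top _,
        mul_mem (le_normalizer (inv_mem hx)) h4⟩, h5⟩, mul_mem (hU (inv_mem hx)) hc⟩)
  have h2 := H12.card_sup_mul_card_inf n
  rw [h1, ← H12.card_mul_relIndex (inf_le_right : DD ⊤ U V ⊓ cen (ZZ U) ≤ _), mul_assoc] at h2
  have h3 := Nat.eq_of_mul_eq_mul_left Nat.card_pos h2
  refine isSyl_of_not_dvd_relIndex (hK.le.trans inf_le_right) hK.isPGroup fun e => ?_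
  rw [← relIndex_mul_relIndex _ _ _ hK.le inf_le_right] at e
  rcases (Fact.out : l.Prime).dvd_mul.1 e with e | e
  · exact hK.not_dvd_relIndex e
  · obtain ⟨m, hm⟩ := b.sylU.isPGroup.exists_card_eq
    exact l2 ((Nat.prime_dvd_prime_iff_eq Fact.out Nat.prime_two).1
      ((Fact.out : l.Prime).dvd_of_dvd_pow (hm ▸ h3 ▸ e.mul_right _)))

theorem syl2 (h : Ce π) {S : Sylow 2 D} {V : Subgroup L} {q : ℕ}
    (b : BF ⊤ ((S : Subgroup D).map π) V q)
    (a : (S : Subgroup D).map π ≤ ZZ ((S : Subgroup D).map π) ∨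
      (∃ d ∈ DD ⊤ ((S : Subgroup D).map π) V, d ≠ 1 ∧ d ∈ cen (ZZ ((S : Subgroup D).map π))) ∨
      ∃ n : ℕ, Odd n ∧ 3 ≤ n ∧ q = 2 ^ n ∧ Nat.card ((S : Subgroup D).map π) = 2 ^ (2 * n)) :
    Syl2 S (ZZ (S : Subgroup D)) := by
  obtain ⟨T, rfl⟩ := h.exists_over b.sylV
  have TS : T ≠ S := fun e => b.ne (by rw [e])
  refine ⟨fun s => ⟨fun e => ⟨e.1, (pow_two s).trans e.2.1⟩,
    fun e => h.mem_ZZ b e.1 ((pow_two s).symm.trans e.2)⟩, fun x hx z hz => (hz.2.2 x hx).symm,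
    h.reg b, fun W hW s hs e => h.eq_one' S.isPGroup' hs (by
      by_contra n
      exact hW (h.inj (b.eq_of_mem (h.syl W) (mem_map_of_mem π hs) n (h.fix_iff.1 e)))),
    fun z hz z' hz' z1 z1' => ?_, ?_⟩
  · obtain ⟨d, hd, e⟩ := b.tr _ (h.map_ZZ b ▸ mem_map_of_mem π hz) _
      (h.map_ZZ b ▸ mem_map_of_mem π hz') (fun e => z1 (h.eq_one' S.isPGroup' hz.1 e))
      fun e => z1' (h.eq_one' S.isPGroup' hz'.1 e)
    obtain ⟨d, rfl⟩ := h.sur d
    have h1 := h.fix_iff.2 hd.1.2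
    refine ⟨d, h1, mul_inv_eq_one.1 (h.eq_one' S.isPGroup' (mul_mem (conj_mem_of_mem_normalizer
      (Sylow.smul_eq_iff_mem_normalizer.1 h1) hz.1) (inv_mem hz'.1)) ?_)⟩
    rw [map_mul, map_mul, map_mul, map_inv, map_inv, e, mul_inv_cancel]
  rcases a with a | ⟨d, hd, d1, dc⟩ | ⟨n, n1, n2, n3, n4⟩
  · obtain ⟨K, hK⟩ := exists_isSyl 3 (cen (ZZ (S : Subgroup D)))
    refine Or.inl ⟨3, K, Nat.prime_three, by decide, hK.isPGroup, hK.le,
      fun K' h1 h2 h3 => hK.eq_of_le h1 h3 h2, T, TS, fun k hk => h.fix_iff.2 ?_, fun T' h1 _ => ?_⟩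
    · obtain ⟨n, hn⟩ := isPGroup_iff_forall.1 hK.isPGroup k hk
      rw [h.alt1 b a (hK.le hk) hn]
      exact one_mem _
    · obtain ⟨s, hs, e⟩ := h.reg b T T' TS h1
      exact ⟨s, h.mem_ZZ b hs (h.eq_one' S.isPGroup' (mul_mem hs hs)
        (by rw [map_mul, (a (mem_map_of_mem π hs)).2.1])), e⟩
  · obtain ⟨l, hl, ld⟩ := Nat.exists_prime_and_dvd (fun e => d1 (orderOf_eq_one_iff.1 e))
    have := Fact.mk hl
    have l2 : l ≠ 2 := by
      rintro rfl
      exact (Nat.not_even_iff_odd.2 b.odd_DD) 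
        (even_iff_two_dvd.2 (ld.trans (Subgroup.orderOf_dvd_natCard _ hd)))
    have ol := orderOf_pow_orderOf_div (orderOf_pos d).ne' ld
    have e1 := pow_mem hd (orderOf d / l)
    have e2 := pow_mem dc (orderOf d / l)
    generalize d ^ (orderOf d / l) = e at ol e1 e2
    obtain ⟨K0, k1, k2⟩ := exists_isSyl_le (isPGroup_zpowers (p := l) (k := 1)
      (by rw [pow_one, ← ol, pow_orderOf_eq_one])) (zpowers_le.2 (mem_inf.2 ⟨e1, e2⟩))
    have k3 := syl_cen b l2 k1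
    obtain ⟨K, hK⟩ := exists_isSyl l (K0.comap π)
    have k4 : K.map π = K0 := by
      have := hK.map π
      rw [map_comap_eq_self_of_surjective h.sur] at this
      exact this.eq_of_isPGroup k1.isPGroup
    refine Or.inl ⟨l, K, hl, l2, hK.isPGroup, fun k hk => (h.cen_iff b).2 (k3.le (hK.le hk)),
      fun K' h1 h2 h3 => hK.eq_of_le h1 h3 (map_le_iff_le_comap.1 (k3.eq_of_le (h1.map π)
        (k4 ▸ map_mono h3) ?_).le), T, TS, fun k hk => h.fix_iff.2 (k1.le (hK.le hk)).1.2,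
      fun T' h1 h2 => ?_⟩
    · rintro _ ⟨k, hk, rfl⟩
      exact (h.cen_iff b).1 (h2 hk)
    obtain ⟨x, hx, e3⟩ := b.trans (h.syl T') fun e => h1 (h.inj e)
    obtain ⟨k, hk, rfl⟩ := k4.ge (k2 (mem_zpowers e))
    have e4 := H98.cj_eq_self (h.fix_iff.1 (h2 k hk))
    have e5 := b.uniq (conj_mem_of_mem_normalizer e1.1.2 hx) hx (by
      rw [← H98.cj_cj, H98.cj_eq_self (inv_mem e1.2), ← H98.cj_cj, e3, e4])
    rcases b.irr ((S : Subgroup D).map π ⊓ centralizer {π k})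
      (fun z hz => ⟨hz.1, mem_centralizer_singleton_iff.2 (e2 z hz)⟩) inf_le_left
      (le_normalizer_inf (inf_le_left.trans inf_le_right) (le_normalizer_of_le fun c hc =>
        mem_centralizer_singleton_iff.2 (b.DD_comm hc e1))) with e6 | e6
    · obtain ⟨z, hz, rfl⟩ := (e6.trans (h.map_ZZ b).symm).le
        ⟨hx, mem_centralizer_singleton_iff.2 (mul_inv_eq_iff_eq_mul.1 e5).symm⟩
      exact ⟨z, hz, h.inj (by rw [Ce.smul, e3])⟩
    · have e7 := b.ker2 (le_normalizer (mem_top _)) e1.2 fun y hy =>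
        mem_centralizer_singleton_iff.1 (e6.ge hy).2
      rw [mem_bot.1 (b.inf_cen.le ⟨mem_top _, e7⟩), orderOf_one] at ol
      exact absurd ol.symm hl.ne_one
  · refine Or.inr ⟨n, n1, n2, ?_, by rw [← h.card_map S.isPGroup', n4]⟩
    rw [← h.card_map (S.isPGroup'.to_le (H := ZZ (S : Subgroup D)) fun z hz => hz.1), h.map_ZZ b, b.card, n3]

theorem jobZA1 : JobZA1.{u} := by
  rintro ben D _ _ ⟨O, n, h1, h2, h3⟩ S
  have := Fact.mk Nat.prime_two
  have h : Ce (QuotientGroup.mk' O) := ⟨QuotientGroup.mk'_surjective O,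
    by rwa [QuotientGroup.ker_mk'], by rwa [QuotientGroup.ker_mk']⟩
  obtain ⟨U, V, q, b, a⟩ := ben _ h3
  obtain ⟨g, -, e⟩ := b.sylU.exists_cj_eq (h.syl S)
  have b' := b.cj' (g := g) (le_normalizer (mem_top _))
  refine ⟨_, syl2 h (e ▸ b') ?_⟩
  rw [← e]
  refine a.imp (fun a => ?_) (Or.imp ?_ ?_)
  · rintro _ ⟨x, hx, rfl⟩
    exact b'.cent _ (mem_map_of_mem _ hx) (by rw [← map_mul, (a hx).2.1, map_one])
  · rintro ⟨d, hd, d1, dc⟩
    refine ⟨g * d * g⁻¹, ⟨⟨mem_top _, (H98.cj_normalizer g U).le (H98.conj_mem_cj hd.1.2)⟩,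
      (H98.cj_normalizer g V).le (H98.conj_mem_cj hd.2)⟩, fun e => d1 (conj_eq_one_iff.1 e), ?_⟩
    rintro _ ⟨⟨x, hx, rfl⟩, x2, -⟩
    have := dc x (b.cent x hx ((MulAut.conj g).injective (by rw [map_mul, map_one]; exact x2)))
    show g * x * g⁻¹ * (g * d * g⁻¹) = g * d * g⁻¹ * (g * x * g⁻¹)
    rw [conj_mul, conj_mul, this]
  · rintro ⟨n, n1, n2, n3, n4⟩
    exact ⟨n, n1, n2, n3, by rwa [H98.card_cj]⟩

end H93.FS
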