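import Cfsg.Agent.H98.DP0CSpec

/-! Slot DP0-C-KEY of the tower for S3275: assembly of KEY. -/

set_option autoImplicit false

namespace H93.DpKey

open Subgroup Cfsg H98 H48.DP H57.DPC H48.DP2 H98.DP0C

universe u

theorem nor_bar {G X : Type u} [Group G] [Group X] {H S : Subgroup G} (π : H →* X) {y : G}
    (hy : y ∈ H) (hn : y ∈ No S) : π ⟨y, hy⟩ ∈ No (bar π S) := by
  refine le_normalizer_map π ⟨⟨y, hy⟩, ?_, rfl⟩
  refine mem_normalizer_iff.2 fun g => ?_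
  rw [mem_subgroupOf, mem_subgroupOf]
  exact mem_normalizer_iff.1 hn g

theorem jobKEY : JobKEY.{u} := by
  intro fs sec trf kb1 kb2 pb G X _ _ _ _ M Q H S π y z u hd hH hy hz hM hπ hS h2 ny nz hO hc
  have hsec : Sec X :=
    sec G X H π hd.toUb.toHyp2.toHyp hH hπ
      (no27 hd.toUb hd.z3 (Bd.good hd) (Bd.mem hd).2.1 hH hz hM)
  have hbb := trf G X M Q H π y z u hy hz hd hπ hsec
  have hp : IsPGroup 2 (bar π S) := (h2.comap_subtype).map π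
  have hne : bar π S ≠ ⊥ := by
    intro e
    apply hO
    intro s hs
    have h1 : (⟨s, hS hs⟩ : H) ∈ π.ker := by
      have : π ⟨s, hS hs⟩ ∈ bar π S := ⟨⟨s, hS hs⟩, hs, rfl⟩
      rw [e] at this
      exact this
    rw [hπ.ker] at h1
    exact h1
  have hK : ∃ K, IsComponentOf K (⊤ : Subgroup X) ∧ ¬ bar π S ≤ Ce K := by
    by_contra hn
    push Not at hn
    exact hne (fs X hsec.nd ⊤ (bar π S) hsec.o2 le_top hp hc hn)
  obtain ⟨K, hK, hSK⟩ := hK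
  obtain ⟨k1, k2, i, k3⟩ := kb1 X K (bar π S) _ _ hbb hK hp (nor_bar π hy ny) (nor_bar π hz nz) hSK
  obtain ⟨n1, -, n3⟩ := kb2 X K _ _ i hbb hK k2 k3
  have hyz : y * z ^ i ∈ H := mul_mem hy (pow_mem hz i)
  have e : π ⟨y * z ^ i, hyz⟩ = π ⟨y, hy⟩ * π ⟨z, hz⟩ ^ i := by
    rw [← map_pow, ← map_mul]
    rfl
  exact ⟨i, _, pb G X H π K (y * z ^ i) z hyz hz hπ k1 n1 hbb.z3 k2 (e ▸ k3) (e ▸ n3)⟩

end H93.DpKey
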