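import Cfsg.Agent.H92.DP0BSpec
import Cfsg.Agent.H98.Coprime
import Cfsg.Agent.S0126

/-! Slot DP0-B-BS of the tower for S3275: a good element that lies in no `3³` of `M`. -/

set_option autoImplicit false

namespace H93.DpBS

open Subgroup Cfsg H98 H48.DP H57.DPC H48.DP2 H92.DPB
open scoped commutatorElement

universe u

variable {G : Type u} [Group G] [Finite G]

theorem exists_e9 {P B : Subgroup G} (hP : IsPGroup 3 P) (hB : E27 B) (hBP : B ≤ P) :
    ∃ U : Subgroup G, U ≤ P ∧ P ≤ No U ∧ IsElementaryAbelian 3 U ∧ Nat.card U = 9 := by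
  have : Fact (Nat.Prime 3) := ⟨Nat.prime_three⟩
  have hnc : ¬ IsCyclic P := by
    intro hc
    have h1 : IsCyclic B := Subgroup.isCyclic_of_le hBP
    have h2 : Monoid.exponent B ∣ 3 :=
      Monoid.exponent_dvd_of_forall_pow_eq_one fun b => Subtype.ext (hB.1.2 b b.2)
    rw [IsCyclic.exponent_eq_card] at h2
    have := Nat.le_of_dvd (by norm_num) h2
    have := hB.2
    omega
  obtain ⟨A, hA, he, hc⟩ := Cfsg.Agent.S0126.result (p := 3) (by norm_num) hP hnc
  refine ⟨A.map P.subtype, map_subtype_le A, le_normalizer_map_subtype A, el_of ?_ ?_, ?_⟩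
  · rintro _ ⟨a, ha, rfl⟩ _ ⟨b, hb, rfl⟩
    exact (el_comm he ha hb).map _
  · rintro _ ⟨a, ha, rfl⟩
    rw [← map_pow, he.2 a ha, map_one]
  · rw [card_map_of_injective P.subtype_injective, hc]
    norm_num

theorem card_lt {A B : Subgroup G} (h : A < B) : Nat.card A < Nat.card B := by
  refine lt_of_le_of_ne (card_le_of_le h.le) fun e => h.ne ?_
  exact eq_of_le_of_card_ge h.le e.ge

theorem comm_central {P U : Subgroup G} (hP : IsPGroup 3 P) (hU : IsPGroup 3 U) (hn : P ≤ No U)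
    (h9 : Nat.card U = 9) : ⁅⁅U, P⁆, P⁆ = ⊥ := by
  have : Fact (Nat.Prime 3) := ⟨Nat.prime_three⟩
  have hU1 : U ≠ ⊥ := by
    rintro rfl
    simp at h9
  have h1 := H98.commutator_lt_of_isPGroup hU hP hn hU1
  by_cases hW : ⁅U, P⁆ = ⊥
  · rw [hW]
    simp
  have hWp : IsPGroup 3 ↥⁅U, P⁆ := hU.to_le h1.le
  have h2 := H98.commutator_lt_of_isPGroup hWp hP
    (le_normalizer_commutator hn le_normalizer) hW
  have c1 := card_lt h1
  have c2 := card_lt h2
  obtain ⟨a, ha⟩ := hWp.exists_card_eq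
  obtain ⟨b, hb⟩ := (hWp.to_le h2.le).exists_card_eq
  rw [ha, h9] at c1
  rw [ha, hb] at c2
  have a2 : a < 2 := (Nat.pow_lt_pow_iff_right (by norm_num : 1 < 3)).1 c1
  have b1 : b < a := (Nat.pow_lt_pow_iff_right (by norm_num : 1 < 3)).1 c2
  have b0 : b = 0 := by omega
  rw [b0, pow_zero] at hb
  exact card_eq_one.1 hb

theorem jobBS : JobBS.{u} := by
  intro k3 G _ _ M Q x h xM x3 good bad
  have : Fact (Nat.Prime 3) := ⟨Nat.prime_three⟩
  have hyp : Hyp G := h.toUa.toHyp2.toHyp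
  have x3' : x ^ 3 = 1 := x3 ▸ pow_orderOf_eq_one x
  have xC : x ∈ C1 x := mem_centralizer_singleton_iff.2 rfl
  obtain ⟨R, hR, hxR⟩ := exists_isSyl_le (p := 3) (H := M ⊓ C1 x) (el_pg (el_zp x3'))
    (zpowers_le.2 ⟨xM, xC⟩)
  obtain ⟨P', hP', hRP'⟩ := exists_isSyl_le (p := 3) (H := M) hR.isPGroup (hR.le.trans inf_le_left)
  obtain ⟨B0, hB0M, hB0⟩ := h.e27
  obtain ⟨g, -, hg⟩ := hP'.exists_cj_le (el_pg hB0.1) hB0M
  have hB : E27 (cj g B0) := e27_cj hB0 g
  set B := cj g B0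
  have hBM : B ≤ M := hg.trans hP'.le
  obtain ⟨P, hP⟩ := hP'.isPGroup.exists_le_sylow
  have hBP : B ≤ P := hg.trans hP
  have hRP : R ≤ P := hRP'.trans hP
  obtain ⟨-, k2, k1⟩ := k3 G M Q h.toUa B hB hBM
  have hPM : (P : Subgroup G) ≤ M := (k2 P P.isPGroup' hBP).1
  have hRe : (P : Subgroup G) ⊓ C1 x = R :=
    hR.eq_of_le (P.isPGroup'.to_le inf_le_left) (le_inf hRP (hR.le.trans inf_le_right))
      (inf_le_inf_right _ hPM)
  have xP : x ∈ (P : Subgroup G) := hRP (hxR (mem_zpowers x))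
  obtain ⟨U, hUP, hPU, hU, h9⟩ := exists_e9 P.isPGroup' hB hBP
  have hUM : InU M U := k1 U (hUP.trans hPM) hU h9 (hBP.trans hPU)
  have xU : x ∉ U := fun hx => by
    obtain ⟨B1, a, b, c⟩ := hUM
    exact bad ⟨B1, a, b, (zpowers_le.2 hx).trans c⟩
  have hv : ∃ v ∈ U, ¬ Commute v x := by
    by_contra hn
    push Not at hn
    exact bad ⟨U ⊔ zpowers x, sup_le (hUP.trans hPM) (zpowers_le.2 xM),
      e27_sup hU h9.ge x3' hn xU, le_sup_right⟩
  obtain ⟨v, vU, vx⟩ := hv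
  set z := x⁻¹ * v * x * v⁻¹ with hz
  have zU : z ∈ U := U.mul_mem (conj_mem_of_mem_normalizer' (hPU xP) vU) (U.inv_mem vU)
  have z1 : z ≠ 1 := fun e => vx (by
    rw [hz, mul_inv_eq_one, mul_assoc, inv_mul_eq_iff_eq_mul] at e
    exact e)
  have z3 : orderOf z = 3 := orderOf_eq_prime (hU.2 z zU) z1
  have z3' : z ^ 3 = 1 := hU.2 z zU
  have zW : z ∈ ⁅U, (P : Subgroup G)⁆ := by
    rw [Subgroup.commutator_comm]
    have := commutator_mem_commutator ((P : Subgroup G).inv_mem xP) vU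
    rwa [commutatorElement_def, inv_inv] at this
  have Pz : (P : Subgroup G) ≤ C1 z := fun p hp => by
    have h1 := commutator_mem_commutator zW hp
    rw [comm_central P.isPGroup' (el_pg hU) hPU h9, mem_bot, commutatorElement_eq_one_iff_mul_comm]
      at h1
    exact mem_centralizer_singleton_iff.2 h1.symm
  have zP : z ∈ (P : Subgroup G) := hUP zU
  have cxz : Commute x z := mem_centralizer_singleton_iff.1 (Pz xP)
  have xz : x ∉ zpowers z := fun hx => xU (zpowers_le.2 zU hx)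
  have cz : C1 z ≤ M := h.loc _ B (c1_ne_top hyp z3) hB (le_inf (hBP.trans Pz) hBM)
  have czn : C1 z ≤ No (zpowers z) := le_normalizer_of_le_centralizer (by
    rintro c hc _ ⟨i, rfl⟩
    exact ((show Commute z c from (mem_centralizer_singleton_iff.1 hc).symm).zpow_left i).eq)
  have nz : No (zpowers z) ≤ M :=
    h.loc _ B (H92.DPB.no_ne_top hyp (el_pg (el_zp z3')) fun e => z1 (zpowers_eq_bot.1 e)) hB
      (le_inf ((hBP.trans Pz).trans czn) hBM)
  obtain ⟨hE, hE9⟩ := e9 x3 z3 cxz xz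
  have hEM : zpowers x ⊔ zpowers z ≤ M := sup_le (zpowers_le.2 xM) (zpowers_le.2 (hPM zP))
  have om : ∀ c : G, Commute c x → Commute c z → c ^ 3 = 1 → c ∈ zpowers x ⊔ zpowers z := by
    intro c c1 c2 c3
    by_contra hn
    have hc : zpowers x ⊔ zpowers z ≤ C1 c :=
      sup_le (zpowers_le.2 (mem_centralizer_singleton_iff.2 c1.symm.eq))
        (zpowers_le.2 (mem_centralizer_singleton_iff.2 c2.symm.eq))
    refine bad ⟨_, sup_le hEM (zpowers_le.2 (cz (mem_centralizer_singleton_iff.2 c2.eq))),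
      e27_sup hE hE9.ge c3 (fun a ha => mem_centralizer_singleton_iff.1 (hc ha)) hn,
      le_sup_left.trans le_sup_left⟩
  obtain ⟨S, hS, hRS⟩ := exists_isSyl_le (p := 3) (H := C1 x) hR.isPGroup (hR.le.trans inf_le_right)
  have hlt : R < S := lt_of_le_of_ne hRS fun e => by
    obtain ⟨B2, hB2, xB2⟩ := good
    have h1 : B2 ≤ C1 x := fun b hb => mem_centralizer_singleton_iff.2 (el_comm hB2.1 hb xB2).eq
    obtain ⟨k, hk, hkS⟩ := hS.exists_cj_le (el_pg hB2.1) h1
    refine bad ⟨cj k B2, hkS.trans (e ▸ hR.le.trans inf_le_left), e27_cj hB2 k, zpowers_le.2 ?_⟩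
    have := conj_mem_cj (g := k) xB2
    rwa [mem_centralizer_singleton_iff.1 hk, mul_inv_cancel_right] at this
  obtain ⟨r, ⟨rS, rN⟩, rR⟩ := SetLike.exists_of_lt (lt_inf_normalizer hS.isPGroup hlt)
  have rM : r ∉ M := fun hr => rR (by
    have e : S ⊓ M = R := hR.eq_of_le (hS.isPGroup.to_le inf_le_left)
      (le_inf hRS (hR.le.trans inf_le_left)) (le_inf inf_le_right (inf_le_left.trans hS.le))
    rw [← e]
    exact ⟨rS, hr⟩)
  have zR : z ∈ R := hRe ▸ ⟨zP, mem_centralizer_singleton_iff.2 cxz.symm.eq⟩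
  have wR : r * z * r⁻¹ ∈ R := conj_mem_of_mem_normalizer rN zR
  have wE : r * z * r⁻¹ ∈ zpowers x ⊔ zpowers z :=
    om _ (mem_centralizer_singleton_iff.1 (hR.le wR).2)
      (mem_centralizer_singleton_iff.1 (Pz (hRP wR))) (by rw [conj_pow, z3']; group)
  have cjz : ∀ (a b : G) (T : Subgroup G), a * b * a⁻¹ ∈ T → cj a (zpowers b) ≤ T := by
    intro a b T hT
    rw [cj_le_iff, zpowers_le, mem_cj, inv_inv]
    exact hT
  refine ⟨P, z, v, r, { h with
    PM := hPM, xP := xP, zP := zP, Pz := Pz, x3 := x3, z3 := z3, xz := xz, good := good,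
    bad := bad, cz := cz, om := om, vP := hUP vU, vx := by rw [hz]; group, rE := ?_, rz := ?_ }⟩
  · refine mem_normalizer_of_cj_le ?_
    rw [cj_sup]
    refine sup_le (cjz _ _ _ ?_) (cjz _ _ _ wE)
    rw [mem_centralizer_singleton_iff.1 (hS.le rS), mul_inv_cancel_right]
    exact mem_sup_left (mem_zpowers x)
  · exact fun hr => rM (nz (mem_normalizer_of_cj_le (cjz _ _ _ hr)))

end H93.DpBS
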