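import Cfsg.Agent.H48.DNASpec
import Cfsg.Agent.H98.Coprime

/-! Slot DP0-N-T2 of the tower for S3275: a Sylow 3-subgroup of `M` centralises `y` and `z`. -/

set_option autoImplicit false

namespace H93.DpT2

open Subgroup Cfsg H98 H48.DP H57.DPC H48.DP2 H98.DP0C
open scoped commutatorElement

universe u

variable {G : Type u} [Group G] [Finite G]

theorem cent3 {R : Subgroup G} {x : G} (hR : IsPGroup 3 R) (x3 : orderOf x = 3)
    (hn : R ≤ No (zpowers x)) : R ≤ C1 x := by
  have : Fact (Nat.Prime 3) := ⟨Nat.prime_three⟩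
  have hx : IsPGroup 3 (zpowers x) :=
    isPGroup_zpowers (k := 1) (by rw [pow_one, ← x3, pow_orderOf_eq_one])
  have hne : zpowers x ≠ ⊥ := fun e => by
    rw [zpowers_eq_bot.1 e, orderOf_one] at x3
    omega
  have h1 := H98.commutator_lt_of_isPGroup hx hR hn hne
  have h2 := card_dvd_of_le h1.le
  rw [Nat.card_zpowers, x3] at h2
  rcases Nat.prime_three.eq_one_or_self_of_dvd _ h2 with e | e
  · intro g hg
    have h3 := commutator_mem_commutator (mem_zpowers x) hg
    rw [card_eq_one.1 e, mem_bot, commutatorElement_eq_one_iff_mul_comm] at h3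
    exact mem_centralizer_singleton_iff.2 h3.symm
  · exact absurd (eq_of_le_of_card_ge h1.le (by rw [e, Nat.card_zpowers, x3])) h1.ne

theorem jobT2 : T2.{u} := by
  intro G _ _ M Q P y z r h
  have : Fact (Nat.Prime 3) := ⟨Nat.prime_three⟩
  have y3 := h.lt.y3
  have z3 := h.lt.z3
  have y3' : y ^ 3 = 1 := y3 ▸ pow_orderOf_eq_one y
  have z3' : z ^ 3 = 1 := z3 ▸ pow_orderOf_eq_one z
  have hP : IsPGroup 3 P := isPGroup_iff_forall.2 fun p hp => ⟨1, by rw [pow_one, h.lt.ex p hp]⟩
  have hy : IsPGroup 3 (zpowers y) := isPGroup_zpowers (k := 1) (by rw [pow_one, y3'])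
  have hPn : P ≤ No (zpowers y) := le_normalizer_of_le_centralizer (by
    rintro c hc _ ⟨i, rfl⟩
    exact ((show Commute y c from
      (mem_centralizer_singleton_iff.1 (h.lt.Py hc)).symm).zpow_left i).eq)
  obtain ⟨S, hS, hle⟩ := exists_isSyl_le (p := 3) (H := M) (hP.to_sup_of_normal_right' hy hPn)
    (sup_le h.PM (zpowers_le.2 h.yM))
  have PS : P ≤ S := le_sup_left.trans hle
  have yS : y ∈ S := hle (mem_sup_right (mem_zpowers y))
  have zP : zpowers z ≤ P := by
    rw [← h.lt.der]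
    exact commutator_le.2 fun a ha b hb =>
      mul_mem (mul_mem (mul_mem ha hb) (inv_mem ha)) (inv_mem hb)
  have cyz : y * z = z * y := (mem_centralizer_singleton_iff.1 (h.lt.Py (zP (mem_zpowers z)))).symm
  have PS1 : P ≤ S ⊓ C1 y := le_inf PS h.lt.Py
  have hd : ⁅S ⊓ C1 y, S ⊓ C1 y⁆ = zpowers z :=
    le_antisymm (h.fd _ (hS.isPGroup.to_le inf_le_left) inf_le_right PS1)
      (h.lt.der ▸ commutator_mono PS1 PS1)
  have key : S ⊓ C1 y = S := by
    by_contra hne
    obtain ⟨g, ⟨gS, gN⟩, gn⟩ := SetLike.exists_of_lt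
      (lt_inf_normalizer hS.isPGroup (lt_of_le_of_ne inf_le_left hne))
    have wS : g * y * g⁻¹ ∈ S ⊓ C1 y := conj_mem_of_mem_normalizer gN ⟨yS, mem_C1_self y⟩
    have wP : g * y * g⁻¹ ∈ Ce P := fun p hp => by
      have h1 := mem_centralizer_singleton_iff.1 (conj_mem_of_mem_normalizer' gN (PS1 hp)).2
      calc p * (g * y * g⁻¹) = g * (g⁻¹ * p * g * y) * g⁻¹ := by group
        _ = _ := by rw [h1]; group
    have gz : g ∈ No (zpowers z) := by
      rw [← hd]
      exact le_normalizer_commutator le_rfl le_rfl gN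
    have kill : ∀ v : G, g * y * g⁻¹ ∈ zpowers v → Q ⊓ C1 v = ⊥ := by
      rintro v ⟨n, hn⟩
      rw [eq_bot_iff]
      rintro q ⟨q1, q2⟩
      have c1 : Commute q (g * y * g⁻¹) := by
        rw [← hn]
        exact (show Commute q v from mem_centralizer_singleton_iff.1 q2).zpow_right n
      have c2 : g⁻¹ * q * g ∈ Q ⊓ C1 y :=
        ⟨conj_mem_of_mem_normalizer' (h.no.ge (hS.le gS)) q1, mem_centralizer_singleton_iff.2 (by
          calc g⁻¹ * q * g * y = g⁻¹ * (q * (g * y * g⁻¹)) * g := by group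
            _ = _ := by rw [c1.eq]; group)⟩
      rw [h.d, mem_bot] at c2
      rw [mem_bot]
      calc q = g * (g⁻¹ * q * g) * g⁻¹ := by group
        _ = 1 := by rw [c2]; group
    rcases nf3 y3 z3 cyz (h.fc _ wS.2 (by rw [conj_pow, y3']; group) wP) with e | ⟨i, -, e⟩
    · apply h.lt.yP
      have := conj_mem_of_mem_normalizer' gz e
      exact zP (by simpa [mul_assoc] using this)
    · rw [← pow_mod_orderOf, z3] at e
      have hi : i % 3 < 3 := Nat.mod_lt _ (by norm_num)
      interval_cases i % 3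
      · rw [pow_zero, mul_one] at e
        refine gn ⟨gS, cent3 (hS.isPGroup.to_le (zpowers_le.2 gS)) y3 (zpowers_le.2 ?_)
          (mem_zpowers g)⟩
        refine mem_normalizer_of_cj_le ?_
        rw [cj_le_iff, zpowers_le, mem_cj, inv_inv]
        exact e
      · rw [pow_one] at e
        exact h.n1 (kill _ e)
      · have e2 : z ^ 2 = z⁻¹ := eq_inv_of_mul_eq_one_left (by rw [← pow_succ, z3'])
        rw [e2] at e
        exact h.n2 (kill _ e)
  have Sy : S ≤ C1 y := key ▸ inf_le_right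
  rw [key] at hd
  refine ⟨S, hS, yS, PS (zP (mem_zpowers z)), Sy, cent3 hS.isPGroup z3 ?_, hd.le⟩
  rw [← hd]
  exact le_normalizer_commutator le_normalizer le_normalizer

end H93.DpT2
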