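import Cfsg.Agent.H53.KUSpec

/-! Tower KU (S2196), slot M1: rank three and linear characters of a subgroup. -/

set_option autoImplicit false

open H53.KU
open scoped ComplexConjugate

namespace H93.KU

variable {G : Type} [Group G] [Fintype G]

/-- all translates of `f` are orthogonal to `f'` -/
def Or (f f' : G → ℂ) : Prop := ∀ g : G, ∑ x, f (g * x) * conj (f' x) = 0

theorem sum_tr (F : G → ℂ) (g : G) : ∑ x, F (g * x) = ∑ x, F x :=
  Equiv.sum_comp (Equiv.mulLeft g) F

theorem Or.two {f f' : G → ℂ} (h : Or f f') (g k : G) :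
    ∑ x, f (g * x) * conj (f' (k * x)) = 0 := by
  rw [← h (g * k⁻¹), ← sum_tr (fun x => f (g * k⁻¹ * x) * conj (f' x)) k]
  simp [mul_assoc]

theorem Or.symm {f f' : G → ℂ} (h : Or f f') : Or f' f := fun g => by
  have := congrArg conj (h.two 1 g)
  simpa [mul_comm] using this

theorem four {K : Subgroup G} (hK : Rk3 K) (f : Fin 4 → G → ℂ)
    (hr : ∀ i x, ∀ k ∈ K, f i (x * k) = f i x) (h1 : ∀ i, f i 1 ≠ 0)
    (ho : ∀ i j, i ≠ j → Or (f i) (f j)) : False := by
  classical
  let w : Fin 4 → G → ℂ := fun i x => ∑ k : K, f i (k * x)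
  have hw : ∀ i x, ∀ k ∈ K, ∀ k' ∈ K, w i (k * x * k') = w i x := by
    intro i x k hk k' hk'
    simp only [w]
    rw [← Equiv.sum_comp (Equiv.mulRight (⟨k, hk⟩ : K)) (fun c : K => f i (c * x))]
    refine Finset.sum_congr rfl fun c _ => ?_
    rw [← mul_assoc, hr i _ k' hk']
    simp [mul_assoc]
  have hw1 : ∀ i, w i 1 ≠ 0 := by
    intro i
    have : w i 1 = Fintype.card K * f i 1 := by
      simp only [w]
      rw [Finset.sum_congr rfl (g := fun _ => f i 1) fun c _ => by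
        rw [mul_one, ← hr i 1 c c.2, one_mul]]
      simp
    rw [this]
    exact mul_ne_zero (by simp) (h1 i)
  have hwo : ∀ i j, i ≠ j → ∑ x, w i x * conj (w j x) = 0 := by
    intro i j hij
    simp only [w, map_sum, Finset.sum_mul_sum]
    rw [Finset.sum_comm]
    refine Finset.sum_eq_zero fun a _ => ?_
    rw [Finset.sum_comm]
    exact Finset.sum_eq_zero fun b _ => (ho i j hij).two a b
  let Q := MulAction.orbitRel.Quotient K (G ⧸ K)
  let q : G → Q := fun x => Quotient.mk _ (x : G ⧸ K)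
  have hq : Function.Surjective q := by
    intro y
    obtain ⟨z, rfl⟩ := Quotient.exists_rep y
    obtain ⟨x, rfl⟩ := QuotientGroup.mk_surjective z
    exact ⟨x, rfl⟩
  have hqw : ∀ i x x', q x = q x' → w i x = w i x' := by
    intro i x x' h
    obtain ⟨k, hk⟩ : (x : G ⧸ K) ∈ MulAction.orbit K (x' : G ⧸ K) := Quotient.exact h
    have hk' : (((k : G) * x' : G) : G ⧸ K) = x := hk
    have := hw i x' k k.2 _ (QuotientGroup.eq.mp hk')
    rwa [mul_inv_cancel_left] at this
  let u : Fin 4 → Q → ℂ := fun i y => w i (Function.surjInv hq y)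
  have hu : ∀ i x, u i (q x) = w i x := fun i x => hqw i _ _ (Function.surjInv_eq hq _)
  have : Fintype Q := Fintype.ofFinite Q
  have hn : ¬ LinearIndependent ℂ u := fun h => by
    have h2 := h.fintype_card_le_finrank
    rw [Module.finrank_fintype_fun_eq_card, ← Nat.card_eq_fintype_card (α := Q),
      show Nat.card Q = 3 from hK] at h2
    simp at h2
  obtain ⟨c, hc, i, hi⟩ := Fintype.not_linearIndependent_iff.mp hn
  have hx : ∀ x, ∑ j, c j * w j x = 0 := fun x => by
    have := congrFun hc (q x)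
    simpa [hu] using this
  have h3 : ∑ j, c j * ∑ x, w j x * conj (w i x) = 0 := by
    simp only [Finset.mul_sum, ← mul_assoc]
    rw [Finset.sum_comm]
    exact Finset.sum_eq_zero fun x _ => by rw [← Finset.sum_mul, hx, zero_mul]
  rw [Finset.sum_eq_single i (fun j _ hj => by rw [hwo j i hj, mul_zero]) (by simp)] at h3
  have h4 := (mul_eq_zero.mp h3).resolve_left hi
  simp only [Complex.mul_conj] at h4
  have h5 : ∑ x, Complex.normSq (w i x) = 0 := by exact_mod_cast h4
  have h6 := (Finset.sum_eq_zero_iff_of_nonneg fun x _ => Complex.normSq_nonneg (w i x)).mp h5 1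
    (Finset.mem_univ _)
  exact hw1 i (Complex.normSq_eq_zero.mp h6)

/-- eigenfunctions of `B` -/
def Eg (B : Subgroup G) (μ : B →* ℂˣ) (f : G → ℂ) : Prop :=
  ∀ (b : B) (x : G), f (b * x) = μ b * f x

theorem or_of_not_mk {B : Subgroup G} {μ μ' : B →* ℂˣ} {f f' : G → ℂ} (hf : Eg B μ f)
    (hf' : Eg B μ' f') (h : ¬ Mk B μ' μ) : Or f f' := by
  intro g
  by_contra hne
  refine h ⟨g, fun b' b e => ?_⟩
  have e1 := sum_tr (fun x => f (g * x) * conj (f' x)) b'
  have e2 : ∀ x, f (g * (b' * x)) * conj (f' (b' * x)) =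
      (μ b * conj (μ' b' : ℂ)) * (f (g * x) * conj (f' x)) := fun x => by
    rw [hf' b' x, show g * (b' * x) = b * (g * x) by rw [e]; group, hf b, map_mul]
    ring
  simp only [e2, ← Finset.mul_sum] at e1
  have e3 : (μ b : ℂ) * conj (μ' b' : ℂ) = 1 := mul_left_eq_self₀.mp e1 |>.resolve_right hne
  have e4 : ‖(μ' b' : ℂ)‖ = 1 := Complex.norm_eq_one_of_pow_eq_one
    (n := orderOf b') (by rw [← Units.val_pow_eq_pow_val, ← map_pow, pow_orderOf_eq_one]; simp)
    (orderOf_pos b').ne'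
  have e5 : (μ' b' : ℂ) * conj (μ' b' : ℂ) = 1 := by
    rw [Complex.mul_conj, Complex.normSq_eq_norm_sq, e4]; simp
  refine Units.ext (mul_right_cancel₀ (b := conj (μ' b' : ℂ)) ?_ (e3.trans e5.symm))
  simp

theorem or_one {f : G → ℂ} (h : ∑ x, f x = 0) : Or f (fun _ => 1) := fun g => by
  simp only [map_one, mul_one]
  rw [sum_tr, h]

theorem sum_zero {B : Subgroup G} {μ : B →* ℂˣ} {f : G → ℂ} (hf : Eg B μ f) (h : μ ≠ 1) :
    ∑ x, f x = 0 := by
  obtain ⟨b, hb⟩ : ∃ b, μ b ≠ 1 := by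
    by_contra h2
    push Not at h2
    exact h (MonoidHom.ext h2)
  have e1 := sum_tr f b
  simp only [hf b, ← Finset.mul_sum] at e1
  exact (mul_left_eq_self₀.mp e1).resolve_left fun e => hb (Units.ext e)

theorem ex_eg {K B : Subgroup G} {μ : B →* ℂˣ} (h : Ap K B μ) :
    ∃ f : G → ℂ, Eg B μ f ∧ (∀ x, ∀ k ∈ K, f (x * k) = f x) ∧ f 1 ≠ 0 := by
  classical
  refine ⟨fun x => ∑ b : B, if (b : G)⁻¹ * x ∈ K then (μ b : ℂ) else 0, fun b x => ?_,
    fun x k hk => ?_, ?_⟩
  · simp only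
    rw [← Equiv.sum_comp (Equiv.mulLeft b), Finset.mul_sum]
    refine Finset.sum_congr rfl fun c _ => ?_
    simp [mul_assoc]
  · simp only [← mul_assoc, K.mul_mem_cancel_right hk]
  · have : ∀ b : B, (if (b : G)⁻¹ * 1 ∈ K then (μ b : ℂ) else 0) =
        ((if (b : G) ∈ K then 1 else 0 : ℕ) : ℂ) := fun b => by
      by_cases hb : (b : G) ∈ K
      · simp [hb, h.2 b hb]
      · simp [hb]
    simp only [this]
    rw [← Nat.cast_sum, Nat.cast_ne_zero]
    intro e
    have := Finset.sum_eq_zero_iff.mp e 1 (Finset.mem_univ _)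
    simp at this

theorem four' {K : Subgroup G} (hK : Rk3 K) {a b c : G → ℂ}
    (ha : (∀ x, ∀ k ∈ K, a (x * k) = a x) ∧ a 1 ≠ 0)
    (hb : (∀ x, ∀ k ∈ K, b (x * k) = b x) ∧ b 1 ≠ 0)
    (hc : (∀ x, ∀ k ∈ K, c (x * k) = c x) ∧ c 1 ≠ 0)
    (sa : ∑ x, a x = 0) (sb : ∑ x, b x = 0) (sc : ∑ x, c x = 0)
    (hab : Or b a) (hac : Or c a) (hbc : Or c b) : False := by
  refine four hK ![a, b, c, fun _ => 1] ?_ ?_ ?_
  · intro i
    fin_cases i
    exacts [ha.1, hb.1, hc.1, fun _ _ _ => rfl]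
  · intro i
    fin_cases i
    exacts [ha.2, hb.2, hc.2, one_ne_zero]
  · intro i j hij
    fin_cases i <;> fin_cases j
    exacts [absurd rfl hij, hab.symm, hac.symm, or_one sa, hab, absurd rfl hij, hbc.symm, or_one sb,
      hac, hbc, absurd rfl hij, or_one sc, (or_one sa).symm, (or_one sb).symm, (or_one sc).symm,
      absurd rfl hij]

theorem jobM1 : JobM1 := by
  classical
  intro G _ _ K B hK
  have := Fintype.ofFinite G
  constructor
  · intro μ₁ μ₂ μ₃ h1 h2 h3
    by_contra hcon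
    simp only [not_or] at hcon
    obtain ⟨a, ea, ha⟩ := ex_eg h1
    obtain ⟨b, eb, hb⟩ := ex_eg h2
    obtain ⟨c, ec, hc⟩ := ex_eg h3
    exact four' hK ha hb hc (sum_zero ea h1.1) (sum_zero eb h2.1) (sum_zero ec h3.1)
      (or_of_not_mk eb ea hcon.1) (or_of_not_mk ec ea hcon.2.1) (or_of_not_mk ec eb hcon.2.2)
  · intro μ₁ μ₂ h1 h2 n12 n1 n2 g
    by_contra hg
    obtain ⟨b, eb, hb⟩ := ex_eg h1
    obtain ⟨c, ec, hc⟩ := ex_eg h2
    let P : G → Prop := fun x => ∃ p ∈ B, p * x ∈ K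
    let S : Finset G := Finset.univ.filter P
    let a : G → ℂ := fun x => (if P x then (Fintype.card G : ℂ) else 0) - S.card
    have ea : Eg B 1 a := fun p x => by
      have : P (p * x) ↔ P x := ⟨fun ⟨r, hr, h⟩ => ⟨r * p, B.mul_mem hr p.2, by rwa [mul_assoc]⟩,
        fun ⟨r, hr, h⟩ => ⟨r * (p : G)⁻¹, B.mul_mem hr (B.inv_mem p.2), by simpa [mul_assoc] using h⟩⟩
      simp [a, this]
    have sa : ∑ x, a x = 0 := by
      simp only [a, Finset.sum_sub_distrib]
      rw [← Finset.sum_filter, Finset.sum_const, Finset.sum_const, Finset.card_univ, nsmul_eq_mul,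
        nsmul_eq_mul, mul_comm, sub_self]
    refine four' hK (a := a) ⟨fun x k hk => ?_, ?_⟩ hb hc sa (sum_zero eb h1.1) (sum_zero ec h2.1)
      (or_of_not_mk eb ea n1) (or_of_not_mk ec ea n2) (or_of_not_mk ec eb n12)
    · have : P (x * k) ↔ P x := by
        simp only [P, ← mul_assoc, K.mul_mem_cancel_right hk]
      simp only [a, this]
    · have h0 : P 1 := ⟨1, B.one_mem, by simp⟩
      have hlt : S.card < Fintype.card G := by
        refine Finset.card_lt_univ_of_notMem (x := g⁻¹) fun hm => hg ?_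
        obtain ⟨p, hp, h⟩ := (Finset.mem_filter.mp hm).2
        exact ⟨(p * g⁻¹)⁻¹, K.inv_mem h, p, hp, by group⟩
      simp only [a, if_pos h0]
      exact sub_ne_zero.mpr (by exact_mod_cast hlt.ne')

end H93.KU
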