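/- Exceptional characters and a permutation representation of small rank (job SG-EXC of blueprints/C3C6.md). -/
import Cfsg.Agent.H53.SGSpec
import Cfsg.Agent.H21.SzEx

set_option autoImplicit false

namespace H93.SG
open Cfsg Subgroup Finset H28 MulAction
open scoped ComplexConjugate Classical

universe v

section core
variable {G : Type v} [Group G] [Fintype G] {X : Type*} [Fintype X] [MulAction G X]

/-- The permutation character. -/
noncomputable def pc (G : Type v) [Group G] (X : Type*) [MulAction G X] : G → ℂ :=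
  fun g => (Nat.card (fixedBy X g) : ℂ)

omit [Fintype G] in
theorem pc_eq (g : G) : pc G X g = ∑ x : X, if g • x = x then (1 : ℂ) else 0 := by
  rw [pc, Finset.sum_boole, Nat.card_eq_fintype_card, Fintype.card_subtype]
  rfl

theorem sum_eq_zero_of_inner {χ : G → ℂ} (hχ : IsIrrCharacter G χ)
    (h : classInner (pc G X) χ = 0) (x y : X) :
    ∑ g : G, (if g • x = y then (1 : ℂ) else 0) * conj (χ g) = 0 := by
  let t : X × X → ℂ := fun p => ∑ g : G, (if g • p.1 = p.2 then (1 : ℂ) else 0) * χ g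
  have h0 : ∑ k : G, pc G X k * χ k = 0 := by
    have := card_mul_classInner (pc G X) χ
    rw [h, mul_zero] at this
    have h2 := congrArg conj this
    simpa [pc] using h2.symm
  have h1 : ∑ p, t p * conj (t p) = 0 := by
    have e1 : ∀ p, t p * conj (t p) = ∑ h : G, ∑ k : G, conj (χ h) * χ (h * k) *
        ((if h • p.1 = p.2 then (1 : ℂ) else 0) * if k • p.1 = p.1 then (1 : ℂ) else 0) := by
      intro p
      simp only [t, map_sum, mul_sum]
      refine sum_congr rfl fun h _ => ?_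
      rw [sum_mul, ← Equiv.sum_comp (Equiv.mulLeft h)]
      refine sum_congr rfl fun k _ => ?_
      by_cases h1 : h • p.1 = p.2
      · simp [← h1, mul_smul, mul_comm]
      · simp [h1]
    have e2 : ∀ h k : G, ∑ p : X × X, ((if h • p.1 = p.2 then (1 : ℂ) else 0) *
        if k • p.1 = p.1 then (1 : ℂ) else 0) = pc G X k := by
      intro h k
      rw [pc_eq, Fintype.sum_prod_type]
      refine sum_congr rfl fun x _ => ?_
      simp [← Finset.sum_mul]
    rw [sum_congr rfl fun p _ => e1 p, sum_comm]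
    rw [sum_congr rfl fun h _ => sum_comm, sum_comm]
    simp only [← mul_sum, e2, ← sum_mul]
    simp only [hχ.sum_mul_apply_mul hχ.conj.isClassFunction, mul_assoc, ← mul_sum]
    rw [sum_congr rfl fun k _ => mul_comm (χ k) _, h0, mul_zero]
  have h2 : ∑ p, Complex.normSq (t p) = 0 := by
    simp only [Complex.mul_conj] at h1
    exact_mod_cast h1
  have h3 := Complex.normSq_eq_zero.1
    ((sum_eq_zero_iff_of_nonneg fun p _ => Complex.normSq_nonneg _).1 h2 (x, y) (mem_univ _))
  have h4 := congrArg conj h3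
  simp only [t, map_sum, map_mul, map_zero] at h4
  refine (sum_congr rfl fun g _ => ?_).trans h4
  split_ifs <;> simp

theorem inner_pc_self : classInner (pc G X) (pc G X) =
    (Nat.card (orbitRel.Quotient G (X × X)) : ℂ) := by
  have h1 := sum_card_fixedBy_eq_card_orbits_mul_card_group G (X × X)
  have h2 : ∀ g : G, pc G X g * conj (pc G X g) = (Fintype.card (fixedBy (X × X) g) : ℂ) := by
    intro g
    have : Fintype.card (fixedBy (X × X) g) = Nat.card (fixedBy X g) * Nat.card (fixedBy X g) := by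
      rw [← Nat.card_eq_fintype_card, ← Nat.card_prod]
      exact Nat.card_congr ⟨fun p => (⟨p.1.1, congrArg Prod.fst p.2⟩, ⟨p.1.2, congrArg Prod.snd p.2⟩),
        fun p => ⟨(p.1, p.2), Prod.ext p.1.2 p.2.2⟩, fun _ => rfl, fun _ => rfl⟩
    simp [pc, this]
  refine mul_left_cancel₀ (card_ne_zero' G) ?_
  rw [card_mul_classInner, sum_congr rfl fun g _ => h2 g, ← Nat.cast_sum, h1,
    Nat.card_eq_fintype_card, Nat.card_eq_fintype_card, Nat.cast_mul, mul_comm]

omit [Fintype G] in
theorem card_orbits_le {r : ℕ}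
    (h : ∀ s : Fin (r + 1) → X × X, ∃ i j, i ≠ j ∧ ∃ g : G, s j = g • s i) :
    Nat.card (orbitRel.Quotient G (X × X)) ≤ r := by
  by_contra hc
  obtain ⟨f⟩ : Nonempty (Fin (r + 1) ↪ orbitRel.Quotient G (X × X)) :=
    Function.Embedding.nonempty_of_card_le (by
      rw [Fintype.card_fin, ← Nat.card_eq_fintype_card]; omega)
  obtain ⟨i, j, hij, g, e⟩ := h fun i => (f i).out
  refine hij (f.injective ?_).symm
  rw [← Quotient.out_eq (f j), ← Quotient.out_eq (f i)]
  exact Quotient.sound ⟨g, e.symm⟩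

theorem count_const {A : Subgroup G} {k r : ℕ} (hA : H66.IsCC A)
    (hf : ∀ a ∈ A, a ≠ 1 → ∀ x : X, a • x ≠ x) (hk : A.relIndex (normalizer (A : Set G)) ≤ k)
    (hr : 2 ≤ r) (hlt : r * k < Nat.card A)
    (h : ∀ s : Fin (r + 1) → X × X, ∃ i j, i ≠ j ∧ ∃ g : G, s j = g • s i)
    (O : X → X → Prop) (hO : ∀ (g : G) x y, O (g • x) (g • y) ↔ O x y) {a a' : G} (ha : a ∈ A)
    (a1 : a ≠ 1) (ha' : a' ∈ A) (a1' : a' ≠ 1) :
    #{x | O x (a • x)} = #{x | O x (a' • x)} := by
  rcases isEmpty_or_nonempty X with hX | ⟨⟨x₀⟩⟩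
  · simp [univ_eq_empty]
  obtain ⟨e, he⟩ : ∃ e, A.relIndex (normalizer (A : Set G)) = e := ⟨_, rfl⟩
  have e0 : e ≠ 0 := he ▸ index_ne_zero_of_finite
  rw [he] at hk
  have hre : r * e < Nat.card A := (Nat.mul_le_mul_left r hk).trans_lt hlt
  obtain ⟨E, c, κ, hE⟩ := H21.Sz.jobEx G A e hA he (by
    have := Nat.mul_le_mul_right e hr
    omega)
  have hrE : r ≤ #E := by
    have := hE.card
    refine Nat.le_of_mul_le_mul_left (c := e) ?_ (Nat.pos_of_ne_zero e0)
    rw [mul_comm e r]; omega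
  obtain ⟨m, hmi, hm⟩ := (isCharacter_perm (G := G) X).exists_nat_coeffs
  change pc G X = _ at hm
  change ∀ χ : IrrCharacter G, classInner (pc G X) χ = m χ at hmi
  have hcst : ∀ Y ∈ E, ∀ Z ∈ E, m Y = m Z := by
    have := hE.ind (fun χ => (m χ : ℂ)) (-∑ χ ∈ Eᶜ, (m χ : ℂ) * c χ) fun b hb b1 => by
      have h0 : pc G X b = 0 := by
        rw [pc_eq]; exact sum_eq_zero fun x _ => if_neg (hf b hb b1 x)
      rw [hm, Finset.sum_apply, ← sum_add_sum_compl E] at h0
      rw [eq_neg_iff_add_eq_zero, ← h0]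
      congr 1
      refine sum_congr rfl fun χ hχ => ?_
      rw [← hE.val χ (mem_compl.1 hχ) b hb b1]
      rfl
    intro Y hY Z hZ
    exact_mod_cast this Y hY Z hZ
  let o : IrrCharacter G := ⟨fun _ => 1, isIrrCharacter_one⟩
  have o1 : o ∉ E := fun ho => by
    obtain ⟨Y, hY, hne⟩ := exists_mem_ne (by omega : 1 < #E) o
    have := hE.ind (fun χ => if χ = o then 1 else 0) 1 (fun b _ _ => by
      simp only [ite_mul, one_mul, zero_mul, sum_ite_eq', ho, if_true]; rfl) Y hY o ho
    simp [hne] at this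
  have o2 : m o ≠ 0 := fun h0 => by
    have h1 := sum_eq_zero_of_inner o.2 (by rw [hmi, h0, Nat.cast_zero]) x₀ x₀
    simp only [o, map_one, mul_one, sum_boole, Nat.cast_eq_zero, card_eq_zero] at h1
    have : (1 : G) ∈ univ.filter fun g : G => g • x₀ = x₀ := by simp
    rw [h1] at this
    exact notMem_empty _ this
  have hsq : ∑ χ, m χ * m χ ≤ r := by
    have h1 := inner_pc_self (G := G) (X := X)
    rw [hm, classInner_sum_irr] at h1
    have h2 : ∑ χ, m χ * m χ = Nat.card (orbitRel.Quotient G (X × X)) := by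
      simp only [map_natCast] at h1
      exact_mod_cast h1
    exact h2 ▸ card_orbits_le h
  have hz : ∀ χ ∈ E, m χ = 0 := fun χ hχ => by
    by_contra h0
    have h1 : ∑ _ψ ∈ insert o E, 1 ≤ ∑ ψ ∈ insert o E, m ψ * m ψ := sum_le_sum fun ψ hψ => by
      refine Nat.one_le_iff_ne_zero.2 (mul_self_ne_zero.2 ?_)
      rcases mem_insert.1 hψ with rfl | hψ
      exacts [o2, hcst ψ hψ χ hχ ▸ h0]
    have h2 := sum_le_sum_of_subset (f := fun ψ => m ψ * m ψ) (subset_univ (insert o E))
    rw [sum_const, card_insert_of_notMem o1, smul_eq_mul] at h1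
    omega
  let B : G → ℂ := fun g => (#{x | O x (g • x)} : ℕ)
  have hB : IsClassFunction G B := fun g u => by
    simp only [B]
    congr 1
    refine (card_equiv (MulAction.toPerm u) fun x => ?_).symm
    simp only [mem_filter, mem_univ, true_and, toPerm_apply, mul_smul, inv_smul_smul, hO]
  have hB0 : ∀ χ ∈ E, classInner B χ = 0 := fun χ hχ => by
    refine mul_left_cancel₀ (card_ne_zero' G) ?_
    have e1 : ∀ g : G, B g = ∑ x, ∑ y, (if O x y then (1 : ℂ) else 0) *
        if g • x = y then (1 : ℂ) else 0 := fun g => by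
      simp [B]
    rw [card_mul_classInner, mul_zero]
    simp only [e1, sum_mul]
    rw [sum_comm]
    refine sum_eq_zero fun x _ => ?_
    rw [sum_comm]
    refine sum_eq_zero fun y _ => ?_
    simp only [mul_assoc, ← mul_sum]
    rw [sum_eq_zero_of_inner χ.2 (by rw [hmi, hz χ hχ, Nat.cast_zero]), mul_zero]
  have : B a = B a' := by
    rw [hB.apply_eq_sum_irr a, hB.apply_eq_sum_irr a']
    refine sum_congr rfl fun χ _ => ?_
    by_cases hχ : χ ∈ E
    · rw [hB0 χ hχ, zero_mul, zero_mul]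
    · rw [hE.val χ hχ a ha a1, hE.val χ hχ a' ha' a1']
  exact Nat.cast_injective (R := ℂ) this

theorem sum_const {A : Subgroup G} {k r : ℕ} (hA : H66.IsCC A)
    (hf : ∀ a ∈ A, a ≠ 1 → ∀ x : X, a • x ≠ x) (hk : A.relIndex (normalizer (A : Set G)) ≤ k)
    (hr : 2 ≤ r) (hlt : r * k < Nat.card A)
    (h : ∀ s : Fin (r + 1) → X × X, ∃ i j, i ≠ j ∧ ∃ g : G, s j = g • s i)
    {R : Type*} [AddCommGroup R] (f : X → X → R) (hO : ∀ (g : G) x y, f (g • x) (g • y) = f x y)
    {a a' : G} (ha : a ∈ A) (a1 : a ≠ 1) (ha' : a' ∈ A) (a1' : a' ≠ 1) :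
    ∑ x, f x (a • x) = ∑ x, f x (a' • x) := by
  have key : ∀ b : G, ∑ x, f x (b • x) = ∑ w ∈ univ.image (fun p : X × X => f p.1 p.2),
      #{x | f x (b • x) = w} • w := fun b => by
    rw [← sum_fiberwise_of_maps_to (s := univ) (t := univ.image (fun p : X × X => f p.1 p.2))
      (g := fun x => f x (b • x)) fun x _ => mem_image.2 ⟨(x, b • x), mem_univ _, rfl⟩]
    refine sum_congr rfl fun w _ => ?_
    rw [sum_congr rfl fun x hx => (mem_filter.1 hx).2, Finset.sum_const]
  rw [key, key]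
  refine sum_congr rfl fun w _ => ?_
  rw [count_const hA hf hk hr hlt h (fun x y => f x y = w) (fun g x y => by rw [hO]) ha a1 ha' a1']

end core

section quot
variable {G : Type v} [Group G] {Ω : Type*} [MulAction G Ω] (Z : Subgroup G) [hZ : Z.Normal]

theorem rel_smul (g : G) {x y : Ω} (h : orbitRel Z Ω x y) : orbitRel Z Ω (g • x) (g • y) := by
  obtain ⟨z, rfl⟩ := h
  refine ⟨⟨g * z * g⁻¹, hZ.conj_mem z z.2 g⟩, ?_⟩
  show (g * z * g⁻¹) • g • y = g • (z : G) • y
  rw [mul_smul, mul_smul, inv_smul_smul]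

/-- The action on the orbits of a normal subgroup. -/
@[reducible] def actG (Ω : Type*) [MulAction G Ω] : MulAction G (orbitRel.Quotient Z Ω) where
  smul g := Quotient.map' (g • ·) fun _ _ => rel_smul Z g
  one_smul x := Quotient.inductionOn' x fun x => congrArg Quotient.mk'' (one_smul G x)
  mul_smul a b x := Quotient.inductionOn' x fun x => congrArg Quotient.mk'' (mul_smul a b x)

/-- The action of the quotient group on the orbits of a normal subgroup. -/
@[reducible] def actQ (Ω : Type*) [MulAction G Ω] : MulAction (G ⧸ Z) (orbitRel.Quotient Z Ω) :=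
  letI := actG Z Ω
  MulAction.compHom _ (QuotientGroup.lift Z (MulAction.toPermHom G (orbitRel.Quotient Z Ω))
    fun z hz => Equiv.ext fun x => Quotient.inductionOn' x fun x => Quotient.sound' ⟨⟨z, hz⟩, rfl⟩)

end quot

theorem jobExc : H53.SG.JobExc.{v} := by
  intro G _ _ Ω _ _ Z A hZ k r hZA hc hf hfree hk hr hlt hrk R _ f hinv a ha aZ a' ha' aZ'
  letI := actQ Z Ω
  haveI := Fintype.ofFinite (G ⧸ Z)
  haveI := Fintype.ofFinite (orbitRel.Quotient Z Ω)
  let π := QuotientGroup.mk' Z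
  let q : Ω → orbitRel.Quotient Z Ω := Quotient.mk''
  have hq : ∀ (g : G) x, π g • q x = q (g • x) := fun _ _ => rfl
  have hA : (A.map π).comap π = A := by
    rw [comap_map_eq, QuotientGroup.ker_mk', sup_eq_left.2 hZA]
  have hm : ∀ g, π g ∈ A.map π ↔ g ∈ A := fun g => by rw [← mem_comap, hA]
  have h1 : ∀ g : G, π g = 1 ↔ g ∈ Z := fun g => QuotientGroup.eq_one_iff g
  have f1 : ∀ x y, ∀ z ∈ Z, f x (z • y) = f x y := fun x y z hz => by
    simpa using hinv 1 z hz x y
  have f2 : ∀ x y, ∀ z ∈ Z, f (z • x) y = f x y := fun x y z hz => by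
    simpa using hinv z z⁻¹ (Z.inv_mem hz) x y
  let F : orbitRel.Quotient Z Ω → orbitRel.Quotient Z Ω → R := fun x y =>
    Quotient.liftOn₂' x y f (by
      rintro _ _ x y ⟨z, rfl⟩ ⟨w, rfl⟩
      exact (f2 x _ z z.2).trans (f1 x y w w.2))
  have key : ∀ b : G, ∑ x, f x (b • x) = Nat.card Z • ∑ x, F x (π b • x) := fun b => by
    rw [← sum_fiberwise (s := univ) (g := q), smul_sum]
    refine sum_congr rfl fun w _ => ?_
    obtain ⟨y, rfl⟩ := Quotient.exists_rep w
    rw [sum_congr rfl (g := fun _ => F (q y) (π b • q y)) fun x hx => by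
      rw [show q y = q x from (mem_filter.1 hx).2.symm]; rfl, Finset.sum_const]
    congr 1
    rw [← Fintype.card_coe, ← Nat.card_eq_fintype_card]
    refine (Nat.card_congr (Equiv.ofBijective (fun z : Z => ⟨(z : G) • y,
      mem_filter.2 ⟨mem_univ _, Quotient.sound' ⟨z, rfl⟩⟩⟩) ⟨fun z w e => ?_, fun x => ?_⟩)).symm
    · have e' : (z : G) • y = (w : G) • y := congrArg Subtype.val e
      refine Subtype.ext (inv_mul_eq_one.1 (hfree _ (Z.mul_mem (Z.inv_mem z.2) w.2) y ?_))
      rw [mul_smul, ← e', inv_smul_smul]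
    · obtain ⟨z, hz⟩ := Quotient.exact' (mem_filter.1 x.2).2
      exact ⟨z, Subtype.ext hz⟩
  rw [key, key]
  congr 1
  refine sum_const (A := A.map π) (k := k) (r := r) ?_ ?_ ?_ hr ?_ ?_ F ?_ ((hm a).2 ha)
    (mt (h1 a).1 aZ) ((hm a').2 ha') (mt (h1 a').1 aZ')
  · rintro _ ⟨b, hb, rfl⟩ b1
    ext g
    obtain ⟨g, rfl⟩ := QuotientGroup.mk'_surjective Z g
    rw [hm, ← hc b hb (mt (h1 b).2 b1), ← h1, mem_centralizer_singleton_iff]
    simp only [map_mul, map_inv]
    rw [mul_inv_eq_one, mul_inv_eq_iff_eq_mul]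
  · rintro _ ⟨b, hb, rfl⟩ b1 x e
    obtain ⟨x, rfl⟩ := Quotient.exists_rep x
    obtain ⟨z, hz⟩ := Quotient.exact' e
    exact hf b hb (mt (h1 b).2 b1) z z.2 x hz.symm
  · rwa [← hA, relIndex_comap, ← comap_normalizer_eq_of_surjective _ (QuotientGroup.mk'_surjective Z),
      map_comap_eq_self_of_surjective (QuotientGroup.mk'_surjective Z)] at hk
  · rwa [← relIndex_ker, QuotientGroup.ker_mk']
  · intro s
    obtain ⟨i, j, hij, g, z, hz, e1, e2⟩ := hrk fun i => ((s i).1.out, (s i).2.out)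
    refine ⟨i, j, hij, π g, Prod.ext ?_ ?_⟩
    · rw [Prod.smul_fst, ← Quotient.out_eq (s j).1, ← Quotient.out_eq (s i).1]
      exact congrArg q e1
    · rw [Prod.smul_snd, ← Quotient.out_eq (s j).2, ← Quotient.out_eq (s i).2,
        show π g = π (g * z) by rw [map_mul, (h1 z).2 hz, mul_one]]
      exact congrArg q e2
  · intro g x y
    obtain ⟨g, rfl⟩ := QuotientGroup.mk'_surjective Z g
    obtain ⟨x, rfl⟩ := Quotient.exists_rep x
    obtain ⟨y, rfl⟩ := Quotient.exists_rep y
    have := hinv g 1 Z.one_mem x y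
    rw [mul_one] at this
    exact this

end H93.SG
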