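import Cfsg.Agent.H57.U2CSpec

/-! Slot DPV-TRI of the tower for S3275: the trichotomy. -/

set_option autoImplicit false

namespace H93.DpTri

open Subgroup Cfsg H98 H96 H97 H48.DP H57.DPC H48.DP2 H96.U2I H57.U2C

universe u

variable {G : Type u} [Group G] [Finite G]

omit [Finite G] in
theorem card_rel (C B : Subgroup G) : C.relIndex B * Nat.card ↥(C ⊓ B) = Nat.card B := by
  rw [← (C.subgroupOf B).index_mul_card, ← inf_subgroupOf_right C B,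
    Nat.card_congr (subgroupOfEquivOfLe (inf_le_right : C ⊓ B ≤ B)).toEquiv, inf_subgroupOf_right]
  rfl

theorem nine {C Y F B : Subgroup G} (hC : C ≤ F) (hB : B ≤ F) (hY : Nat.card Y ≤ 3) (hYF : Y ≤ F)
    (h : ∀ f ∈ F, ∃ k ∈ C, ∃ e ∈ Y, f = k * e) (h27 : 27 ≤ Nat.card B) :
    9 ≤ Nat.card ↥(C ⊓ B) := by
  have h1 : Nat.card F ≤ Nat.card C * Nat.card Y := by
    rw [← Nat.card_prod]
    refine Nat.card_le_card_of_surjective
      (fun p : C × Y => (⟨p.1 * p.2, F.mul_mem (hC p.1.2) (hYF p.2.2)⟩ : F)) ?_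
    rintro ⟨f, hf⟩
    obtain ⟨k, hk, e, he, rfl⟩ := h f hf
    exact ⟨(⟨k, hk⟩, ⟨e, he⟩), rfl⟩
  have h2 := card_rel C F
  rw [inf_eq_left.2 hC] at h2
  have h3 : 0 < Nat.card C := Nat.card_pos
  have h4 : 0 < Nat.card F := Nat.card_pos
  have h5 : C.relIndex F ≤ 3 := by
    by_contra hn
    have : 4 * Nat.card C ≤ C.relIndex F * Nat.card C := Nat.mul_le_mul_right _ (by omega)
    have : Nat.card C * Nat.card Y ≤ Nat.card C * 3 := Nat.mul_le_mul_left _ hY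
    omega
  have h6 : C.relIndex F ≠ 0 := fun e => by
    rw [e] at h2
    omega
  have h7 := (relIndex_le_of_le_right hB h6).trans h5
  have h8 := card_rel C B
  have : C.relIndex B * Nat.card ↥(C ⊓ B) ≤ 3 * Nat.card ↥(C ⊓ B) := Nat.mul_le_mul_right _ h7
  omega

theorem jobTRI : JobTRI.{u} := by
  intro _ ty tz G _ _ M Q T R Q₀ F y t h h3
  have : Fact (Nat.Prime 2) := ⟨Nat.prime_two⟩
  have : Fact (Nat.Prime 3) := ⟨Nat.prime_three⟩
  set V := ncl (T ⊔ F) (oZ 2 T) with hV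
  have KV : T ⊔ F ≤ No V := le_normalizer_ncl _ _
  have QV : Q₀ ≤ Ce V :=
    le_centralizer_ncl (h.kq.le.trans (le_centralizer_oZ T)) (sup_le h.kq.TQ h.kq.FQ)
  have VZ : Ce V ≤ Ce (oZ 2 T) := centralizer_anti (le_ncl _ _)
  have c1 : ∀ {w : G}, w ∈ oZ 2 T → Ce V ≤ C1 w := fun hw g hg =>
    mem_centralizer_singleton_iff.2 (VZ hg _ hw).symm
  obtain ⟨k1, k2, k3, k4⟩ := ty G T Q₀ F V h.kq KV QV
  have hT : T ≠ ⊥ := fun e => h.nt (le_bot_iff.1 (e ▸ h.QT))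
  obtain ⟨z, zZ, z1⟩ := (bot_or_exists_ne_one (oZ 2 T)).resolve_left (oZ_ne_bot h.kq.T2 hT)
  obtain ⟨B, hBF, hB, h27⟩ := h.e27
  have gz : ∀ E : Subgroup G, E ≤ B → 9 ≤ Nat.card E → E ≤ Ce V → ∀ w ∈ oZ 2 T, w ≠ 1 →
      C1 w ≤ M := fun E e1 e2 e3 w hw w1 =>
    h.gd F h.FM w w1 (by rw [← pow_two]; exact (mem_oZ.1 hw).2.2)
      ⟨E, e1.trans hBF, ⟨⟨⟨fun a b => Subtype.ext
        (congrArg Subtype.val (hB.1.1.1 ⟨a, e1 a.2⟩ ⟨b, e1 b.2⟩) :)⟩⟩, fun a ha => hB.2 a (e1 ha)⟩,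
        e2, e3.trans (c1 hw)⟩
  by_cases big : F ≤ Ce V
  · exact .inr (.inl ⟨F, z, { h with
      zZ := zZ, z1 := z1, Fz := big.trans (c1 zZ), gz := gz B le_rfl (by omega) (hBF.trans big) }⟩)
  by_cases cyc : IsCyclic ↥(F ⊓ No (T ⊓ Ce V))
  swap
  · exact .inl ⟨_, V, { h with eV := hV, YF := inf_le_left, nc := cyc, kq1 := k1, big := big }⟩
  have hx : ∃ x ∈ F ⊓ No (T ⊓ Ce V), x ∉ Ce V := by
    by_contra hn
    push Not at hn
    refine big fun f hf => ?_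
    obtain ⟨k, hk, e, he, rfl⟩ := k4 f hf
    exact mul_mem hk.2 (hn e he)
  obtain ⟨x, xY, xV⟩ := hx
  have x3 : orderOf x = 3 := orderOf_eq_prime (h3 x xY.1) fun e => xV (e ▸ one_mem _)
  have hY : Nat.card ↥(F ⊓ No (T ⊓ Ce V)) ≤ 3 := by
    have h2 : Monoid.exponent ↥(F ⊓ No (T ⊓ Ce V)) ∣ 3 :=
      Monoid.exponent_dvd_of_forall_pow_eq_one fun b => Subtype.ext (h3 b b.2.1)
    rw [IsCyclic.exponent_eq_card] at h2
    exact Nat.le_of_dvd (by norm_num) h2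
  have eY : zpowers x = F ⊓ No (T ⊓ Ce V) :=
    eq_of_le_of_card_ge (zpowers_le.2 xY) (by rw [Nat.card_zpowers, x3]; exact hY)
  have eF : F = F ⊓ Ce V ⊔ zpowers x := by
    refine le_antisymm (fun f hf => ?_) (sup_le inf_le_left (zpowers_le.2 xY.1))
    obtain ⟨k, hk, e, he, rfl⟩ := k4 f hf
    exact mul_mem (mem_sup_left hk) (mem_sup_right (eY ▸ he))
  have gz' := gz (F ⊓ Ce V ⊓ B) inf_le_right (nine inf_le_left hBF hY inf_le_left k4 h27)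
    (inf_le_left.trans inf_le_right)
  by_cases e27 : E27 (F ⊓ Ce V)
  · exact .inr (.inl ⟨F ⊓ Ce V, z, { h.toCt with
      QQ := h.QQ
      kq := ⟨h.kq.T2, h.kq.F3.to_le inf_le_left, h.kq.le, h.kq.TQ, inf_le_left.trans h.kq.FQ, k3⟩
      FM := inf_le_left.trans h.FM, e27 := e27, zZ := zZ, z1 := z1,
      Fz := inf_le_right.trans (c1 zZ), gz := gz' }⟩)
  rcases bot_or_exists_ne_one (oZ 2 T ⊓ C1 x) with e | ⟨w, hw, w1⟩
  · refine .inr (.inr ?_)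
    obtain ⟨E, hE⟩ := tz G M Q T R Q₀ F (F ⊓ Ce V) y t x h inf_le_left
      (le_normalizer_inf le_normalizer (le_normalizer_centralizer (le_sup_right.trans KV))) xY.1
      (fun k => xV k.2) x3 eF k3 (eY ▸ k2) (inf_le_right.trans VZ) e27 e
    exact ⟨E, x, hE⟩
  · refine .inr (.inl ⟨F, w, { h with zZ := hw.1, z1 := w1, Fz := ?_, gz := gz' }⟩)
    rw [eF]
    exact sup_le (inf_le_right.trans (c1 hw.1)) (zpowers_le.2
      (mem_centralizer_singleton_iff.2 (mem_centralizer_singleton_iff.1 hw.2).symm))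

end H93.DpTri
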