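/- Products of involutions of two permuted simple factors (job GT1 of blueprints/C7-O3.md). -/
import Cfsg.Agent.H60.WrO3Spec
import Cfsg.Agent.H25.ClBase
import Cfsg.Agent.H14.Std

set_option autoImplicit false

namespace H93.GT
open Cfsg Subgroup H60.Wr

universe u

variable {G : Type u} [Group G]

/-- An involution normalising a subgroup of even order centralises one of its involutions. -/
theorem exists_inv_cent [Finite G] {L : Subgroup G} (hL : Even (Nat.card L)) {t : G}
    (ht : t * t = 1) (hn : ∀ x ∈ L, t * x * t⁻¹ ∈ L) :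
    ∃ x ∈ L, x ≠ 1 ∧ x * x = 1 ∧ x * t = t * x := by
  classical
  haveI : Fact (Nat.Prime 2) := ⟨Nat.prime_two⟩
  haveI := Fintype.ofFinite L
  let f : Function.End L := fun x => ⟨t * x * t⁻¹, hn x x.2⟩
  have hf : f ^ 2 ^ 1 = 1 := by
    funext x
    apply Subtype.ext
    show t * (t * x * t⁻¹) * t⁻¹ = x
    calc _ = (t * t) * x * (t * t)⁻¹ := by group
      _ = x := by rw [ht]; group
  have h1 := Equiv.Perm.card_fixedPoints_modEq hf
  have e : Nat.card (L ⊓ centralizer {t} : Subgroup G) = Fintype.card f.fixedPoints := by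
    rw [← Nat.card_eq_fintype_card]
    refine Nat.card_congr ⟨fun x => ⟨⟨x, x.2.1⟩, Subtype.ext ?_⟩, fun x => ⟨x.1, x.1.2, ?_⟩,
      fun _ => rfl, fun _ => rfl⟩
    · show t * x * t⁻¹ = x
      rw [← mem_centralizer_singleton_iff.1 x.2.2, mul_inv_cancel_right]
    · have : t * x.1 * t⁻¹ = x.1 := congrArg Subtype.val x.2
      exact mem_centralizer_singleton_iff.2 (mul_inv_eq_iff_eq_mul.1 this).symm
  rw [← e, ← Nat.card_eq_fintype_card] at h1
  have h2 : 2 ∣ Nat.card (L ⊓ centralizer {t} : Subgroup G) :=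
    (h1.dvd_iff dvd_rfl).1 hL.two_dvd
  obtain ⟨x, hx⟩ := exists_prime_orderOf_dvd_card' 2 h2
  have h3 : orderOf (x : G) = 2 := by rw [orderOf_coe, hx]
  exact ⟨x, x.2.1, H25.Cl.ne_one_of_order_two h3, H25.Cl.sq_of_order_two h3,
    mem_centralizer_singleton_iff.1 x.2.2⟩

/-- Every involution of a non-abelian simple subgroup commutes with another one. -/
theorem exists_four [Finite G] {L : Subgroup G} (hs : IsSimpleGroup L) (na : ¬ IsMulCommutative L)
    {y : G} (hy : y ∈ L) (y1 : y ≠ 1) (y2 : y * y = 1) :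
    ∃ a ∈ L, a ≠ 1 ∧ a * a = 1 ∧ a ≠ y ∧ y * a = a * y := by
  obtain ⟨g, h1, h2⟩ := H25.Cl.exists_conj_comm na (z := (⟨y, hy⟩ : L))
    (H25.Cl.order_two_of (Subtype.ext y2) fun e => y1 (congrArg Subtype.val e))
  refine ⟨_, (g * ⟨y, hy⟩ * g⁻¹).2, fun e => y1 ?_, ?_, fun e => h2 (Subtype.ext e),
    congrArg Subtype.val h1.eq⟩
  · have e' : (g : G) * y * (g : G)⁻¹ = 1 := e
    simpa using e'
  · show (g : G) * y * (g : G)⁻¹ * ((g : G) * y * (g : G)⁻¹) = 1
    calc _ = (g : G) * (y * y) * (g : G)⁻¹ := by group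
      _ = 1 := by rw [y2]; group

/-- The Z*-theorem modulo a central involution, with a four-group whose conjugates detect `M`. -/
theorem top_of_mod [Finite G] {M : Subgroup G} {u y a : G} (hu : ∀ k, k * u = u * k)
    (u2 : u * u = 1) (uM : u ∈ M) (y2 : y * y = 1) (a2 : a * a = 1) (hc : y * a = a * y)
    (yM : y ∈ M) (aM : a ∈ M) (hne : ∀ e ∈ [y, a, y * a], e ≠ 1 ∧ e ≠ u)
    (hfix : ∀ e ∈ [y, a, y * a], ∀ g, g * e * g⁻¹ ∈ M → g ∈ M)
    (hw : ∀ g ∈ M, g * y * g⁻¹ = y ∨ g * y * g⁻¹ = y * u) (g : G) : g ∈ M := by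
  haveI : Fact (Nat.Prime 2) := ⟨Nat.prime_two⟩
  let N : Subgroup G :=
    { carrier := {k | k = 1 ∨ k = u}
      one_mem' := .inl rfl
      mul_mem' := by rintro _ _ (rfl | rfl) (rfl | e) <;> simp [*]
      inv_mem' := by
        rintro _ (rfl | rfl)
        exacts [.inl inv_one, .inr (inv_eq_of_mul_eq_one_right u2)] }
  have : N.Normal := ⟨by
    rintro _ (rfl | rfl) g
    exacts [.inl (by simp), .inr (by rw [hu]; simp)]⟩
  let π := QuotientGroup.mk' N
  have hπ : ∀ p q : G, π p = π q ↔ q = p ∨ q = p * u := fun p q => by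
    show (p : G ⧸ N) = q ↔ _
    rw [QuotientGroup.eq]
    exact or_congr (by rw [inv_mul_eq_one, eq_comm]) inv_mul_eq_iff_eq_mul
  have hM : ∀ k, π k ∈ M.map π → k ∈ M := by
    rintro k ⟨m, hm, e⟩
    rcases (hπ _ _).1 e with rfl | rfl
    exacts [hm, M.mul_mem hm uM]
  have hem : ∀ e ∈ [y, a, y * a], e ∈ M := fun e he => by
    simp only [List.mem_cons, List.not_mem_nil, or_false] at he
    rcases he with rfl | rfl | rfl
    exacts [yM, aM, M.mul_mem yM aM]
  have hcen : ∀ e ∈ [y, a, y * a], ∀ k, π k * π e = π e * π k → k ∈ M := fun e he k hk =>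
    hfix e he k (hM _ (by
      rw [map_mul, map_mul, map_inv, hk, mul_inv_cancel_right]
      exact mem_map_of_mem _ (hem e he)))
  have n1 : ∀ e ∈ [y, a, y * a], π e ≠ 1 := fun e he h => by
    rcases (hπ 1 e).1 (by rw [h, map_one]) with h | h
    exacts [(hne e he).1 h, (hne e he).2 (by rw [h, one_mul])]
  have oy : orderOf (π y) = 2 :=
    orderOf_eq_prime (by rw [← map_pow, sq, y2, map_one]) (n1 y (by simp))
  have oa : orderOf (π a) = 2 :=
    orderOf_eq_prime (by rw [← map_pow, sq, a2, map_one]) (n1 a (by simp))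
  have hO : oddCore (G ⧸ N) ≤ M.map π := by
    have key : ∀ e ∈ [y, a, y * a], oddCore (G ⧸ N) ⊓ centralizer {π e} ≤ M.map π := by
      intro e he k hk
      obtain ⟨k, rfl⟩ := QuotientGroup.mk'_surjective N k
      exact mem_map_of_mem _ (hcen e he k (mem_centralizer_singleton_iff.1 hk.2))
    refine H14.le_of_four oy oa (by rw [← map_mul, hc, map_mul]) (fun e => n1 (y * a) (by simp) ?_)
      (H2.coprime_card_pPrimeCore 2 _) (le_normalizer_of_normal (mem_top _))
      (le_normalizer_of_normal (mem_top _)) (key y (by simp)) (key a (by simp))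
      (by rw [← map_mul]; exact key _ (by simp))
    rw [map_mul, e, ← map_mul, a2, map_one]
  have iso : IsIsolatedInvolution (π y) := ⟨oy, fun q hq => by
    obtain ⟨q, rfl⟩ := QuotientGroup.mk'_surjective N q
    have h1 : q * y * q⁻¹ ∈ M := hcen y (by simp) _ (by
      rw [map_mul, map_mul, map_inv]; exact hq.eq.symm)
    have h2 := hw q (hfix y (by simp) q h1)
    have := ((hπ y _).2 h2).symm
    rwa [map_mul, map_mul, map_inv] at this⟩
  have h1 : y * g * y⁻¹ * g⁻¹ ∈ M := hM _ (by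
    simp only [map_mul, map_inv]
    exact hO (H34.zstar iso (π g)))
  refine hfix y (by simp) g ?_
  have h2 := M.inv_mem (M.mul_mem (M.inv_mem yM) h1)
  have e : (y⁻¹ * (y * g * y⁻¹ * g⁻¹))⁻¹ = g * y * g⁻¹ := by group
  rwa [e] at h2

variable {H : Subgroup G} {ι : Type} {L : ι → Subgroup G}

theorem cent_one (h : GTH H L) {i : ι} {x : G} (hx : x ∈ L i) (hc : ∀ w ∈ L i, x * w = w * x) :
    x = 1 := by
  haveI := h.simple i
  have : (⟨x, hx⟩ : L i) ∈ center (L i) := mem_center_iff.2 fun w => Subtype.ext (hc w w.2).symm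
  rw [H25.Cl.center_bot (h.nonab i), mem_bot] at this
  exact congrArg Subtype.val this

theorem eq_of_le (h : GTH H L) {i c : ι} (hle : ∀ x ∈ L i, x ∈ L c) : i = c := by
  by_contra hne
  exact h.nonab i ⟨⟨fun a b => Subtype.ext (h.comm i c hne a a.2 b (hle b b.2))⟩⟩

theorem eq_of_mem (h : GTH H L) {i j : ι} {x : G} (hi : x ∈ L i) (hj : x ∈ L j) (x1 : x ≠ 1) :
    i = j := by
  by_contra hne
  exact x1 (cent_one h hi fun w hw => (h.comm i j hne w hw x hj).symm)

theorem perm_ne (h : GTH H L) {k : G} (hk : k ∈ H) {i j a b : ι} (hij : i ≠ j)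
    (ha : ∀ x ∈ L i, k * x * k⁻¹ ∈ L a) (hb : ∀ x ∈ L j, k * x * k⁻¹ ∈ L b) : a ≠ b := by
  rintro rfl
  obtain ⟨c, hc⟩ := h.perm k⁻¹ (H.inv_mem hk) a
  have e : ∀ x : G, k⁻¹ * (k * x * k⁻¹) * k⁻¹⁻¹ = x := fun x => by group
  exact hij ((eq_of_le h fun x hx => e x ▸ hc _ (ha x hx)).trans
    (eq_of_le h fun x hx => e x ▸ hc _ (hb x hx)).symm)

theorem swap (h : GTH H L) {i j : ι} (hij : i ≠ j) {y z k : G} (hy : y ∈ L i) (hz : z ∈ L j)
    (y1 : y ≠ 1) (hk : k ∈ H) (hc : k * (y * z) = y * z * k) :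
    k * y * k⁻¹ = y ∨ k * y * k⁻¹ = z := by
  obtain ⟨a, ha⟩ := h.perm k hk i
  obtain ⟨b, hb⟩ := h.perm k hk j
  have hab := perm_ne h hk hij ha hb
  have h1 := ha y hy
  have h2 := hb z hz
  have e : k * y * k⁻¹ * (k * z * k⁻¹) = y * z := by
    calc _ = k * (y * z) * k⁻¹ := by group
      _ = _ := by rw [hc]; group
  generalize k * z * k⁻¹ = z₁ at h2 e
  have n1 : k * y * k⁻¹ ≠ 1 := fun e => y1 (by simpa using e)
  generalize k * y * k⁻¹ = y₁ at h1 e n1
  have cb : ∀ w ∈ L a, Commute z₁ w := fun w hw => h.comm b a hab.symm z₁ h2 w hw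
  by_cases hi : a = i
  · subst hi
    left
    have e1 : y⁻¹ * y₁ = z * z₁⁻¹ := by
      rw [inv_mul_eq_iff_eq_mul, ← mul_assoc, ← e, mul_inv_cancel_right]
    refine (inv_mul_eq_one.1 (cent_one h ((L a).mul_mem ((L a).inv_mem hy) h1) fun w hw => ?_)).symm
    rw [e1]
    exact ((show Commute z w from h.comm j a hij.symm z hz w hw).mul_left (cb w hw).inv_left).eq
  by_cases hj : a = j
  · subst hj
    right
    have e1 : z⁻¹ * y₁ = y * z₁⁻¹ := by
      rw [inv_mul_eq_iff_eq_mul, ← mul_assoc, ← h.comm i a hij y hy z hz, ← e, mul_inv_cancel_right]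
    refine (inv_mul_eq_one.1 (cent_one h ((L a).mul_mem ((L a).inv_mem hz) h1) fun w hw => ?_)).symm
    rw [e1]
    exact ((show Commute y w from h.comm i a hij y hy w hw).mul_left (cb w hw).inv_left).eq
  · refine (n1 (cent_one h h1 fun w hw => ?_)).elim
    rw [eq_mul_inv_of_mul_eq e]
    exact (((show Commute y w from h.comm i a (Ne.symm hi) y hy w hw).mul_left
      (show Commute z w from h.comm j a (Ne.symm hj) z hz w hw)).mul_left (cb w hw).inv_left).eq

/-- The centraliser of a product of involutions of two factors lies in `H`. -/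
theorem cent_le [Finite G] (h : GTH H L) {i j : ι} (hij : i ≠ j) {y z : G} (hy : y ∈ L i)
    (hz : z ∈ L j) (y1 : y ≠ 1) (y2 : y * y = 1) (z1 : z ≠ 1) (z2 : z * z = 1) {c : G}
    (hc : c * (y * z) = y * z * c) : c ∈ H := by
  obtain ⟨a, ha, a1, a2, ay, hya⟩ := exists_four (h.simple i) (h.nonab i) hy y1 y2
  have hyz := h.comm i j hij y hy z hz
  let K := centralizer ({y * z} : Set G)
  have mk : ∀ {x : G}, x * (y * z) = y * z * x → x ∈ K := mem_centralizer_singleton_iff.mpr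
  have um : ∀ x : K, (x : G) * (y * z) = y * z * x := fun x => mem_centralizer_singleton_iff.mp x.2
  have yK : y ∈ K := mk (by rw [mul_assoc, ← hyz])
  have aK : a ∈ K := mk (by
    rw [← mul_assoc, ← hya, mul_assoc, h.comm i j hij a ha z hz, mul_assoc])
  have u2 : y * z * (y * z) = 1 := by
    calc _ = y * (z * y) * z := by group
      _ = (y * y) * (z * z) := by rw [← hyz]; group
      _ = 1 := by rw [y2, z2, one_mul]
  have hL : ∀ e ∈ [(⟨y, yK⟩ : K), ⟨a, aK⟩, ⟨y, yK⟩ * ⟨a, aK⟩],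
      (e : G) ∈ L i ∧ (e : G) ≠ 1 ∧ (e : G) * e = 1 := fun e he => by
    simp only [List.mem_cons, List.not_mem_nil, or_false] at he
    rcases he with rfl | rfl | rfl
    · exact ⟨hy, y1, y2⟩
    · exact ⟨ha, a1, a2⟩
    · refine ⟨(L i).mul_mem hy ha, fun e => ay ?_, ?_⟩
      · have e' : y * a = 1 := e
        rw [← mul_right_inj y, e', y2]
      · show y * a * (y * a) = 1
        calc _ = y * (a * y) * a := by group
          _ = (y * y) * (a * a) := by rw [← hya]; group
          _ = 1 := by rw [y2, a2, one_mul]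
  refine top_of_mod (M := H.subgroupOf K) (u := ⟨y * z, mk rfl⟩) (y := ⟨y, yK⟩) (a := ⟨a, aK⟩)
    (fun k => Subtype.ext (um k)) (Subtype.ext u2) (H.mul_mem (h.le i hy) (h.le j hz))
    (Subtype.ext y2) (Subtype.ext a2) (Subtype.ext hya) (h.le i hy) (h.le i ha)
    (fun e he => ⟨fun e1 => (hL e he).2.1 (congrArg Subtype.val e1), fun e1 => hij ?_⟩)
    (fun e he g hg => h.fix i e (hL e he).1 (hL e he).2.1 (hL e he).2.2 g hg) (fun g hg => ?_)
    ⟨c, mk hc⟩
  · have h1 : y * z ∈ L i := by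
      have := (hL e he).1
      rwa [e1] at this
    exact eq_of_mem h ((mul_mem_cancel_left hy).1 h1) hz z1
  · refine (swap h hij hy hz y1 hg (um g)).imp (fun e => Subtype.ext e) fun e => Subtype.ext ?_
    exact e.trans (show z = y * (y * z) by rw [← mul_assoc, y2, one_mul])

theorem jobGT1 : JobGT1.{u} := by
  intro G _ _ H ι L h i j hij y hy z hz y1 y2 z1 z2 g hg
  by_contra gH
  have hyz := h.comm i j hij y hy z hz
  have u2 : y * z * (y * z) = 1 := by
    calc _ = y * (z * y) * z := by group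
      _ = (y * y) * (z * z) := by rw [← hyz]; group
      _ = 1 := by rw [y2, z2, one_mul]
  obtain ⟨t, ht⟩ : ∃ t, t = g * (y * z) * g⁻¹ := ⟨_, rfl⟩
  rw [← ht] at hg
  have t2 : t * t = 1 := by
    calc _ = g * (y * z * (y * z)) * g⁻¹ := by rw [ht]; group
      _ = 1 := by rw [u2]; group
  have back : ∀ x, x * t = t * x → g⁻¹ * x * g * (y * z) = y * z * (g⁻¹ * x * g) := fun x hx => by
    calc _ = g⁻¹ * (x * t) * g := by rw [ht]; group
      _ = _ := by rw [hx, ht]; group
  obtain ⟨k, hk⟩ := h.perm t hg i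
  have hik : i ≠ k := by
    rintro rfl
    haveI := h.simple i
    obtain ⟨x, hx, x1, x2, hc⟩ := exists_inv_cent (H25.Cl.even_card (h.nonab i)) t2 hk
    exact gH (H.inv_mem_iff.1 (h.fix i x hx x1 x2 g⁻¹ (by
      rw [inv_inv]; exact cent_le h hij hy hz y1 y2 z1 z2 (back x hc))))
  have key : ∀ x ∈ L i, x ≠ 1 → x * x = 1 →
      g⁻¹ * (x * (t * x * t⁻¹)) * g * y * (g⁻¹ * (x * (t * x * t⁻¹)) * g)⁻¹ = z := by
    intro x hx x1 x2
    have hc : x * (t * x * t⁻¹) * t = t * (x * (t * x * t⁻¹)) := by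
      have ti : t⁻¹ = t := inv_eq_of_mul_eq_one_right t2
      calc _ = t * (t * x * t⁻¹ * x) := by
            rw [ti, mul_assoc, mul_assoc, t2, mul_one, ← mul_assoc, ← mul_assoc, ← mul_assoc,
              ← mul_assoc, t2, one_mul]
        _ = _ := by rw [h.comm i k hik x hx _ (hk x hx)]
    have h1 := back _ hc
    refine (swap h hij hy hz y1 (cent_le h hij hy hz y1 y2 z1 z2 h1) h1).resolve_left fun e => gH ?_
    refine h.fix i y hy y1 y2 g (cent_le h hik hx (hk x hx) x1 x2 (fun e => x1 (by simpa using e))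
      (by calc _ = t * (x * x) * t⁻¹ := by group
        _ = 1 := by rw [x2]; group) ?_)
    generalize x * (t * x * t⁻¹) = θ at e ⊢
    calc g * y * g⁻¹ * θ = g * (g⁻¹ * θ * g * y * (g⁻¹ * θ * g)⁻¹) * g⁻¹ * θ := by rw [e]
      _ = _ := by group
  obtain ⟨a, ha, a1, a2, ay, hya⟩ := exists_four (h.simple i) (h.nonab i) hy y1 y2
  have k1 := key y hy y1 y2
  have k2 := key a ha a1 a2
  have k3 := key (y * a) ((L i).mul_mem hy ha) (fun e => ay (by rw [← mul_right_inj y, e, y2]))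
    (by calc _ = y * (a * y) * a := by group
      _ = (y * y) * (a * a) := by rw [← hya]; group
      _ = 1 := by rw [y2, a2, one_mul])
  have e : g⁻¹ * (y * a * (t * (y * a) * t⁻¹)) * g =
      g⁻¹ * (y * (t * y * t⁻¹)) * g * (g⁻¹ * (a * (t * a * t⁻¹)) * g) := by
    calc _ = g⁻¹ * (y * (a * (t * y * t⁻¹)) * (t * a * t⁻¹)) * g := by group
      _ = _ := by rw [h.comm i k hik a ha _ (hk y hy)]; group
  rw [e] at k3
  generalize g⁻¹ * (y * (t * y * t⁻¹)) * g = p at k1 k3
  generalize g⁻¹ * (a * (t * a * t⁻¹)) * g = q at k2 k3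
  have e2 : y = z := by
    have : p * z * p⁻¹ = p * y * p⁻¹ := by
      calc _ = p * (q * y * q⁻¹) * p⁻¹ := by rw [k2]
        _ = p * q * y * (p * q)⁻¹ := by group
        _ = _ := by rw [k3, k1]
    simpa using this.symm
  exact hij (eq_of_mem h hy (e2 ▸ hz) y1)

end H93.GT
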