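/- A subgroup permuting simple factors whose involutions fix one coset (job GT2 of blueprints/C7-O3.md). -/
import Cfsg.Agent.H93.GT1
import Cfsg.Agent.H99.ZDRows4
import Cfsg.Agent.H51.ZDIIE
import Cfsg.Agent.H82.Hub

set_option autoImplicit false

namespace H93.GT
open Cfsg Subgroup H60.Wr MulAction H27.ZD

universe u

variable {G : Type u} [Group G] {H : Subgroup G} {ι : Type} {L : ι → Subgroup G}

/-- The conjugates of the involutions of the factors. -/
def ZL (L : ι → Subgroup G) : Set G :=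
  {x | ∃ i, ∃ z ∈ L i, z ≠ 1 ∧ z * z = 1 ∧ ∃ g : G, x = g * z * g⁻¹}

theorem fix_iff (g x : G) : x • g • ((1 : G) : G ⧸ H) = g • ((1 : G) : G ⧸ H) ↔ g⁻¹ * x * g ∈ H := by
  rw [← H88.smul_one_coset_eq_iff, mul_smul, mul_smul, inv_smul_eq_iff]

theorem uniq_of {x : G} (h : ∀ g : G, g * x * g⁻¹ ∈ H → g ∈ H) (k : G) (b : G ⧸ H)
    (hb : (k * x * k⁻¹) • b = b) : b = k • ((1 : G) : G ⧸ H) := by
  obtain ⟨g, rfl⟩ := exists_smul_eq G ((1 : G) : G ⧸ H) b
  have h1 := h (g⁻¹ * k) (by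
    have := (fix_iff g _).1 hb
    rwa [show g⁻¹ * (k * x * k⁻¹) * g = g⁻¹ * k * x * (g⁻¹ * k)⁻¹ by group] at this)
  rw [eq_comm, ← inv_smul_eq_iff, ← mul_smul, H88.smul_one_coset_eq_iff]
  exact h1

theorem mem_ZL {i : ι} {z : G} (hz : z ∈ L i) (z1 : z ≠ 1) (z2 : z * z = 1) : z ∈ ZL L :=
  ⟨i, z, hz, z1, z2, 1, by simp⟩

theorem ps_ZL [Finite G] (h : GTH H L) (hp : GTP H L) : PS (G ⧸ H) (ZL L) := by
  have cs : ∀ {z : G} (g : G), z * z = 1 → g * z * g⁻¹ * (g * z * g⁻¹) = 1 := fun {z} g z2 => by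
    calc _ = g * (z * z) * g⁻¹ := by group
      _ = 1 := by rw [z2]; group
  have hfix : ∀ x ∈ ZL L, ∃! a : G ⧸ H, x • a = a := by
    rintro _ ⟨i, z, hz, z1, z2, g, rfl⟩
    refine ⟨g • ((1 : G) : G ⧸ H), (fix_iff g _).2 ?_, fun b hb => uniq_of (h.fix i z hz z1 z2) g b hb⟩
    rw [show g⁻¹ * (g * z * g⁻¹) * g = z by group]
    exact h.le i hz
  refine ⟨?_, ?_, ?_, hfix, ?_⟩
  · rintro _ ⟨i, z, hz, z1, z2, g, rfl⟩ k
    exact ⟨i, z, hz, z1, z2, k * g, by group⟩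
  · rintro _ ⟨i, z, hz, z1, z2, g, rfl⟩ e
    exact z1 (by simpa using e)
  · rintro _ ⟨i, z, hz, z1, z2, g, rfl⟩
    exact cs g z2
  · rintro _ ⟨i, y, hy, y1, y2, g, rfl⟩ _ ⟨j, z, hz, z1, z2, k, rfl⟩ hne hc a b ha hb
    have h1 : g⁻¹ * k * z * (g⁻¹ * k)⁻¹ * y * (g⁻¹ * k * z * (g⁻¹ * k)⁻¹)⁻¹ = y := by
      calc _ = g⁻¹ * (k * z * k⁻¹ * (g * y * g⁻¹)) * (k * z * k⁻¹)⁻¹ * g := by group
        _ = y := by rw [← hc]; group
    have h2 : g⁻¹ * k ∈ H := h.fix j z hz z1 z2 _ (h.fix i y hy y1 y2 _ (by rw [h1]; exact h.le i hy))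
    obtain ⟨c, hc'⟩ := h.perm _ h2 j
    have h3 := hc' z hz
    have n1 : g⁻¹ * k * z * (g⁻¹ * k)⁻¹ ≠ 1 := fun e => z1 (by
      rwa [mul_inv_eq_one, mul_eq_left] at e)
    have s2 := cs (g⁻¹ * k) z2
    have e : g * y * g⁻¹ * (k * z * k⁻¹) = g * (y * (g⁻¹ * k * z * (g⁻¹ * k)⁻¹)) * g⁻¹ := by group
    have hne' : y ≠ g⁻¹ * k * z * (g⁻¹ * k)⁻¹ := fun e => hne (by rw [e]; group)
    generalize g⁻¹ * k * z * (g⁻¹ * k)⁻¹ = w at h1 h3 n1 s2 e hne'
    rw [e] at ha hb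
    have key : ∀ m : G, m * (y * w) * m⁻¹ ∈ H → m ∈ H := by
      by_cases hic : i = c
      · subst hic
        refine h.fix i _ ((L i).mul_mem hy h3) (fun e => hne' ?_) ?_
        · rw [← mul_right_inj y, e, y2]
        · calc _ = y * (w * y) * w := by group
            _ = (y * y) * (w * w) := by rw [mul_inv_eq_iff_eq_mul.1 h1]; group
            _ = 1 := by rw [y2, s2, one_mul]
      · exact hp i c hic y hy w h3 y1 y2 n1 s2
    exact (uniq_of key g a ha).trans (uniq_of key g b hb).symm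

theorem top_of_core [Finite G] (i : ι) (h : GTH H L) (hp : GTP H L) (hc : H.normalCore = ⊥) :
    H = ⊤ := by
  by_contra hH
  haveI := h.simple i
  have hP := ps_ZL h hp
  obtain ⟨t, ht⟩ := H25.Cl.exists_inv (h.nonab i)
  have y1 : (t : G) ≠ 1 := fun e => H25.Cl.ne_one_of_order_two ht (Subtype.ext e)
  have y2 : (t : G) * t = 1 := congrArg Subtype.val (H25.Cl.sq_of_order_two ht)
  obtain ⟨a, ha, a1, a2, ay, hya⟩ := exists_four (h.simple i) (h.nonab i) t.2 y1 y2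
  let K := closure (ZL L)
  haveI hK : K.Normal := ⟨fun n hn g => by
    induction hn using closure_induction with
    | mem x hx => exact subset_closure (hP.conj x hx g)
    | one => simp
    | mul x y _ _ h1 h2 =>
      rw [show g * (x * y) * g⁻¹ = g * x * g⁻¹ * (g * y * g⁻¹) by group]
      exact K.mul_mem h1 h2
    | inv x _ h1 =>
      rw [show g * x⁻¹ * g⁻¹ = (g * x * g⁻¹)⁻¹ by group]
      exact K.inv_mem h1⟩
  have tK : (t : G) ∈ K := subset_closure (mem_ZL t.2 y1 y2)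
  have aK : a ∈ K := subset_closure (mem_ZL ha a1 a2)
  have hLK : L i ≤ K := by
    rcases (hK.subgroupOf (L i)).eq_bot_or_eq_top with e | e
    · have : t ∈ K.subgroupOf (L i) := tK
      rw [e, mem_bot] at this
      exact (y1 (congrArg Subtype.val this)).elim
    · exact subgroupOf_eq_top.1 e
  have se := H99.se_of_ot_normal (K := K) hH
    ((H25.Cl.even_card (h.nonab i)).trans_dvd (card_dvd_of_le hLK)) fun l hl l1 l2 =>
      H99.zd_fix H51.ZD.zdThm hP (a := ((1 : G) : G ⧸ H))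
        ⟨mem_ZL t.2 y1 y2, (H88.smul_one_coset_eq_iff H _).2 (h.le i t.2)⟩
        (by rwa [H99.stabilizer_one_coset]) hl (fun e => l1 (by
          rw [← mem_bot, ← hc, normalCore_eq_ker, MonoidHom.mem_ker]
          exact Equiv.ext e)) fun b => by rw [l2, one_smul]
  haveI sol : Group.IsSolvable (H.subgroupOf K) := H99.se_isSolvable H82.hub se ⟨⟨t, tK⟩, ⟨a, aK⟩, fun e => y1 (congrArg Subtype.val e),
    fun e => a1 (congrArg Subtype.val e), fun e => ay (congrArg Subtype.val e).symm,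
    Subtype.ext y2, Subtype.ext a2, Subtype.ext hya⟩
  let f : L i →* H.subgroupOf K :=
    { toFun := fun x => ⟨⟨x, hLK x.2⟩, h.le i x.2⟩
      map_one' := rfl
      map_mul' := fun _ _ => rfl }
  exact H25.Cl.not_solvable (h.nonab i) (Group.isSolvable_of_isSolvable_injective (f := f) fun x y e =>
    Subtype.ext (congrArg (fun w : H.subgroupOf K => ((w : K) : G)) e))

theorem jobGT2 : JobGT2.{u} := by
  intro G _ _ H ι L ⟨i₀⟩ h hp
  by_contra hH
  let N := H.normalCore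
  let π := QuotientGroup.mk' N
  have hm : ∀ g : G, π g ∈ H.map π ↔ g ∈ H := fun g => by
    rw [← mem_comap, comap_map_eq, QuotientGroup.ker_mk', sup_eq_left.2 (normalCore_le H)]
  have inj : ∀ i, ∀ x ∈ L i, π x = 1 → x = 1 := fun i x hx e => by
    haveI := h.simple i
    rcases ((inferInstance : N.Normal).subgroupOf (L i)).eq_bot_or_eq_top with e1 | e1
    · have : (⟨x, hx⟩ : L i) ∈ N.subgroupOf (L i) := (QuotientGroup.eq_one_iff x).1 e
      rw [e1, mem_bot] at this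
      exact congrArg Subtype.val this
    · obtain ⟨t, ht⟩ := H25.Cl.exists_inv (h.nonab i)
      refine (hH ((eq_top_iff' H).2 fun g => h.fix i t t.2
        (fun e => H25.Cl.ne_one_of_order_two ht (Subtype.ext e))
        (congrArg Subtype.val (H25.Cl.sq_of_order_two ht)) g ?_)).elim
      exact (subgroupOf_eq_top.1 e1 t.2) g
  have eqv : ∀ i, Nonempty (L i ≃* (L i).map π) := fun i =>
    ⟨MulEquiv.ofBijective (π.subgroupMap (L i)) ⟨(injective_iff_map_eq_one _).2 fun x e =>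
      Subtype.ext (inj i x x.2 (congrArg Subtype.val e)), π.subgroupMap_surjective _⟩⟩
  have lift : ∀ i, ∀ z ∈ L i, π z ≠ 1 → π z * π z = 1 → z ≠ 1 ∧ z * z = 1 := fun i z hz z1 z2 =>
    ⟨fun e => z1 (by rw [e, map_one]), inj i _ ((L i).mul_mem hz hz) (by rwa [map_mul])⟩
  have h' : GTH (H.map π) fun i => (L i).map π := by
    refine ⟨fun i => map_mono (h.le i), fun i => ?_, fun i hc => h.nonab i ?_, ?_, ?_, ?_⟩
    · obtain ⟨e⟩ := eqv i
      haveI := h.simple i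
      exact e.symm.isSimpleGroup
    · obtain ⟨e⟩ := eqv i
      exact ⟨⟨fun a b => e.injective (by rw [map_mul, map_mul]; exact hc.1.1 _ _)⟩⟩
    · rintro i j hij _ ⟨x, hx, rfl⟩ _ ⟨y, hy, rfl⟩
      rw [← map_mul, h.comm i j hij x hx y hy, map_mul]
    · rintro _ ⟨k, hk, rfl⟩ i
      obtain ⟨j, hj⟩ := h.perm k hk i
      refine ⟨j, ?_⟩
      rintro _ ⟨x, hx, rfl⟩
      exact ⟨_, hj x hx, by simp only [map_mul, map_inv]⟩
    · rintro i _ ⟨z, hz, rfl⟩ z1 z2 g hg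
      obtain ⟨g, rfl⟩ := QuotientGroup.mk'_surjective N g
      obtain ⟨a, b⟩ := lift i z hz z1 z2
      exact (hm g).2 (h.fix i z hz a b g ((hm _).1 (by simpa only [map_mul, map_inv] using hg)))
  have hp' : GTP (H.map π) fun i => (L i).map π := by
    rintro i j hij _ ⟨y, hy, rfl⟩ _ ⟨z, hz, rfl⟩ y1 y2 z1 z2 g hg
    obtain ⟨g, rfl⟩ := QuotientGroup.mk'_surjective N g
    obtain ⟨a, b⟩ := lift i y hy y1 y2
    obtain ⟨c, d⟩ := lift j z hz z1 z2
    exact (hm g).2 (hp i j hij y hy z hz a b c d g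
      ((hm _).1 (by simpa only [map_mul, map_inv] using hg)))
  have hc : (H.map π).normalCore = ⊥ := (eq_bot_iff_forall _).2 fun x hx => by
    obtain ⟨x, rfl⟩ := QuotientGroup.mk'_surjective N x
    exact (QuotientGroup.eq_one_iff x).2 fun g => (hm _).1 (by
      simpa only [map_mul, map_inv] using hx (π g))
  have := top_of_core i₀ h' hp' hc
  exact hH ((eq_top_iff' H).2 fun g => (hm g).1 (this ▸ mem_top _))

end H93.GT
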