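import Cfsg.Agent.H93.LSer
import Cfsg.Agent.H63.KgvSpec

set_option autoImplicit false
open Polynomial Finset

namespace H93.KgvNW
open H93.LSer H63.Kgv

theorem an_eq {F : Type} [Field F] [Finite F] (l : F[X] → ℂ) (n : ℕ) :
    an l n = ∑ f ∈ Mon F n, l f := by
  unfold an
  exact finsum_mem_eq_finite_toFinset_sum _ _

theorem sm_eq {F : Type} [Field F] [Finite F] (l : F[X] → ℂ) {m : ℕ} (hm : 0 < m) :
    sm l m = ∑ P ∈ Irr F m, (P.natDegree : ℂ) * l P ^ (m / P.natDegree) := by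
  unfold sm
  rw [← finsum_mem_coe_finset]
  congr! 3 with P
  simp only [Set.mem_setOf_eq, Finset.mem_coe, mem_Irr]
  exact ⟨fun h => ⟨h.1, h.2.1, h.2.2, Nat.le_of_dvd hm h.2.2⟩, fun h => ⟨h.1, h.2.1, h.2.2.1⟩⟩

theorem job1 : JNW1 := by
  intro F _ _ l hl
  refine ⟨?_, fun n => ?_⟩
  · rw [an_eq]
    have : Mon F 0 = {1} := by
      ext f
      rw [mem_Mon, mem_singleton]
      exact ⟨fun h => h.1.natDegree_eq_zero.1 h.2, fun h => by subst h; simp⟩
    rw [this, sum_singleton, hl.1]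
  · rw [an_eq, newton l hl.1 hl.2 n, ← Finset.Ico_add_one_right_eq_Icc, Finset.sum_Ico_eq_sum_range]
    simp only [Nat.add_sub_cancel]
    refine Finset.sum_congr rfl fun m _ => ?_
    rw [an_eq, sm_eq l (Nat.succ_pos m), add_comm 1 m]

end H93.KgvNW
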