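import Cfsg.Agent.H93.KgvNW1

set_option autoImplicit false
open Polynomial Finset IntermediateField

namespace H93.KgvNW
open H93.LSer H63.Kgv

/-- a sum over a finite extension field, sorted by minimal polynomials -/
theorem sum_minpoly {F : Type*} [Field F] [Finite F] {R : Type*} [Semiring R] {E : Type*} [Field E]
    [Fintype E] [Algebra F E] (Φ : F[X] → R) : ∑ x : E, Φ (minpoly F x) =
      ∑ P ∈ Irr F (Module.finrank F E), (P.natDegree : R) * Φ P := by
  classical
  have := Fintype.ofFinite F
  have : Module.Finite F E := Module.Finite.of_finite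
  have hint : ∀ x : E, IsIntegral F x := fun x => Algebra.IsIntegral.isIntegral x
  rw [← Finset.sum_fiberwise_of_maps_to (s := univ) (t := Irr F (Module.finrank F E))
    (g := fun x : E => minpoly F x) (fun x _ => mem_Irr.2 ⟨minpoly.monic (hint x),
      minpoly.irreducible (hint x), minpoly.degree_dvd (hint x),
      Nat.le_of_dvd Module.finrank_pos (minpoly.degree_dvd (hint x))⟩)]
  refine Finset.sum_congr rfl fun P hP => ?_
  obtain ⟨a, b, c, -⟩ := mem_Irr.1 hP
  have e : ∑ x ∈ univ.filter (fun x : E => minpoly F x = P), Φ (minpoly F x) =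
      ∑ x ∈ univ.filter (fun x : E => minpoly F x = P), Φ P :=
    Finset.sum_congr rfl fun x hx => by rw [(mem_filter.1 hx).2]
  rw [e, Finset.sum_const, nsmul_eq_mul]
  suffices h : (univ.filter (fun x : E => minpoly F x = P)).card = P.natDegree by rw [h]
  have hs : Splits (P.map (algebraMap F E)) := by
    have hd : P ∣ X ^ Fintype.card E - X := by
      rw [Module.card_eq_pow_finrank (K := F) (V := E), ← Nat.card_eq_fintype_card]
      exact b.natDegree_dvd_iff_dvd_X_pow_card_pow_sub_X.1 c
    exact (FiniteField.isSplittingField_sub E F).splits.of_dvd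
      (Polynomial.map_ne_zero (FiniteField.X_pow_card_sub_X_ne_zero _ Fintype.one_lt_card))
      (Polynomial.map_dvd _ hd)
  have hsep : P.Separable := PerfectField.separable_of_irreducible b
  have h1 := hs.natDegree_eq_card_roots
  rw [natDegree_map] at h1
  have h2 := Multiset.toFinset_card_of_nodup (nodup_roots (hsep.map (f := algebraMap F E)))
  have h3 : univ.filter (fun x : E => minpoly F x = P) =
      (P.map (algebraMap F E)).roots.toFinset := by
    ext x
    rw [mem_filter, Multiset.mem_toFinset, mem_roots (Polynomial.map_ne_zero a.ne_zero), IsRoot.def,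
      eval_map_algebraMap]
    constructor
    · rintro ⟨-, rfl⟩; exact minpoly.aeval _ _
    · intro h; exact ⟨mem_univ _, (minpoly.eq_of_irreducible_of_monic b h a).symm⟩
  rw [h3, h2, h1]

theorem cp_eq {F L : Type} [Field F] [Field L] [Algebra F L] [Module.Finite F L] (x : L) :
    cp F x = minpoly F x ^ (Module.finrank F L / (minpoly F x).natDegree) := by
  classical
  have hx : IsIntegral F x := Algebra.IsIntegral.isIntegral x
  let pb := adjoin.powerBasis hx
  let c := Module.finBasis F⟮x⟯ L
  have e1 : cp F x = (Algebra.leftMulMatrix (pb.basis.smulTower c)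
      (algebraMap F⟮x⟯ L pb.gen)).charpoly := by
    rw [Algebra.leftMulMatrix_apply, LinearMap.charpoly_toMatrix]; rfl
  have e2 : ∀ A : Matrix (Fin pb.dim) (Fin pb.dim) F,
      (Matrix.blockDiagonal fun _ : Fin (Module.finrank F⟮x⟯ L) => A).charpoly =
        A.charpoly ^ Module.finrank F⟮x⟯ L := by
    intro A
    have : Matrix.charmatrix (Matrix.blockDiagonal fun _ : Fin (Module.finrank F⟮x⟯ L) => A) =
        Matrix.blockDiagonal fun _ : Fin (Module.finrank F⟮x⟯ L) => Matrix.charmatrix A := by
      ext ⟨i, k⟩ ⟨j, k'⟩ : 2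
      by_cases h : k = k'
      · subst h
        by_cases h' : i = j
        · subst h'; simp
        · simp [Matrix.charmatrix_apply, Matrix.diagonal_apply, h']
      · simp [Matrix.charmatrix_apply, Matrix.diagonal_apply, Matrix.blockDiagonal_apply, h]
    rw [Matrix.charpoly, this, Matrix.det_blockDiagonal, Finset.prod_const, card_univ,
      Fintype.card_fin, Matrix.charpoly]
  rw [e1, Algebra.smulTower_leftMulMatrix_algebraMap, e2, charpoly_leftMulMatrix]
  have e3 : minpoly F pb.gen = minpoly F x := minpoly_gen F x
  rw [e3]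
  congr 1
  rw [← Module.finrank_mul_finrank F F⟮x⟯ L, adjoin.finrank hx,
    Nat.mul_div_cancel_left _ (minpoly.natDegree_pos hx)]

theorem job2 : JNW2 := by
  intro F L _ _ _ _ _ l hl
  rw [sm_eq l Module.finrank_pos,
    ← sum_minpoly (E := L) fun P => l P ^ (Module.finrank F L / P.natDegree)]
  refine Finset.sum_congr rfl fun x _ => ?_
  rw [cp_eq, map_pow' l hl.1 hl.2 (minpoly.monic (Algebra.IsIntegral.isIntegral x))]

end H93.KgvNW
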