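/- Extraspecial subgroup of index `p`: the anisotropic form (job XP-B2a of blueprints/XP.md). -/
import Cfsg.Agent.H87.XPT
import Cfsg.Agent.H9.Coord

set_option autoImplicit false
set_option linter.unusedSectionVars false

namespace H93.XP
open Cfsg H92 H93 Subgroup H92.Es H92.P5 H87.F3 H87.XP
open scoped commutatorElement

universe u

variable {Ω : Type u} [Group Ω] [Finite Ω] {p : ℕ} [hp : Fact p.Prime]
  {S Q Z E G K M : Subgroup Ω} {a b g v w : Ω}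

theorem add_one {φ : Ω → ZMod p} (h : ∀ x ∈ Q, ∀ y ∈ Q, φ (x * y) = φ x + φ y) : φ 1 = 0 := by
  simpa using h 1 Q.one_mem 1 Q.one_mem

theorem add_pow {φ : Ω → ZMod p} (h : ∀ x ∈ Q, ∀ y ∈ Q, φ (x * y) = φ x + φ y) (hg : g ∈ Q)
    (n : ℕ) : φ (g ^ n) = n * φ g := by
  induction n with
  | zero => simpa using add_one h
  | succ n ih => rw [pow_succ, h _ (Q.pow_mem hg n) _ hg, ih]; push_cast; ring

theorem add_inv {φ : Ω → ZMod p} (h : ∀ x ∈ Q, ∀ y ∈ Q, φ (x * y) = φ x + φ y) (hg : g ∈ Q) :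
    φ g⁻¹ = -φ g := by
  have := h _ hg _ (Q.inv_mem hg)
  rw [mul_inv_cancel, add_one h] at this
  linear_combination -this

theorem exists_ker {φ : Ω → ZMod p} (h : ∀ x ∈ Q, ∀ y ∈ Q, φ (x * y) = φ x + φ y) (hK : K ≤ Q) :
    ∃ L ≤ K, Nat.card K ≤ p * Nat.card L ∧ ∀ x ∈ L, φ x = 0 := by
  let f : K →* Multiplicative (ZMod p) :=
    MonoidHom.mk' (fun x => Multiplicative.ofAdd (φ x)) fun x y => h x (hK x.2) y (hK y.2)
  refine ⟨f.ker.map K.subtype, map_subtype_le _, ?_, ?_⟩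
  · rw [card_map_of_injective K.subtype_injective, ← f.ker.index_mul_card, index_ker]
    refine Nat.mul_le_mul_right _ ((card_le_card_group _).trans ?_)
    rw [Nat.card_congr Multiplicative.toAdd, Nat.card_zmod]
  · rintro _ ⟨x, hx, rfl⟩
    exact hx

theorem ex_of_card {L : Subgroup Ω} {n : ℕ} (h1 : n * Nat.card M < Nat.card K)
    (h2 : Nat.card K ≤ n * Nat.card L) : ∃ x ∈ L, x ∉ M := by
  by_contra hn
  push Not at hn
  have := Nat.mul_le_mul_left n (card_le_of_le (show L ≤ M from hn))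
  omega

theorem quad (h2 : p ≠ 2) {q : Ω → ZMod p} {β : Ω → Ω → ZMod p}
    (hq : ∀ x ∈ Q, ∀ y ∈ Q, q (x * y) = q x + q y + β x y)
    (hb : ∀ z ∈ Q, ∀ x ∈ Q, ∀ y ∈ Q, β z (x * y) = β z x + β z y)
    (hs : ∀ x ∈ Q, ∀ y ∈ Q, β x y = β y x) (h0 : ∀ x ∈ Q, x ∉ M → q x ≠ 0)
    (h1 : ∀ x ∈ Q, x ∈ M → q x = 0 ∧ ∀ y ∈ Q, β y x = 0) (hw : ∀ x ∈ Q, x ^ p ∈ M)
    (hc : p * Nat.card M < Nat.card Q) :
    (∀ x ∈ Q, 2 * q x = β x x) ∧ (∀ x ∈ Q, x ∉ M → β x x ≠ 0) ∧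
      Nat.card Q ≤ p ^ 2 * Nat.card M := by
  have two : (2 : ZMod p) ≠ 0 := fun e =>
    h2 ((Nat.prime_dvd_prime_iff_eq hp.out Nat.prime_two).1 ((ZMod.natCast_eq_zero_iff 2 p).1 e))
  have sq : ∀ x ∈ Q, ∀ y ∈ Q, β (x * y) (x * y) = β x x + 2 * β x y + β y y := fun x hx y hy => by
    have m := Q.mul_mem hx hy
    rw [hb _ m x hx y hy, hs _ m x hx, hs _ m y hy, hb x hx x hx y hy, hb y hy x hx y hy, hs y hy x hx]
    ring
  have pw : ∀ x ∈ Q, ∀ y ∈ Q, ∀ m n : ℕ, β (x ^ m) (y ^ n) = m * n * β x y := fun x hx y hy m n => by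
    rw [add_pow (hb _ (Q.pow_mem hx m)) hy, hs _ (Q.pow_mem hx m) y hy, add_pow (hb y hy) hx,
      hs y hy x hx]
    ring
  let l : Ω → ZMod p := fun x => 2 * q x - β x x
  have hl : ∀ x ∈ Q, ∀ y ∈ Q, l (x * y) = l x + l y := fun x hx y hy => by
    simp only [l, hq x hx y hy, sq x hx y hy]; ring
  have k1 : ∀ x ∈ Q, l x ≠ 0 → β x x = 0 := fun x hx n => by
    by_contra n'
    obtain ⟨t, ht⟩ : ∃ t : ℕ, (t : ZMod p) = -l x / β x x := ⟨_, ZMod.natCast_zmod_val _⟩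
    have e1 : 2 * q (x ^ t) - β (x ^ t) (x ^ t) = t * l x := add_pow hl hx t
    rw [pw x hx x hx, ht] at e1
    have e2 : q (x ^ t) = 0 := by
      refine mul_left_cancel₀ two ?_
      rw [eq_add_of_sub_eq e1]
      field_simp
      ring
    have m : x ∈ M := mem_of_zpow (k := t) (hw x hx)
      (by simpa using not_not.1 (mt (h0 _ (Q.pow_mem hx t)) (not_not.2 e2)))
      (by rw [Int.cast_natCast, ht]; exact div_ne_zero (neg_ne_zero.2 n) n')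
    exact n' ((h1 x hx m).2 x hx)
  have k2 : ∀ c ∈ Q, l c = 0 := fun c hc' => by
    by_contra n
    obtain ⟨L, hL, c1, c2⟩ := exists_ker hl le_rfl
    obtain ⟨x, hx, nx⟩ := ex_of_card hc c1
    have xQ := hL hx
    have e1 := k1 _ (Q.mul_mem xQ hc') (by rwa [hl x xQ c hc', c2 x hx, zero_add])
    have e2 := k1 _ (Q.mul_mem xQ (Q.inv_mem hc')) (by
      rwa [hl x xQ _ (Q.inv_mem hc'), c2 x hx, zero_add, add_inv hl hc', neg_ne_zero])
    have e3 := k1 _ (Q.inv_mem hc') (by rwa [add_inv hl hc', neg_ne_zero])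
    rw [sq x xQ c hc', k1 c hc' n] at e1
    rw [sq x xQ _ (Q.inv_mem hc'), e3, add_inv (hb x xQ) hc'] at e2
    have e4 : 2 * q x - β x x = 0 := c2 x hx
    exact h0 x xQ nx (mul_left_cancel₀ (mul_ne_zero two two) (by linear_combination 2 * e4 + e1 + e2))
  have k3 : ∀ x ∈ Q, 2 * q x = β x x := fun x hx => sub_eq_zero.1 (k2 x hx)
  have k4 : ∀ x ∈ Q, x ∉ M → β x x ≠ 0 := fun x hx n => k3 x hx ▸ mul_ne_zero two (h0 x hx n)
  refine ⟨k3, k4, not_lt.1 fun hlt => ?_⟩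
  obtain ⟨x, hx, nx⟩ := ex_of_card hc (Nat.le_mul_of_pos_left _ hp.out.pos)
  obtain ⟨L, hL, c1, c2⟩ := exists_ker (hb x hx) le_rfl
  obtain ⟨y, hy, ny⟩ := ex_of_card hc c1
  obtain ⟨L', hL', c3, c4⟩ := exists_ker (hb y (hL hy)) hL
  obtain ⟨z, hz, nz⟩ := ex_of_card (L := L') hlt (by
    rw [pow_two, mul_assoc]; exact c1.trans (Nat.mul_le_mul_left _ c3))
  have yQ := hL hy
  have zQ := hL (hL' hz)
  obtain ⟨s, t, e⟩ := FiniteField.exists_root_sum_quadratic (R := ZMod p)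
    (f := Polynomial.C (β x x) * Polynomial.X ^ 2)
    (g := Polynomial.C (β y y) * Polynomial.X ^ 2 + Polynomial.C (β z z))
    (Polynomial.degree_C_mul_X_pow 2 (k4 x hx nx))
    (by rw [Polynomial.degree_add_C (by rw [Polynomial.degree_C_mul_X_pow 2 (k4 y yQ ny)]; norm_num),
      Polynomial.degree_C_mul_X_pow 2 (k4 y yQ ny)]; rfl)
    (by rw [ZMod.card]; exact hp.out.mod_two_eq_one_iff_ne_two.2 h2)
  obtain ⟨s, rfl⟩ : ∃ m : ℕ, (m : ZMod p) = s := ⟨_, ZMod.natCast_zmod_val _⟩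
  obtain ⟨t, rfl⟩ : ∃ m : ℕ, (m : ZMod p) = t := ⟨_, ZMod.natCast_zmod_val _⟩
  have xs := Q.pow_mem hx s
  have yt := Q.pow_mem yQ t
  have m := Q.mul_mem xs yt
  have e1 : β (x ^ s * y ^ t) z = 0 := by
    rw [hs _ m z zQ, hb z zQ _ xs _ yt, add_pow (hb z zQ) hx, add_pow (hb z zQ) yQ, hs z zQ x hx,
      hs z zQ y yQ, c2 z (hL' hz), c4 z hz]
    simp
  have e2 : x ^ s * y ^ t * z ∈ M := not_not.1 (mt (k4 _ (Q.mul_mem m zQ)) (not_not.2 (by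
    rw [sq _ m z zQ, sq _ xs _ yt, e1, pw x hx x hx, pw y yQ y yQ, pw x hx y yQ, c2 y hy]
    simp only [Polynomial.eval_add, Polynomial.eval_mul, Polynomial.eval_C, Polynomial.eval_pow,
      Polynomial.eval_X] at e
    linear_combination e)))
  have e3 := (h1 _ (Q.mul_mem m zQ) e2).2 z zQ
  rw [hb z zQ _ m z zQ, hs z zQ _ m, e1, zero_add] at e3
  exact k4 z zQ nz e3

namespace CB
variable (h : CB p S Q Z E G a v)
include h

theorem ab : E ≤ Ct E := h.el.ct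

theorem comm {x y : Ω} (hx : x ∈ E) (hy : y ∈ E) : Commute x y := mem_Ct'.1 (ab h hy) x hx

theorem lt : p * Nat.card (E ⊓ Q :) < Nat.card Q :=
  not_le.1 (h.toXS.not_ab inf_le_right (inf_le_left.trans ((ab h).trans (Ct_anti inf_le_left))))

theorem lG : S ≤ G := fun _ hs => h.le ⟨hs, h.nE hs⟩

theorem cjE (hb : b ∈ G) : cj b Z ≤ E := (cj_mono b h.zE).trans (cj_eq_of_Nm (h.nm hb)).le

theorem sM : Sp p E (E ⊓ Q) := by
  refine (sp_of_card_le (h.toXS.pg.to_le h.lE) inf_le_left ?_).resolve_left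
    fun e => h.nQ (e.le.trans inf_le_right)
  have h1 := relIndex_le_of_le_right h.lE (H := Q) (by rw [h.sp.idx]; exact hp.out.ne_zero)
  rw [h.sp.idx, ← inf_relIndex_left] at h1
  have h2 := ((E ⊓ Q).subgroupOf E).index_mul_card
  rw [Nat.card_congr (subgroupOfEquivOfLe (inf_le_left : E ⊓ Q ≤ E)).toEquiv] at h2
  rw [← h2]
  exact Nat.mul_le_mul_right _ h1

theorem out (hb : b ∈ G) (e : cj b Z ≤ Q) : b ∈ Nm Z := by
  obtain ⟨w, hw⟩ := exists_zpowers_of_card hp.out ((card_cj b Z).trans h.toXS.cZ)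
  obtain ⟨x, hx, nx⟩ := ex_of_card (lt h) (h.toXS.card_ct' le_rfl (e (hw ▸ mem_zpowers w)))
  have xS := h.toXS.lQ hx.1
  exact h.se b hb x ⟨xS, h.nE xS⟩ (fun e => nx ⟨e, hx.1⟩) (hw ▸ Ct_le_Nm _ hx.2)

theorem com_mem (hg : g ∈ Q) (hw : w ∈ E) : ⁅g, w⁆ ∈ E ⊓ Q :=
  ⟨E.mul_mem (conj_mem_of_Nm (h.nE (h.toXS.lQ hg)) hw) (E.inv_mem hw),
    com_symm (h.toXS.com_Q (h.lE hw) hg)⟩

theorem main (hb : b ∈ G) (nb : b ∉ Nm Z) (hw : w ∈ cj b Z) (w1 : w ≠ 1) :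
    (∀ g ∈ Q, ⁅g, w⁆ ^ 2 * ⁅g, ⁅g, w⁆⁆⁻¹ ∈ cj b (E ⊓ Q)) ∧ (∀ g ∈ Q, g ∉ E → ⁅g, ⁅g, w⁆⁆ ≠ 1) ∧
      Nat.card Q ≤ p ^ 2 * Nat.card (E ⊓ Q :) := by
  have X := h.toXS
  have wE := cjE h hb hw
  have sH : Sp p E (cj b (E ⊓ Q)) := by
    have := (sM h).cj b
    rwa [cj_eq_of_Nm (h.nm hb)] at this
  obtain ⟨d, π, hπ, hd⟩ := H9.exists_coord p (Q := E) (B := cj b (E ⊓ Q))
    (fun y hy z hz => by rw [(comm h hy hz).commutator_eq]; exact one_mem _) fun y hy => sH.pow hy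
  obtain rfl : 1 = d := Nat.pow_right_injective hp.out.two_le (by
    show p ^ 1 = p ^ d
    rw [← hd, sH.idx, pow_one])
  obtain ⟨f, add, ker⟩ : ∃ f : Ω → ZMod p, (∀ x ∈ E, ∀ y ∈ E, f (x * y) = f x + f y) ∧
      ∀ x ∈ E, f x = 0 → x ∈ cj b (E ⊓ Q) :=
    ⟨fun x => π x 0, fun x hx y hy => congrFun (hπ.add x hx y hy) 0, fun x hx e =>
      (hπ.ker x hx).1 (funext fun i => by rwa [Subsingleton.elim i 0])⟩
  have cE : ∀ {g}, g ∈ Q → ⁅g, w⁆ ∈ E := fun hg => (com_mem h hg wE).1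
  have cQ : ∀ {g}, g ∈ Q → ⁅g, w⁆ ∈ Q := fun hg => (com_mem h hg wE).2
  have bZ : ∀ {x y}, x ∈ Q → y ∈ Q → ⁅x, ⁅y, w⁆⁆ ∈ Z := fun hx hy => X.com hx (cQ hy)
  have cm : ∀ x y : Ω, ⁅x * y, w⁆ = ⁅x, ⁅y, w⁆⁆ * ⁅y, w⁆ * ⁅x, w⁆ := fun x y => by
    simp only [commutatorElement_def]; group
  have hq : ∀ x ∈ Q, ∀ y ∈ Q, f ⁅x * y, w⁆ = f ⁅x, w⁆ + f ⁅y, w⁆ + f ⁅x, ⁅y, w⁆⁆ := by
    intro x hx y hy
    rw [cm, add _ (mul_mem (h.zE (bZ hx hy)) (cE hy)) _ (cE hx), add _ (h.zE (bZ hx hy)) _ (cE hy)]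
    ring
  obtain ⟨k1, k2, k3⟩ := quad (Q := Q) (M := E ⊓ Q) h.odd (q := fun x => f ⁅x, w⁆)
    (β := fun x y => f ⁅x, ⁅y, w⁆⁆) hq (fun z hz x hx y hy => by
      show f ⁅z, ⁅x * y, w⁆⁆ = _
      rw [cm, X.com_mul (X.lQ (mul_mem (X.lZ (bZ hx hy)) (cQ hy))) (bZ hz hx),
        X.com_mul (X.lS (bZ hx hy)) (bZ hz hy), X.com_Z (X.lQ hz) (bZ hx hy), one_mul,
        add _ (h.zE (bZ hz hy)) _ (h.zE (bZ hz hx)), add_comm])
    (fun x hx y hy => by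
      have e : ⁅x * y, w⁆ = ⁅y * x, w⁆ := by
        rw [show x * y = ⁅x, y⁆ * (y * x) by simp only [commutatorElement_def]; group,
          H87.XP.com_mul, (comm h (h.zE (X.com hx hy)) wE).commutator_eq, mul_one,
          (comm h (h.zE (X.com hx hy)) (cE (mul_mem hy hx))).eq, mul_inv_cancel_right]
      have e1 := hq x hx y hy
      rw [e, hq y hy x hx] at e1
      linear_combination -e1)
    (fun x hx nx e => by
      have xS := X.lQ hx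
      have m : x * w * x⁻¹ ∈ cj b Q := by
        have := mul_mem (cj_mono b inf_le_right (ker _ (cE hx) e)) (cj_mono b X.lZ hw)
        simpa [commutatorElement_def] using this
      have ez : cj b Z = zpowers w := by
        simpa using (X.sZ.cj b).sup hw (by simpa using w1)
      have := out h (b := b⁻¹ * x * b) (mul_mem (mul_mem (inv_mem hb) (lG h xS)) hb) (by
        rw [cj_mul, cj_mul, ez, cj_zpowers, ← le_cj_iff_cj_le]
        exact zpowers_le.2 m)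
      refine nb (h.se b hb x ⟨xS, h.nE xS⟩ (fun e => nx ⟨e, hx⟩) ?_)
      simpa [mul_assoc] using conj_mem_Nm_cj b this)
    (fun x _ hx => by
      simp only [(comm h hx.1 wE).commutator_eq, commutatorElement_one_right, add_one add,
        implies_true, and_self])
    (fun x hx => ⟨h.zE (X.pw x hx), X.lZ (X.pw x hx)⟩) (lt h)
  refine ⟨fun g hg => ker _ (mul_mem (pow_mem (cE hg) 2) (inv_mem (h.zE (bZ hg hg)))) ?_,
    fun g hg n e => k2 g hg (fun m => n m.1) (by simp only [e, add_one add]), k3⟩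
  rw [add _ (pow_mem (cE hg) 2) _ (inv_mem (h.zE (bZ hg hg))), add_pow add (cE hg),
    add_inv add (h.zE (bZ hg hg))]
  have := k1 g hg
  push_cast
  linear_combination this

end CB

theorem jobB2a : JobB2a.{u} := by
  intro Ω _ _ p hp S Q Z E G a v h
  have X := h.toXS
  have hv : v ∈ cj a Z := h.ev ▸ mem_zpowers v
  have na : a ∉ Nm Z := fun e => h.nv (X.lZ (cj_eq_of_Nm e ▸ hv))
  obtain ⟨-, k2, k3⟩ := CB.main h h.ha na hv fun e => h.nv (e ▸ one_mem _)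
  obtain ⟨x, hx, nx⟩ := ex_of_card (CB.lt h) (Nat.le_mul_of_pos_left _ hp.out.pos)
  have zM : Z ≤ E ⊓ Q := le_inf h.zE X.lZ
  have s1 := sp_sup (X.pg.to_le X.lQ) inf_le_right hx nx (X.nm_mid zM inf_le_right hx)
    (zM (X.pw x hx))
  have c1 : Nat.card (E ⊓ Q ⊓ Ct (zpowers x) :) ≤ p ^ 2 :=
    X.card_le_sq (Y := E ⊓ Q ⊔ zpowers x) (inf_le_left.trans inf_le_right)
      (sup_le inf_le_right (zpowers_le.2 hx))
      (fun y hy => mem_Ct_sup.2 ⟨Ct_anti inf_le_left (CB.ab h hy.1.1), hy.2⟩)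
      (by rwa [s1.card, ← mul_assoc, ← pow_two])
  have c2 : Nat.card (E ⊓ Q :) ≤ p ^ 3 := (X.card_ct' inf_le_right hx).trans (by
    rw [pow_succ']; exact Nat.mul_le_mul_left _ c1)
  have c3 : Nat.card (E ⊓ Q :) = p ^ 3 := le_antisymm c2 (Nat.le_of_mul_le_mul_left
    (by rw [← _root_.pow_add]; exact X.big.trans k3) (pow_pos hp.out.pos 2))
  refine ⟨le_antisymm (by rwa [c3, ← _root_.pow_add] at k3) X.big, (CB.sM h).card_up c3,
    fun b hb => CB.out h hb, fun g hg n w hw nw e => k2 g hg n ?_, fun b hb nb w hw g hg => ?_⟩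
  · obtain ⟨k, hk⟩ := (CB.sM h).dec hw (fun m => nw m.2) (CB.cjE h h.ha hv)
    have m := X.com hg hk.2
    rw [show v = w ^ k * ((w ^ k)⁻¹ * v) by group, X.com_mul (h.lE (zpow_mem hw k)) m,
      H87.XP.com_zpow' (CB.comm h hw (CB.com_mem h hg hw).1)]
    exact (((commutatorElement_eq_one_iff_commute.1 e).zpow_right k).mul_right
      (X.comm_Z (X.lQ hg) m)).commutator_eq
  · by_cases w1 : w = 1
    · simp [w1]
    · exact (CB.main h hb nb hw w1).1 g hg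

end H93.XP
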