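import Cfsg.Agent.H44.CD2

/-! Interface of the Palfy row S4847 (blueprints/DEG.md, part 2). -/

set_option autoImplicit false
open Cfsg

namespace H93.DG

universe u v

/-- Every `v ≠ 1` is fixed by a Sylow `q`-subgroup of `G` that is unique modulo the kernel. -/
def NQ {G : Type u} [Group G] {V : Type v} [CommGroup V] (φ : G →* MulAut V) (q : ℕ) : Prop :=
  ∀ v : V, v ≠ 1 → ∃ Q : Sylow q G, (∀ x ∈ (Q : Subgroup G), φ x v = v) ∧
    ∀ Q' : Sylow q G, (∀ x ∈ (Q' : Subgroup G), φ x v = v) →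
      (Q' : Subgroup G) ⊔ φ.ker = (Q : Subgroup G) ⊔ φ.ker

/-- Lemma M: a solvable group acting irreducibly with `NQ` for two primes that divide the order of
the induced group has a degree divisible by both. -/
def JobPM : Prop :=
  ∀ (G : Type u) [Group G] [Finite G] [Group.IsSolvable G] (V : Type v) [CommGroup V] [Finite V]
    (φ : G →* MulAut V) (q r : ℕ), q.Prime → r.Prime → q ≠ r →
    (∀ W : Subgroup V, (∀ g : G, ∀ w ∈ W, φ g w ∈ W) → W = ⊥ ∨ W = ⊤) →
    q ∣ φ.ker.index → r ∣ φ.ker.index → NQ φ q → NQ φ r → ∃ d ∈ charDegrees G, q * r ∣ d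

/-- The counting lemma used in Lemma M and in case I (c). -/
theorem pow_eq_of_count {l n a b c d : ℕ} (hl : l.Prime) (hn : 1 < n) (ha : 0 < a) (hc : 0 < c)
    (h1 : l ^ a - 1 = n * (l ^ b - 1)) (h2 : l ^ c - 1 = n * (l ^ d - 1)) : a = c := by
  have key : ∀ {a b : ℕ}, 0 < a → l ^ a - 1 = n * (l ^ b - 1) →
      l ^ b ∣ n - 1 ∧ ¬ l ^ (b + 1) ∣ n - 1 := by
    intro a b ha h
    have p1 : 1 < l ^ a := Nat.one_lt_pow ha.ne' hl.one_lt
    have p2 : 1 ≤ l ^ b := Nat.one_le_pow _ _ hl.pos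
    have hb : 0 < b := by
      rcases Nat.eq_zero_or_pos b with rfl | hb
      · simp at h; omega
      · exact hb
    have p3 : 1 < l ^ b := Nat.one_lt_pow hb.ne' hl.one_lt
    obtain ⟨m, rfl⟩ : ∃ m, n = m + 1 := ⟨n - 1, by omega⟩
    obtain ⟨k, hk⟩ : ∃ k, l ^ b = k + 1 := ⟨l ^ b - 1, by omega⟩
    have hk0 : 0 < k := by omega
    have e : l ^ a = m * k + l ^ b := by
      rw [hk] at h ⊢
      simp only [Nat.add_sub_cancel] at h
      have : l ^ a = (m + 1) * k + 1 := by omega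
      rw [this]; ring
    have hab : b < a := by
      refine (Nat.pow_lt_pow_iff_right hl.one_lt).1 ?_
      have : 0 < m * k := Nat.mul_pos (by omega) hk0
      omega
    have hco : ∀ j, (l ^ j).Coprime k := fun j => Nat.Coprime.pow_left _
      ((Nat.Prime.coprime_iff_not_dvd hl).2 fun hd => hl.one_lt.ne' (Nat.dvd_one.1
        ((Nat.dvd_add_right hd).1 (hk ▸ dvd_pow_self l hb.ne'))))
    simp only [Nat.add_sub_cancel]
    refine ⟨(hco b).dvd_of_dvd_mul_right ((Nat.dvd_add_left dvd_rfl).1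
      (e ▸ pow_dvd_pow l hab.le)), fun hd => ?_⟩
    have : l ^ (b + 1) ∣ l ^ b :=
      (Nat.dvd_add_right (hd.mul_right k)).1 (e ▸ pow_dvd_pow l hab)
    exact absurd ((Nat.pow_dvd_pow_iff_le_right hl.one_lt).1 this) (by omega)
  obtain ⟨x1, x2⟩ := key ha h1
  obtain ⟨y1, y2⟩ := key hc h2
  have hbd : b = d := by
    rcases lt_trichotomy b d with h | h | h
    · exact absurd ((pow_dvd_pow l h).trans y1) x2
    · exact h
    · exact absurd ((pow_dvd_pow l h).trans x1) y2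
  subst hbd
  have p1 : 1 ≤ l ^ a := Nat.one_le_pow _ _ hl.pos
  have p2 : 1 ≤ l ^ c := Nat.one_le_pow _ _ hl.pos
  exact Nat.pow_right_injective hl.two_le (show l ^ a = l ^ c by omega)

end H93.DG
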