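import Cfsg.Agent.H93.DGLin
import Cfsg.Agent.H93.DGSpec
import Cfsg.Agent.H38.Ito
import Cfsg.Agent.H18.PSolv
import Cfsg.Agent.H26.SylowTI
import Cfsg.Agent.H2.MinNormal

/-! Palfy's theorem: tools (blueprints/DEG.md, part 2). -/

set_option autoImplicit false
open Cfsg H28 H32 H44 MulAction

namespace H93.DG

universe u

variable {G : Type u} [Group G] [Finite G]

theorem exists_sylow_le {q : ℕ} [Fact q.Prime] {T : Subgroup G} (h : ¬ q ∣ T.index) :
    ∃ Q : Sylow q G, (Q : Subgroup G) ≤ T := by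
  obtain ⟨P, -, hP⟩ := H26.exists_sylow_le_of_not_dvd_index IsPGroup.of_bot bot_le h
  exact ⟨P, hP⟩

theorem not_dvd_index_of_le {q : ℕ} [Fact q.Prime] (Q : Sylow q G) {T : Subgroup G}
    (h : (Q : Subgroup G) ≤ T) : ¬ q ∣ T.index :=
  fun e => Q.not_dvd_index (e.trans (Subgroup.index_dvd_of_le h))

theorem ito [Group.IsSolvable G] {q : ℕ} [Fact q.Prime] (h : ∀ d ∈ charDegrees G, ¬ q ∣ d)
    (Q : Sylow q G) : (Q : Subgroup G).Normal ∧ ∀ x ∈ (Q : Subgroup G), ∀ y ∈ (Q : Subgroup G),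
      x * y = y * x := by
  have h1 : ∀ χ : IrrCharacter G, ¬ q ∣ charDegree χ.1 := fun χ => h _ (mem_cd χ.2)
  have h2 := H38.sylow_eq_pCore_of_not_dvd (H18.isPSolvable_of_isSolvable q) h1 Q
  have h3 := H38.isMulCommutative_pCore_of_not_dvd h1
  rw [h2]
  exact ⟨inferInstance, fun x hx y hy => congrArg Subtype.val
    (h3.is_comm.comm (⟨x, hx⟩ : pCore q G) ⟨y, hy⟩)⟩

/-- `T` contains a Sylow `q`-subgroup of `G`, unique and abelian modulo `K`. -/
def UQ (q : ℕ) (K T : Subgroup G) : Prop :=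
  ∃ Q : Sylow q G, (Q : Subgroup G) ≤ T ∧
    (∀ x ∈ (Q : Subgroup G), ∀ y ∈ (Q : Subgroup G), x * y * x⁻¹ * y⁻¹ ∈ K) ∧
    ∀ Q' : Sylow q G, (Q' : Subgroup G) ≤ T → (Q' : Subgroup G) ⊔ K = (Q : Subgroup G) ⊔ K

theorem uq_of_cd [Group.IsSolvable G] {q : ℕ} [Fact q.Prime] {K T : Subgroup G} [K.Normal]
    (hKT : K ≤ T) (h : ∀ d ∈ charDegrees (T ⧸ K.subgroupOf T), ¬ q ∣ T.index * d) : UQ q K T := by
  obtain ⟨Q, hQ⟩ := exists_sylow_le (q := q) (T := T) (by simpa using h 1 one_mem_cd)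
  have hf := QuotientGroup.mk'_surjective (K.subgroupOf T)
  have h1 := ito (fun d hd e => h d hd (e.mul_left _)) ((Q.subtype hQ).mapSurjective hf)
  refine ⟨Q, hQ, fun x hx y hy => ?_, fun Q' hQ' => ?_⟩
  · have := h1.2 _ ⟨⟨x, hQ hx⟩, hx, rfl⟩ _ ⟨⟨y, hQ hy⟩, hy, rfl⟩
    rw [← map_mul, ← map_mul, QuotientGroup.mk'_eq_mk'] at this
    obtain ⟨z, hz, e⟩ := this
    have e2 : x * y * z = y * x := congrArg Subtype.val e
    have : x * y * x⁻¹ * y⁻¹ = (x * y) * (z : G)⁻¹ * (x * y)⁻¹ := by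
      rw [show (z : G) = (x * y)⁻¹ * (y * x) by rw [← e2]; group]; group
    rw [this]
    exact ‹K.Normal›.conj_mem _ (inv_mem hz) _
  · have := h1.1
    have := Sylow.unique_of_normal _ this
    have e := congrArg (fun R : Sylow q (T ⧸ K.subgroupOf T) =>
      ((R : Subgroup (T ⧸ K.subgroupOf T)).comap (QuotientGroup.mk' _)).map T.subtype)
      (Subsingleton.elim ((Q'.subtype hQ').mapSurjective hf) ((Q.subtype hQ).mapSurjective hf))
    simp only [Sylow.coe_mapSurjective, Subgroup.comap_map_eq, QuotientGroup.ker_mk',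
      Subgroup.map_sup, Sylow.coe_subtype, Subgroup.subgroupOf_map_subtype] at e
    rwa [inf_of_le_left hQ, inf_of_le_left hQ', inf_of_le_left hKT] at e

omit [Finite G] in
theorem nq_of_uq {M : Type*} [CommGroup M] [MulDistribMulAction G M] {q : ℕ} {K : Subgroup G}
    (hK : ∀ g ∈ K, ∀ l : M, g • l = l) (h : ∀ l : M, l ≠ 1 → UQ q K (stabilizer G l)) :
    NQ (MulDistribMulAction.toMulAut G M) q := by
  intro l hl
  obtain ⟨Q, h1, -, h2⟩ := h l hl
  have h3 : K ≤ (MulDistribMulAction.toMulAut G M).ker := fun g hg => MulEquiv.ext (hK g hg)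
  refine ⟨Q, fun x hx => h1 hx, fun Q' hQ' => ?_⟩
  rw [← sup_of_le_right h3, ← sup_assoc, h2 Q' fun x hx => hQ' x hx, sup_assoc]

theorem count {M ι : Type*} [CommGroup M] [Finite M] [MulDistribMulAction G M] [Finite ι]
    [MulAction G ι] [IsPretransitive G ι] (F : ι → Subgroup M)
    (hF : ∀ (g : G) (i : ι), ∀ a ∈ F i, g • a ∈ F (g • i)) (A : Subgroup M)
    (hA : ∀ g : G, ∀ a ∈ A, g • a ∈ A) (h : ∀ a ∈ A, a ≠ 1 → ∃! i, a ∈ F i) (i₀ : ι) :
    Nat.card A - 1 = Nat.card ι * (Nat.card (A ⊓ F i₀ : Subgroup M) - 1) := by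
  classical
  cases nonempty_fintype M
  cases nonempty_fintype ι
  have h1 : ∀ B : Subgroup M, (Finset.univ.filter fun a => a ∈ B ∧ a ≠ 1).card = Nat.card B - 1 := by
    intro B
    rw [Nat.card_eq_fintype_card, Fintype.card_subtype, ← Finset.card_erase_of_mem
      (a := (1 : M)) (by simp)]
    congr 1
    ext a
    simp [and_comm]
  have h2 : ∀ i j, Nat.card (A ⊓ F i : Subgroup M) ≤ Nat.card (A ⊓ F j : Subgroup M) := by
    intro i j
    obtain ⟨g, rfl⟩ := exists_smul_eq G i j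
    exact Nat.card_le_card_of_injective
      (fun a : (A ⊓ F i : Subgroup M) => (⟨g • (a : M), hA g _ a.2.1, hF g i _ a.2.2⟩ :
        (A ⊓ F (g • i) : Subgroup M)))
      fun a b e => Subtype.ext (MulAction.injective g (congrArg Subtype.val e))
  rw [← h1 A, show (Finset.univ.filter fun a => a ∈ A ∧ a ≠ 1) = Finset.univ.biUnion
    fun i => Finset.univ.filter fun a => a ∈ A ⊓ F i ∧ a ≠ 1 from ?_, Finset.card_biUnion,
    Finset.sum_congr rfl fun i _ => (h1 _).trans (by rw [le_antisymm (h2 i i₀) (h2 i₀ i)]),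
    Finset.sum_const, Finset.card_univ, Nat.card_eq_fintype_card (α := ι), smul_eq_mul]
  · intro i _ j _ hij
    refine Finset.disjoint_left.2 fun a ha hb => hij ?_
    simp only [Finset.mem_filter, Finset.mem_univ, true_and, Subgroup.mem_inf] at ha hb
    exact (h a ha.1.1 ha.2).unique ha.1.2 hb.1.2
  · ext a
    simp only [Finset.mem_filter, Finset.mem_univ, true_and, Finset.mem_biUnion, Subgroup.mem_inf]
    exact ⟨fun ⟨ha, h1⟩ => (h a ha h1).exists.imp fun i hi => ⟨⟨ha, hi⟩, h1⟩,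
      fun ⟨i, hi⟩ => ⟨hi.1.1, hi.2⟩⟩

/-- The elements fixed by a subgroup. -/
def fx (M : Type*) [CommGroup M] [MulDistribMulAction G M] (S : Subgroup G) : Subgroup M where
  carrier := {a | S ≤ stabilizer G a}
  one_mem' := fun g _ => smul_one g
  mul_mem' := fun {a b} ha hb g hg => by
    rw [mem_stabilizer_iff, smul_mul', mem_stabilizer_iff.1 (ha hg), mem_stabilizer_iff.1 (hb hg)]
  inv_mem' := fun {a} ha g hg => by
    rw [mem_stabilizer_iff, smul_inv', mem_stabilizer_iff.1 (ha hg)]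

omit [Finite G] in
theorem smul_mem_fx {M : Type*} [CommGroup M] [MulDistribMulAction G M] {S T : Subgroup G} {g : G}
    (h : ∀ x ∈ T, g⁻¹ * x * g ∈ S) {a : M} (ha : a ∈ fx M S) : g • a ∈ fx M T := fun x hx => by
  have := mem_stabilizer_iff.1 (ha (h x hx))
  rw [mul_smul, mul_smul, inv_smul_eq_iff] at this
  exact this

theorem count_uq {M : Type*} [CommGroup M] [Finite M] [MulDistribMulAction G M] {r : ℕ}
    [Fact r.Prime] {K : Subgroup G} [K.Normal] (hK : ∀ g ∈ K, ∀ l : M, g • l = l) (A : Subgroup M)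
    (hA : ∀ g : G, ∀ a ∈ A, g • a ∈ A) (h : ∀ a ∈ A, a ≠ 1 → UQ r K (stabilizer G a)) :
    ∃ B : Subgroup M, B ≤ A ∧ Nat.card A - 1 = Nat.card (Sylow r (G ⧸ K)) * (Nat.card B - 1) := by
  letI : MulAction G (Sylow r (G ⧸ K)) := MulAction.compHom _ (QuotientGroup.mk' K)
  have hf := QuotientGroup.mk'_surjective K
  have : IsPretransitive G (Sylow r (G ⧸ K)) := ⟨fun a b => by
    obtain ⟨g, hg⟩ := exists_smul_eq (G ⧸ K) a b
    obtain ⟨g, rfl⟩ := hf g
    exact ⟨g, hg⟩⟩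
  refine ⟨_, inf_le_left, count (G := G) (fun R : Sylow r (G ⧸ K) =>
    fx M ((R : Subgroup _).comap (QuotientGroup.mk' K))) (fun g R a ha => smul_mem_fx ?_ ha) A hA
    (fun a ha h1 => ?_) default⟩
  · intro x hx
    have : QuotientGroup.mk' K x ∈ ((QuotientGroup.mk' K g • R : Sylow r (G ⧸ K)) : Subgroup _) := hx
    rw [Sylow.coe_subgroup_smul, Subgroup.mem_pointwise_smul_iff_inv_smul_mem] at this
    simpa using this
  · obtain ⟨Q, h2, -, h3⟩ := h a ha h1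
    have h4 : ∀ Q : Sylow r G, ((Q.mapSurjective hf : Sylow r (G ⧸ K)) : Subgroup _).comap
        (QuotientGroup.mk' K) = (Q : Subgroup G) ⊔ K := fun Q => by
      rw [Sylow.coe_mapSurjective, Subgroup.comap_map_eq, QuotientGroup.ker_mk']
    refine ⟨Q.mapSurjective hf, ?_, fun R hR => ?_⟩
    · change _ ≤ stabilizer G a
      rw [h4]
      exact sup_le h2 fun g hg => hK g hg a
    · obtain ⟨Q', rfl⟩ := Sylow.mapSurjective_surjective hf r R
      change _ ≤ stabilizer G a at hR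
      refine Sylow.ext (Subgroup.comap_injective hf ?_)
      rw [h4] at hR
      rw [h4, h4, h3 Q' (le_sup_left.trans hR)]

variable {N : Subgroup G} [hN : N.Normal]

theorem lin_irr (hmin : ∀ K : Subgroup G, K.Normal → K ≤ N → K = ⊥ ∨ K = N)
    (W : Subgroup (Lin N)) (hW : ∀ g : G, ∀ w ∈ W, g • w ∈ W) : W = ⊥ ∨ W = ⊤ := by
  let L0 : Subgroup N := ⨅ v ∈ W, v.hom.ker
  have hL0 : ∀ n, n ∈ L0 ↔ ∀ v ∈ W, v.hom n = 1 := fun n => by simp [L0]
  refine (hmin (L0.map N.subtype) ⟨?_⟩ (Subgroup.map_subtype_le _)).symm.imp (fun e => ?_) fun e => ?_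
  · rintro _ ⟨n, hn, rfl⟩ g
    refine ⟨⟨_, hN.conj_mem n n.2 g⟩, (hL0 _).2 fun v hv => ?_, rfl⟩
    have := (hL0 n).1 hn _ (hW g⁻¹ v hv)
    simpa only [smul_hom, inv_inv] using this
  · refine eq_bot_iff.2 fun v hv => Lin.ext' fun n => ?_
    obtain ⟨m, hm, e'⟩ : (n : G) ∈ L0.map N.subtype := by rw [e]; exact n.2
    exact (Subtype.ext e' : m = n) ▸ (hL0 m).1 hm v hv
  · refine eq_top_iff.2 fun l _ => mem_of_ker_le W fun n hn => ?_
    have : (n : G) ∈ L0.map N.subtype := ⟨n, (hL0 n).2 hn, rfl⟩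
    rw [e, Subgroup.mem_bot] at this
    rw [show n = 1 from Subtype.ext this, map_one]

omit hN in
theorem mem_of_forall_lin {n : G} (hn : n ∈ N) (h : ∀ l : Lin N, l.hom ⟨n, hn⟩ = 1) :
    n ∈ ⁅N, N⁆ := by
  by_contra hc
  obtain ⟨l, -, hl⟩ := exists_hom_ne_one_of_commutator_le (commutator N) le_rfl (a := ⟨n, hn⟩)
    fun e => hc (N.map_subtype_commutator ▸ ⟨_, e, rfl⟩)
  exact hl (h l)

theorem comm_mem_of_smul {g : G} (h : ∀ l : Lin N, g • l = l) {n : G} (hn : n ∈ N) :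
    g * n * g⁻¹ * n⁻¹ ∈ ⁅N, N⁆ := by
  refine mem_of_forall_lin (mul_mem (hN.conj_mem n hn g) (inv_mem hn)) fun l => ?_
  have h1 : g⁻¹ • l = l := inv_smul_eq_iff.2 (h l).symm
  have h2 := congrArg (fun m : Lin N => m.hom ⟨n, hn⟩) h1
  simp only [smul_hom, inv_inv] at h2
  change l.hom (⟨g * n * g⁻¹, hN.conj_mem n hn g⟩ * (⟨n, hn⟩ : N)⁻¹) = 1
  rw [map_mul, map_inv, h2, mul_inv_cancel]

omit [Finite G] in
theorem smul_eq_of_comm {g : G} {l : Lin N} (h : ∀ n ∈ N, ∀ hx : g⁻¹ * n * g * n⁻¹ ∈ N,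
    l.hom ⟨_, hx⟩ = 1) : g • l = l := by
  refine Lin.ext' fun n => ?_
  have hx : g⁻¹ * n * g * (n : G)⁻¹ ∈ N := mul_mem (hN.conj_mem' n n.2 g) (inv_mem n.2)
  rw [smul_hom, ← one_mul (l.hom n), ← h n n.2 hx, ← map_mul]
  congr 1
  exact Subtype.ext (by simp)

/-- A linear character of a complemented normal subgroup extends to its stabiliser. -/
theorem exists_ext_of_compl {H : Subgroup G} (h1 : N ⊓ H = ⊥) (h2 : N ⊔ H = ⊤) (l : Lin N)
    (hT : N ≤ stabilizer G l) :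
    ∃ μ : stabilizer G l →* ℂˣ, ∀ n : N, μ ⟨n, hT n.2⟩ = l.hom n := by
  have h3 : ∀ g : G, ∃ n : N, ∃ h ∈ H, g = n * h := fun g => by
    have : g ∈ ((N ⊔ H : Subgroup G) : Set G) := by rw [h2]; trivial
    rw [Subgroup.normal_mul] at this
    obtain ⟨n, hn, h, hh, rfl⟩ := this
    exact ⟨⟨n, hn⟩, h, hh, rfl⟩
  choose f k hk hf using h3
  have h4 : ∀ (n : N), ∀ h ∈ H, f (n * h) = n := fun n h hh => by
    have e := hf (n * h)
    have : (n : G)⁻¹ * f (n * h) ∈ N ⊓ H := Subgroup.mem_inf.2 ⟨mul_mem (inv_mem n.2) (f _).2, by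
      rw [show (n : G)⁻¹ * f (n * h) = h * (k (n * h))⁻¹ by
        rw [eq_mul_inv_iff_mul_eq, mul_assoc, ← e, inv_mul_cancel_left]]
      exact mul_mem hh (inv_mem (hk _))⟩
    rw [h1, Subgroup.mem_bot, inv_mul_eq_one] at this
    exact Subtype.ext this.symm
  refine ⟨MonoidHom.mk' (fun t => l.hom (f t)) fun a b => ?_, fun n => ?_⟩
  · have e : ((a * b : stabilizer G l) : G) = (f a * ⟨_, hN.conj_mem _ (f b).2 (k a)⟩ : N) *
        (k a * k b) := by
      rw [Subgroup.coe_mul]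
      conv_lhs => rw [hf a, hf b]
      simp [mul_assoc]
    have hka : (k a)⁻¹ ∈ stabilizer G l := by
      rw [inv_mem_iff, show k a = (f a : G)⁻¹ * a from eq_inv_mul_iff_mul_eq.2 (hf a).symm]
      exact mul_mem (inv_mem (hT (f a).2)) a.2
    rw [e, h4 _ _ (mul_mem (hk _) (hk _)), map_mul]
    congr 1
    have := congrArg (fun m : Lin N => m.hom (f b)) (mem_stabilizer_iff.1 hka)
    simpa only [smul_hom, inv_inv] using this
  · have := h4 n 1 H.one_mem
    rw [mul_one] at this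
    exact congrArg l.hom this

end H93.DG
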