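import Cfsg.Agent.H93.DGLin

/-! The common-divisor graph on `cd(G|N)`, `N ≤ G'` (blueprints/DEG.md, DG-REL). -/

set_option autoImplicit false
open Cfsg H28 H32 H44 MulAction

namespace H93.DG

/-- A minimal invariant subgroup of exponent `p`. -/
structure MinInv (G : Type*) [Group G] {M : Type*} [CommGroup M] [MulDistribMulAction G M] (p : ℕ)
    (V : Subgroup M) : Prop where
  ne : V ≠ ⊥
  pow : ∀ v ∈ V, v ^ p = 1
  inv : ∀ g : G, ∀ v ∈ V, g • v ∈ V
  min : ∀ X : Subgroup M, X ≤ V → X ≠ ⊥ → (∀ g : G, ∀ v ∈ X, g • v ∈ X) → V ≤ X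

section abs

variable {G : Type*} [Group G] {M : Type*} [CommGroup M] [Finite M] [MulDistribMulAction G M]

theorem exists_minInv {p : ℕ} (hp : p.Prime) (h : p ∣ Nat.card M) :
    ∃ V : Subgroup M, MinInv G p V := by
  have := Fact.mk hp
  obtain ⟨x, hx⟩ := exists_prime_orderOf_dvd_card' p h
  obtain ⟨V, ⟨h1, h2, h3⟩, h4⟩ := (wellFounded_lt (α := Subgroup M)).has_min
    {V | V ≠ ⊥ ∧ (∀ v ∈ V, v ^ p = 1) ∧ ∀ g : G, ∀ v ∈ V, g • v ∈ V}
    ⟨(powMonoidHom p : M →* M).ker, fun e => hp.ne_one (by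
      rw [← hx, orderOf_eq_one_iff, ← Subgroup.mem_bot, ← e, MonoidHom.mem_ker, powMonoidHom_apply,
        ← hx, pow_orderOf_eq_one]), fun v hv => hv, fun g v hv => by
      rw [MonoidHom.mem_ker, powMonoidHom_apply] at hv ⊢
      rw [← smul_pow', hv, smul_one]⟩
  exact ⟨V, h1, h2, h3, fun X hX hne hi => by
    by_contra hc
    exact h4 X ⟨hne, fun v hv => h2 v (hX hv), hi⟩ (lt_of_le_not_ge hX hc)⟩

variable [Finite G]

theorem MinInv.not_coprime {p : ℕ} {V : Subgroup M} (hV : MinInv G p V) {l m : M} (hl : l ∈ V)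
    (hm : m ∈ V) (hm1 : m ≠ 1) (hs : (stabilizer G l).index ≠ 1)
    (hc : (stabilizer G l).index.Coprime (stabilizer G m).index) :
    ¬ (stabilizer G (l * m)).index.Coprime (stabilizer G l).index := by
  intro hu
  have h1 : (stabilizer G (l * m)).index ∣ (stabilizer G m).index := by
    refine hu.dvd_of_dvd_mul_left (H4.index_inf_of_coprime hc ▸ Subgroup.index_dvd_of_le ?_)
    intro g hg
    rw [mem_stabilizer_iff, smul_mul', mem_stabilizer_iff.1 hg.1, mem_stabilizer_iff.1 hg.2]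
  have h2 : (orbit G (l * m)).ncard ≤ (orbit G m).ncard := by
    rw [← index_stabilizer, ← index_stabilizer]
    exact Nat.le_of_dvd (Nat.pos_of_ne_zero Subgroup.index_ne_zero_of_finite) h1
  have h3 : ∀ (g : G) (y : M), y ∈ orbit G m ↔ g • l * y ∈ orbit G (l * m) := by
    intro g y
    have : (fun y => g • l * y) '' orbit G m = orbit G (l * m) := by
      refine Set.eq_of_subset_of_ncard_le ?_ ?_
      · rintro _ ⟨_, ⟨h, rfl⟩, rfl⟩
        obtain ⟨x, hx, y, hy, e⟩ := H4.exists_mul_of_coprime_index hc (g⁻¹ * h)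
        refine ⟨g * x, ?_⟩
        have e2 : g * x = h * y⁻¹ := by rw [eq_mul_inv_iff_mul_eq, mul_assoc, ← e]; group
        simp only
        rw [smul_mul', mul_smul g x l, mem_stabilizer_iff.1 hx, e2, mul_smul,
          mem_stabilizer_iff.1 (inv_mem hy)]
      · rwa [Set.ncard_image_of_injective _ (mul_right_injective _)]
    rw [← this]
    exact ((mul_right_injective _).mem_set_image).symm
  let X : Subgroup M :=
    { carrier := {x | ∀ y, y ∈ orbit G m ↔ x * y ∈ orbit G m}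
      one_mem' := fun y => by rw [one_mul]
      mul_mem' := fun {a b} ha hb y => by rw [mul_assoc, ← ha, ← hb]
      inv_mem' := fun {a} ha y => by rw [ha (a⁻¹ * y), mul_inv_cancel_left] }
  have h4 : ∀ (g : G) (y : M), g • y ∈ orbit G m ↔ y ∈ orbit G m := fun g y =>
    ⟨fun ⟨k, h⟩ => ⟨g⁻¹ * k, by simp only at h ⊢; rw [mul_smul, h, inv_smul_smul]⟩, fun h => by
      obtain ⟨k, rfl⟩ := h
      exact ⟨g * k, mul_smul g k m⟩⟩
  obtain ⟨g, hg⟩ : ∃ g : G, g • l ≠ l := by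
    by_contra hh
    push Not at hh
    exact hs (Subgroup.index_eq_one.2 (eq_top_iff.2 fun g _ => hh g))
  have h5 : V ≤ X ⊓ V := by
    refine hV.min _ inf_le_right (fun e => hg ?_) fun k v hv => ⟨fun y => ?_, hV.inv k v hv.2⟩
    · have : (g • l)⁻¹ * l ∈ X ⊓ V := ⟨fun y => by
        rw [h3 g ((g • l)⁻¹ * l * y), h3 1 y, one_smul, mul_assoc, mul_inv_cancel_left],
        V.mul_mem (V.inv_mem (hV.inv g l hl)) hl⟩
      rw [e, Subgroup.mem_bot, inv_mul_eq_one] at this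
      exact this
    · rw [← h4 k⁻¹ y, hv.1, ← h4 k, smul_mul', smul_inv_smul]
  obtain ⟨k, hk⟩ := ((h5 (inv_mem hm)).1 m).1 (mem_orbit_self m)
  rw [inv_mul_cancel] at hk
  exact hm1 (by simpa using congrArg (k⁻¹ • ·) hk)

omit [Finite M] [Finite G] in
theorem stabilizer_one : stabilizer G (1 : M) = ⊤ := eq_top_iff.2 fun g _ => smul_one g

omit [Finite M] [Finite G] in
theorem stabilizer_mul_of_coprime {l m : M} {a b : ℕ} (hab : a.Coprime b) (hl : l ^ a = 1)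
    (hm : m ^ b = 1) : stabilizer G (l * m) ≤ stabilizer G l := by
  intro g hg
  rw [mem_stabilizer_iff] at hg ⊢
  have h1 : (g • l) ^ b = l ^ b := by
    have := congrArg (· ^ b) hg
    simp only [smul_mul', mul_pow, ← smul_pow', hm, smul_one, mul_one] at this
    rwa [← smul_pow']
  have h2 : (g • l) ^ a = l ^ a := by rw [← smul_pow', hl, smul_one]
  have h3 : (g • l * l⁻¹) ^ a.gcd b = 1 := pow_gcd_eq_one.2
    ⟨by rw [mul_pow, h2, inv_pow, mul_inv_cancel], by rw [mul_pow, h1, inv_pow, mul_inv_cancel]⟩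
  rwa [hab.gcd_eq_one, pow_one, mul_inv_eq_one] at h3

end abs

variable {G : Type*} [Group G] [Finite G] {N : Subgroup G} [hN : N.Normal]

/-- The barycentre of an orbit of `p'`-length. -/
theorem exists_fixed_twist {p : ℕ} (hp : p.Prime) {V : Subgroup (Lin N)} (hV : MinInv G p V)
    {θ : N → ℂ} (hθ : IsIrrCharacter N θ) (hd : ¬ p ∣ (inertia θ).index * charDegree θ) :
    ∃ (W : Subgroup G) (b : Lin N), b ∈ V ∧ inertia θ ≤ W ∧ W ≤ inertia (θ * ch b) ∧
      ∀ l ∈ V, inertia (θ * ch l) ≤ W := by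
  classical
  have hinj : ∀ v ∈ V, ∀ w ∈ V, θ * ch v = θ * ch w → v = w := by
    intro v hv w hw h
    have h1 := pow_eq_one_of_mul_ch_eq hθ.isCharacter (l := v * w⁻¹)
      (by rw [map_mul, ← mul_assoc, h, mul_assoc, ← map_mul, mul_inv_cancel, map_one, mul_one])
    have h3 : (v * w⁻¹) ^ p.gcd (charDegree θ) = 1 :=
      pow_gcd_eq_one.2 ⟨hV.pow _ (mul_mem hv (inv_mem hw)), h1⟩
    rwa [((Nat.Prime.coprime_iff_not_dvd hp).2 fun h => hd (h.mul_left _)).gcd_eq_one, pow_one,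
      mul_inv_eq_one] at h3
  let W : Subgroup G :=
    { carrier := {g | ∃ v ∈ V, cj g θ = θ * ch v}
      one_mem' := ⟨1, one_mem _, by rw [cj_one, map_one, mul_one]⟩
      mul_mem' := by
        rintro a b ⟨v, hv, h1⟩ ⟨w, hw, h2⟩
        exact ⟨w * b⁻¹ • v, mul_mem hw (hV.inv _ _ hv), by
          rw [cj_mul, h1, cj_mul_ch, h2, map_mul, mul_assoc]⟩
      inv_mem' := by
        rintro a ⟨v, hv, h1⟩
        refine ⟨(a • v)⁻¹, inv_mem (hV.inv _ _ hv), mul_ch_cancel (a • v) ?_⟩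
        have := congrArg (cj a⁻¹) h1
        rw [cj_inv_cj, cj_mul_ch, inv_inv] at this
        rw [← this, mul_assoc, ← map_mul, inv_mul_cancel, map_one, mul_one] }
  have hI : inertia θ ≤ W := fun g hg => ⟨1, one_mem _, by rw [map_one, mul_one]; exact hg⟩
  letI : MulAction G (N → ℂ) :=
    { smul := fun g φ => cj g⁻¹ φ
      one_smul := fun φ => by change cj (1 : G)⁻¹ φ = φ; rw [inv_one, cj_one]
      mul_smul := fun a b φ => by
        change cj (a * b)⁻¹ φ = cj a⁻¹ (cj b⁻¹ φ); rw [mul_inv_rev, cj_mul] }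
  cases nonempty_fintype (Lin N)
  let O : Finset (Lin N) := Finset.univ.filter fun v => v ∈ V ∧ ∃ g ∈ W, cj g θ = θ * ch v
  have hO : ∀ v, v ∈ O ↔ v ∈ V ∧ ∃ g ∈ W, cj g θ = θ * ch v := fun v => by simp [O]
  have hcard : O.card ∣ (inertia θ).index := by
    have e1 : stabilizer W θ = (inertia θ).subgroupOf W := by
      ext g
      rw [mem_stabilizer_iff, Subgroup.mem_subgroupOf, ← inv_mem_iff, mem_inertia]
      rfl
    have e2 : orbit W θ = (fun v => θ * ch v) '' (O : Set (Lin N)) := by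
      ext φ
      constructor
      · rintro ⟨g, rfl⟩
        obtain ⟨v, hv, h⟩ := inv_mem g.2
        exact ⟨v, (hO v).2 ⟨hv, _, inv_mem g.2, h⟩, h.symm⟩
      · rintro ⟨v, hv, rfl⟩
        obtain ⟨-, g, hg, h⟩ := (hO v).1 hv
        exact ⟨⟨g⁻¹, inv_mem hg⟩, by change cj g⁻¹⁻¹ θ = _; rw [inv_inv, h]⟩
    have e3 := index_stabilizer W θ
    rw [e1, e2, Set.InjOn.ncard_image fun v hv w hw h =>
      hinj v ((hO v).1 hv).1 w ((hO w).1 hw).1 h, Set.ncard_coe_finset] at e3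
    exact e3 ▸ Subgroup.relIndex_dvd_index_of_le hI
  have hco : O.card.Coprime p := ((Nat.Prime.coprime_iff_not_dvd hp).2 fun h =>
    hd ((h.trans hcard).mul_right _)).symm
  obtain ⟨s, hs⟩ := Nat.exists_mul_mod_eq_one_of_coprime hco hp.one_lt
  have hroot : ∀ v ∈ V, (v ^ O.card) ^ s = v := fun v hv => by
    rw [← pow_mul, ← Nat.mod_add_div (O.card * s) p, hs.2, pow_add, pow_mul, hV.pow v hv, one_pow,
      pow_one, mul_one]
  have hP : ∏ v ∈ O, v ∈ V := prod_mem fun v hv => ((hO v).1 hv).1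
  refine ⟨W, (∏ v ∈ O, v) ^ s, pow_mem hP s, hI, ?_, ?_⟩
  · rintro w ⟨c, hc, hw⟩
    have hσ : ∀ v ∈ O, c * w⁻¹ • v ∈ O := fun v hv => by
      obtain ⟨h1, g, hg, h⟩ := (hO v).1 hv
      exact (hO _).2 ⟨mul_mem hc (hV.inv _ _ h1), g * w, mul_mem hg ⟨c, hc, hw⟩, by
        rw [cj_mul, h, cj_mul_ch, hw, map_mul, mul_assoc]⟩
    have hi : Set.InjOn (fun v => c * w⁻¹ • v) (O : Set (Lin N)) := fun a _ b _ h =>
      MulAction.injective w⁻¹ (mul_left_cancel h)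
    have e1 : O.image (fun v => c * w⁻¹ • v) = O := Finset.eq_of_subset_of_card_le
      (Finset.image_subset_iff.2 hσ) (Finset.card_image_of_injOn hi).ge
    have e2 : ∏ v ∈ O, v = c ^ O.card * w⁻¹ • ∏ v ∈ O, v := by
      conv_lhs => rw [← e1, Finset.prod_image hi, Finset.prod_mul_distrib, Finset.prod_const]
      rw [Finset.smul_prod']
    rw [mem_inertia, cj_mul_ch, hw, mul_assoc, ← map_mul]
    conv_rhs => rw [e2, mul_pow, hroot c hc, ← smul_pow']
  · intro l hl g hg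
    rw [mem_inertia, cj_mul_ch] at hg
    refine ⟨l * (g⁻¹ • l)⁻¹, mul_mem hl (inv_mem (hV.inv _ _ hl)), mul_ch_cancel (g⁻¹ • l) ?_⟩
    rw [hg, mul_assoc, ← map_mul, inv_mul_cancel_right]

variable [Fintype N]

/-- The degrees over the nontrivial members of `V`. -/
def CV (V : Subgroup (Lin N)) : Set ℕ := {a | ∃ l ∈ V, l ≠ 1 ∧ Dg (ch l) a}

/-- Distance at most two. -/
def D2 (R : Set ℕ) (a b : ℕ) : Prop := ¬ a.Coprime b ∨ ∃ c ∈ R, ¬ a.Coprime c ∧ ¬ c.Coprime b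

omit [Finite G] hN in
theorem CV_subset (V : Subgroup (Lin N)) : CV V ⊆ relCharDegrees N :=
  fun _ ⟨l, _, h1, h⟩ => h.mem (isIrr_ch l) (ch_ne_one h1)

omit hN in
theorem CV_nonempty {V : Subgroup (Lin N)} (h : V ≠ ⊥) : ∃ a, a ∈ CV V := by
  obtain ⟨⟨l, hl⟩, h1⟩ := Subgroup.ne_bot_iff_exists_ne_one.1 h
  obtain ⟨c, hc⟩ := exists_dg (isIrr_ch l)
  exact ⟨c, l, hl, fun e => h1 (Subtype.ext e), hc⟩

theorem not_coprime_of_dvd_dvd {a b c d : ℕ} (h : ¬ a.Coprime b) (h1 : a ∣ c) (h2 : b ∣ d) :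
    ¬ c.Coprime d := fun e => h ((e.coprime_dvd_left h1).coprime_dvd_right h2)

variable (hno : ∀ l : Lin N, l ≠ 1 → (stabilizer G l).index ≠ 1)
include hno

theorem d2_of_mem {p : ℕ} {V : Subgroup (Lin N)} (hV : MinInv G p V) {a b : ℕ} (ha : a ∈ CV V)
    (hb : b ∈ CV V) : D2 (relCharDegrees N) a b := by
  obtain ⟨l, hl, hl1, ha⟩ := ha
  obtain ⟨m, hm, hm1, hb⟩ := hb
  by_cases hc : (stabilizer G l).index.Coprime (stabilizer G m).index
  · have h1 := hV.not_coprime hl hm hm1 (hno l hl1) hc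
    have h2 := hV.not_coprime hm hl hl1 (hno m hm1) hc.symm
    rw [mul_comm] at h2
    obtain ⟨c, h⟩ := exists_dg (isIrr_ch (l * m))
    refine Or.inr ⟨c, h.mem (isIrr_ch _) (ch_ne_one fun e => h1 ?_), fun e =>
      not_coprime_of_dvd_dvd h1 h.dvd_ch ha.dvd_ch e.symm,
      not_coprime_of_dvd_dvd h2 h.dvd_ch hb.dvd_ch⟩
    rw [e, stabilizer_one, Subgroup.index_top]
    exact Nat.coprime_one_left _
  · exact Or.inl (not_coprime_of_dvd_dvd hc ha.dvd_ch hb.dvd_ch)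

theorem d2_of_not_dvd {p : ℕ} (hp : p.Prime) {V : Subgroup (Lin N)} (hV : MinInv G p V) {a b : ℕ}
    (ha : a ∈ relCharDegrees N) (hpa : ¬ p ∣ a) (hb : b ∈ CV V) : D2 (relCharDegrees N) a b := by
  obtain ⟨⟨χ, hχ⟩, hx, rfl⟩ := ha
  obtain ⟨θ, hθ, h1, h2⟩ := exists_of_mem_rel hχ hx
  have hd : Dg θ (charDegree χ) := ⟨χ, hχ, h2, rfl⟩
  by_cases hθV : ∃ v ∈ V, θ = ch v
  · obtain ⟨v, hv, rfl⟩ := hθV
    exact d2_of_mem hno hV ⟨v, hv, fun e => h1 (by rw [e, ch_one]), hd⟩ hb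
  obtain ⟨W, b, hbV, hI, hW, hW'⟩ := exists_fixed_twist hp hV hθ fun h => hpa (h.trans (hd.dvd hθ))
  obtain ⟨l, hl, hl1, hb⟩ := hb
  have hθ' := isIrr_mul_ch hθ (b * l)
  obtain ⟨c, hc⟩ := exists_dg hθ'
  have hone : ∀ v ∈ V, θ * ch v ≠ fun _ => 1 := fun v hv e => hθV ⟨v⁻¹, inv_mem hv,
    mul_ch_cancel v (by rw [e, ← map_mul, inv_mul_cancel, ch_one])⟩
  have hdv := hc.dvd hθ'
  rw [charDegree_mul_ch] at hdv
  refine Or.inr ⟨c, hc.mem hθ' (hone _ (mul_mem hbV hl)),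
    not_coprime_of_dvd (k := W.index * charDegree θ) (fun e => ?_)
      ((Nat.mul_dvd_mul_right (Subgroup.index_dvd_of_le hI) _).trans (hd.dvd hθ))
      ((Nat.mul_dvd_mul_right (Subgroup.index_dvd_of_le (hW' _ (mul_mem hbV hl))) _).trans hdv),
    not_coprime_of_dvd (hno l hl1) ((Subgroup.index_dvd_of_le fun g hg => ?_).trans
      ((dvd_mul_right _ _).trans hdv)) hb.dvd_ch⟩
  · obtain ⟨m, hm, hm'⟩ := exists_ch_of_eq_one (isIrr_mul_ch hθ b) (by
      rw [charDegree_mul_ch, Nat.eq_one_of_mul_eq_one_left e, mul_one]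
      exact Nat.eq_one_of_dvd_one (Nat.eq_one_of_mul_eq_one_right e ▸ Subgroup.index_dvd_of_le hW))
    refine hone b hbV (hm.trans ?_)
    by_contra hne
    exact hno m (fun e => hne (by rw [e, ch_one]))
      (Subgroup.index_eq_one.2 (eq_top_iff.2 fun g _ => hm' g))
  · have e1 := mem_inertia.1 (hW (hW' _ (mul_mem hbV hl) hg))
    rw [mem_inertia, map_mul, ← mul_assoc, cj_mul_ch, e1, mul_assoc, mul_assoc, ← map_mul,
      ← map_mul] at hg
    have e2 := pow_eq_one_of_mul_ch_eq hθ.isCharacter (l := g⁻¹ • l * l⁻¹) (mul_ch_cancel (b * l) (by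
      rw [← hg, mul_assoc, ← map_mul, mul_comm b l, ← mul_assoc, inv_mul_cancel_right, mul_comm b,
        mul_comm _ b, hg, mul_comm b]))
    have h3 : (g⁻¹ • l * l⁻¹) ^ p.gcd (charDegree θ) = 1 :=
      pow_gcd_eq_one.2 ⟨hV.pow _ (mul_mem (hV.inv _ _ hl) (inv_mem hl)), e2⟩
    rw [((Nat.Prime.coprime_iff_not_dvd hp).2 fun h => hpa ((h.mul_left _).trans
      (hd.dvd hθ))).gcd_eq_one, pow_one, mul_inv_eq_one, inv_smul_eq_iff] at h3
    exact h3.symm

theorem d2_of_ne {p q : ℕ} (hpq : p.Coprime q) {V U : Subgroup (Lin N)} (hV : MinInv G p V)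
    (hU : MinInv G q U) {a b : ℕ} (ha : a ∈ CV V) (hb : b ∈ CV U) : D2 (relCharDegrees N) a b := by
  obtain ⟨l, hl, hl1, ha⟩ := ha
  obtain ⟨m, hm, hm1, hb⟩ := hb
  obtain ⟨c, h⟩ := exists_dg (isIrr_ch (l * m))
  have h1 := Subgroup.index_dvd_of_le
    (stabilizer_mul_of_coprime (G := G) hpq (hV.pow l hl) (hU.pow m hm))
  have h2 := Subgroup.index_dvd_of_le
    (stabilizer_mul_of_coprime (G := G) hpq.symm (hU.pow m hm) (hV.pow l hl))
  rw [mul_comm] at h2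
  refine Or.inr ⟨c, h.mem (isIrr_ch _) (ch_ne_one fun e => hno l hl1 ?_),
    not_coprime_of_dvd (hno l hl1) ha.dvd_ch (h1.trans h.dvd_ch),
    not_coprime_of_dvd (hno m hm1) (h2.trans h.dvd_ch) hb.dvd_ch⟩
  rwa [e, stabilizer_one, Subgroup.index_top, Nat.dvd_one] at h1

omit hno in
theorem exists_smaller {p : ℕ} {V : Subgroup (Lin N)} (hV : MinInv G p V) :
    ∃ L : Subgroup G, L.Normal ∧ L < N ∧
      ∀ a ∈ relCharDegrees N, a ∉ CV V → a ∈ relCharDegrees L := by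
  let L0 : Subgroup N := ⨅ v ∈ V, v.hom.ker
  have hL0 : ∀ n, n ∈ L0 ↔ ∀ v ∈ V, v.hom n = 1 := fun n => by simp [L0]
  refine ⟨L0.map N.subtype, ⟨?_⟩, lt_of_le_of_ne (Subgroup.map_subtype_le _) fun e => hV.ne ?_, ?_⟩
  · rintro _ ⟨n, hn, rfl⟩ g
    refine ⟨⟨_, hN.conj_mem n n.2 g⟩, (hL0 _).2 fun v hv => ?_, rfl⟩
    have := (hL0 n).1 hn _ (hV.inv g⁻¹ v hv)
    simpa only [smul_hom, inv_inv] using this
  · refine eq_bot_iff.2 fun v hv => Lin.ext' fun n => ?_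
    obtain ⟨m, hm, e'⟩ : (n : G) ∈ L0.map N.subtype := by rw [e]; exact n.2
    exact (Subtype.ext e' : m = n) ▸ (hL0 m).1 hm v hv
  · rintro _ ⟨⟨χ, hχ⟩, hx, rfl⟩ hn
    refine ⟨⟨χ, hχ⟩, ?_, rfl⟩
    by_contra hk
    push Not at hk
    obtain ⟨θ, hθ, h1, h2⟩ := exists_of_mem_rel hχ hx
    have h3 : L0 ≤ charKer θ := fun n hn => (hχ.isCharacter.restrict N).charKer_le_of_constituent
      hθ h2 ((hχ.isCharacter.restrict N).mem_charKer.2 (hk n ⟨n, hn, rfl⟩))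
    obtain ⟨l, rfl⟩ := exists_ch hθ.isCharacter (hθ.charDegree_eq_one_iff.2 fun n hn =>
      h3 ((hL0 n).2 fun v _ => Abelianization.commutator_subset_ker v.hom hn))
    refine hn ⟨l, mem_of_ker_le V fun n hn => Units.ext ?_, fun e => h1 (by rw [e, ch_one]),
      χ, hχ, h2, rfl⟩
    exact (apply_of_mem_charKer (h3 ((hL0 n).2 hn))).trans (ch_apply_one l)

end H93.DG
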