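import Cfsg.Agent.H93.DGRel

/-! The components of the common-divisor graph on `cd(G|N)` (blueprints/DEG.md, DG-REL). -/

set_option autoImplicit false
open Cfsg H28 H32 H44 MulAction

namespace H93.DG

universe u

variable {G : Type u} [Group G] [Finite G]

/-- The graph. -/
abbrev Gr (N : Subgroup G) := commonDivisorGraph.induce (relCharDegrees N)

variable {N : Subgroup G}

theorem adj_of_nc (hG : N ≤ commutator G) {a b : relCharDegrees N} (hne : a ≠ b)
    (h : ¬ (a : ℕ).Coprime b) : (Gr N).Adj a b :=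
  ⟨fun e => hne (Subtype.ext e), lt_of_le_of_ne
    (Nat.gcd_pos_of_pos_left _ (one_lt_of_mem_rel hG a.2).le) fun e => h e.symm⟩

theorem reach_of_nc (hG : N ≤ commutator G) {a b : relCharDegrees N}
    (h : ¬ (a : ℕ).Coprime b) : (Gr N).Reachable a b := by
  by_cases e : a = b
  · rw [e]
  · exact (adj_of_nc hG e h).reachable

theorem reach_of_d2 (hG : N ≤ commutator G) {a b : relCharDegrees N}
    (h : D2 (relCharDegrees N) a b) : (Gr N).Reachable a b := by
  rcases h with h | ⟨c, hc, h1, h2⟩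
  · exact reach_of_nc hG h
  · exact (reach_of_nc hG (b := ⟨c, hc⟩) h1).trans (reach_of_nc hG h2)

theorem adj_of_d2 (hG : N ≤ commutator G) {a b : relCharDegrees N} (hne : a ≠ b)
    (h : D2 (relCharDegrees N) a b) : (Gr N).Adj a b ∨ ∃ d, (Gr N).Adj a d ∧ (Gr N).Adj d b := by
  by_cases h0 : (a : ℕ).Coprime b
  · obtain ⟨c, hc, h1, h2⟩ := h.resolve_left (not_not.2 h0)
    exact Or.inr ⟨⟨c, hc⟩, adj_of_nc hG (fun e => h2 (by rw [← show (a : ℕ) = c from congrArg _ e]; exact h0)) h1,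
      adj_of_nc hG (fun e => h1 (by rw [show c = (b : ℕ) from congrArg Subtype.val e]; exact h0)) h2⟩
  · exact Or.inl (adj_of_nc hG hne h0)

omit [Finite G] in
theorem nc_of_adj {a b : relCharDegrees N} (h : (Gr N).Adj a b) : ¬ (a : ℕ).Coprime b :=
  fun e => (show 1 < Nat.gcd a b from h.2).ne' e

theorem card_lin_eq : Nat.card (Lin N) = ⁅N, N⁆.relIndex N := by
  rw [card_lin, ← Subgroup.map_subtype_commutator, Subgroup.relIndex,
    Subgroup.subgroupOf, Subgroup.comap_map_eq_self_of_injective N.subtype_injective]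

variable [hN : N.Normal]

theorem hno_of_disc (hG : N ≤ commutator G) (h : ¬ (Gr N).Preconnected) (l : Lin N) (hl : l ≠ 1) :
    (stabilizer G l).index ≠ 1 := by
  cases nonempty_fintype N
  intro e
  have hi : ∀ g : G, g • l = l := fun g => mem_stabilizer_iff.1
    (by rw [Subgroup.index_eq_one.1 e]; trivial)
  have ho : orderOf l ≠ 1 := fun e => hl (orderOf_eq_one_iff.1 e)
  have hp := Nat.minFac_prime ho
  have h1 := orderOf_pow_orderOf_div (orderOf_pos l).ne' (Nat.minFac_dvd (orderOf l))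
  refine h fun a b => ?_
  obtain ⟨c, hc, h2, h3⟩ := case_inv hG hp (fun g => by rw [smul_pow', hi]) h1 a.2
  obtain ⟨d, hd, h4, h5⟩ := case_inv hG hp (fun g => by rw [smul_pow', hi]) h1 b.2
  exact ((reach_of_nc hG (b := ⟨c, hc⟩) h2).trans (reach_of_nc hG (b := ⟨d, hd⟩)
    (not_coprime_of_dvd hp.ne_one h3 h5))).trans (reach_of_nc hG (b := ⟨d, hd⟩) h4).symm

/-- A vertex `a₀` such that the vertices not joined to it are divisible by all primes of
`|N : N'|`, with the data for the induction. -/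
theorem exists_base (hG : N ≤ commutator G) (hN' : ⁅N, N⁆ < N) (h : ¬ (Gr N).Preconnected) :
    ∃ (p : ℕ) (C : Set ℕ) (a₀ : relCharDegrees N) (L : Subgroup G), p.Prime ∧
      p ∣ ⁅N, N⁆.relIndex N ∧ (a₀ : ℕ) ∈ C ∧
      (∀ b, ¬ (Gr N).Reachable a₀ b → ∀ r : ℕ, r.Prime → r ∣ ⁅N, N⁆.relIndex N → r ∣ b) ∧
      (∀ a ∈ relCharDegrees N, ¬ p ∣ a → ∀ b ∈ C, D2 (relCharDegrees N) a b) ∧
      (∀ b : relCharDegrees N, (b : ℕ) ∈ C → (Gr N).Reachable a₀ b) ∧
      L.Normal ∧ L < N ∧ ∀ a ∈ relCharDegrees N, a ∉ C → a ∈ relCharDegrees L := by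
  cases nonempty_fintype N
  have hno := hno_of_disc hG h
  have hm : ⁅N, N⁆.relIndex N ≠ 1 := fun e => hN'.not_ge (Subgroup.relIndex_eq_one.1 e)
  have hp := Nat.minFac_prime hm
  obtain ⟨V, hV⟩ := exists_minInv (G := G) (M := Lin N) hp (by rw [card_lin_eq]; exact Nat.minFac_dvd _)
  obtain ⟨a, ha⟩ := CV_nonempty hV.ne
  obtain ⟨L, h1, h2, h3⟩ := exists_smaller hV
  refine ⟨_, CV V, ⟨a, CV_subset V ha⟩, L, hp, Nat.minFac_dvd _, ha, fun b hb r hr hd => ?_,
    fun a ha hpa b hb => d2_of_not_dvd hno hp hV ha hpa hb,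
    fun b hb => reach_of_d2 hG (d2_of_mem hno hV ha hb), h1, h2, h3⟩
  by_contra hc
  obtain ⟨U, hU⟩ := exists_minInv (G := G) (M := Lin N) hr (by rw [card_lin_eq]; exact hd)
  by_cases e : r = (⁅N, N⁆.relIndex N).minFac
  · exact hb (reach_of_d2 hG (d2_of_not_dvd hno hp hV b.2 (e ▸ hc) ha)).symm
  obtain ⟨c, hc'⟩ := CV_nonempty hU.ne
  exact hb ((reach_of_d2 hG (b := ⟨c, CV_subset U hc'⟩) (d2_of_not_dvd hno hr hU b.2 hc hc')).trans
    (reach_of_d2 hG (d2_of_ne hno ((Nat.coprime_primes hr hp).2 e) hU hV hc' ha))).symm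

theorem card_le_two_of {α : Type*} (a : α) (h : ∀ b c, b ≠ a → c ≠ a → b = c) : Nat.card α ≤ 2 := by
  classical
  have : Function.Injective fun b => decide (b = a) := fun b c e => by
    by_cases hb : b = a
    · rw [hb, eq_comm]; simpa [hb] using e
    · exact h b c hb (by simpa [hb] using e)
  simpa using Nat.card_le_card_of_injective _ this

theorem s4776 (hN' : ⁅N, N⁆ < N) (hG : N ≤ commutator G) :
    Nat.card (Gr N).ConnectedComponent ≤ 2 ∧ ∀ a b, ¬ (Gr N).Reachable a b →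
      (Nat.Coprime a (⁅N, N⁆.relIndex N) ∧ ∀ r : ℕ, r.Prime → r ∣ ⁅N, N⁆.relIndex N → r ∣ b) ∨
      (Nat.Coprime b (⁅N, N⁆.relIndex N) ∧ ∀ r : ℕ, r.Prime → r ∣ ⁅N, N⁆.relIndex N → r ∣ a) := by
  by_cases h : (Gr N).Preconnected
  · have := h.subsingleton_connectedComponent
    exact ⟨Finite.card_le_one_iff_subsingleton.2 this |>.trans one_le_two,
      fun a b hab => absurd (h a b) hab⟩
  obtain ⟨p, -, a₀, -, hp, hpm, -, h1, -⟩ := exists_base hG hN' h
  have h2 : ∀ b c, ¬ (Gr N).Reachable a₀ b → ¬ (Gr N).Reachable a₀ c → (Gr N).Reachable b c :=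
    fun b c hb hc => reach_of_nc hG
      (not_coprime_of_dvd hp.ne_one (h1 b hb p hp hpm) (h1 c hc p hp hpm))
  have h3 : ∀ a b, ¬ (Gr N).Reachable a b → ¬ (Gr N).Reachable a₀ b →
      Nat.Coprime a (⁅N, N⁆.relIndex N) := fun a b hab hb =>
    Nat.coprime_of_dvd fun r hr ha hm =>
      hab (reach_of_nc hG (not_coprime_of_dvd hr.ne_one ha (h1 b hb r hr hm)))
  refine ⟨card_le_two_of ((Gr N).connectedComponentMk a₀) fun b c => b.ind fun b => c.ind fun c =>
    fun hb hc => SimpleGraph.ConnectedComponent.sound (h2 b c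
      (fun e => hb (SimpleGraph.ConnectedComponent.sound e.symm))
      fun e => hc (SimpleGraph.ConnectedComponent.sound e.symm)), fun a b hab => ?_⟩
  by_cases hb : (Gr N).Reachable a₀ b
  · have ha : ¬ (Gr N).Reachable a₀ a := fun ha => hab (ha.symm.trans hb)
    exact Or.inr ⟨h3 b a (fun e => hab e.symm) ha, h1 a ha⟩
  · exact Or.inl ⟨h3 a b hab hb, h1 b hb⟩

omit hN [Finite G] in
theorem rel_mono {L : Subgroup G} (h : L ≤ N) : relCharDegrees L ⊆ relCharDegrees N :=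
  fun _ ⟨χ, ⟨x, hx, h1⟩, h2⟩ => ⟨χ, ⟨x, h hx, h1⟩, h2⟩

omit hN [Finite G] in
theorem reach_mono {L : Subgroup G} (h : L ≤ N) {a b : relCharDegrees L}
    (hab : (Gr L).Reachable a b) : (Gr N).Reachable ⟨a, rel_mono h a.2⟩ ⟨b, rel_mono h b.2⟩ :=
  hab.map (SimpleGraph.induceHomOfLE commonDivisorGraph (rel_mono h)).toHom

omit hN in
theorem s4779 (N : Subgroup G) : ∀ [N.Normal] [Group.IsSolvable N],
    N ≤ commutator G → ¬ (Gr N).Preconnected → ∃ a₀ : relCharDegrees N,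
      (∀ b c, (Gr N).Reachable a₀ b → (Gr N).Reachable a₀ c → ¬ (b : ℕ).Coprime c) ∧
      ∀ b c, ¬ (Gr N).Reachable a₀ b → ¬ (Gr N).Reachable a₀ c → D2 (relCharDegrees N) b c := by
  induction N using WellFoundedLT.induction with
  | ind N ih =>
  intro _ _ hG h
  have hN' : ⁅N, N⁆ < N := by
    have : Nontrivial N := (Subgroup.nontrivial_iff_ne_bot N).2 fun e => h fun a => by
      obtain ⟨_, χ, ⟨x, hx, h1⟩, -⟩ := a
      exact (h1 (by rw [e, Subgroup.mem_bot] at hx; rw [hx])).elim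
    have := Group.IsSolvable.commutator_lt_top_of_nontrivial N
    rwa [← N.range_subtype, MonoidHom.range_eq_map, ← Subgroup.map_commutator,
      Subgroup.map_subtype_lt_map_subtype]
  obtain ⟨p, C, a₀, L, hp, hpm, ha₀, h1, h2, h3, hL, hLN, h4⟩ := exists_base hG hN' h
  obtain ⟨d, hd⟩ : ∃ d, ¬ (Gr N).Reachable a₀ d := by
    by_contra hc
    push Not at hc
    exact h fun a b => (hc a).symm.trans (hc b)
  have h5 : ∀ b c, ¬ (Gr N).Reachable a₀ b → ¬ (Gr N).Reachable a₀ c → ¬ (b : ℕ).Coprime c :=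
    fun b c hb hc => not_coprime_of_dvd hp.ne_one (h1 b hb p hp hpm) (h1 c hc p hp hpm)
  refine ⟨d, fun b c hb hc => h5 b c (fun e => hd (e.trans hb.symm)) fun e => hd (e.trans hc.symm),
    fun b c hb hc => ?_⟩
  have h6 : ∀ b, ¬ (Gr N).Reachable d b → ¬ p ∣ b := fun b hb e =>
    hb (reach_of_nc hG (not_coprime_of_dvd hp.ne_one (h1 d hd p hp hpm) e))
  by_cases hcC : (c : ℕ) ∈ C
  · exact h2 b b.2 (h6 b hb) c hcC
  by_cases hbC : (b : ℕ) ∈ C
  · exact (h2 c c.2 (h6 c hc) b hbC).imp (fun h e => h e.symm)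
      fun ⟨x, hx, h, h'⟩ => ⟨x, hx, fun e => h' e.symm, fun e => h e.symm⟩
  have hdL := h4 d d.2 fun e => hd (h3 d e)
  have hbL := h4 b b.2 hbC
  have hcL := h4 c c.2 hcC
  have := Group.isSolvable_of_isSolvable_injective (Subgroup.inclusion_injective hLN.le)
  obtain ⟨a₁, k1, k2⟩ := ih L hLN (hLN.le.trans hG)
    fun e => hb (reach_mono hLN.le (e ⟨d, hdL⟩ ⟨b, hbL⟩))
  have k3 : ∀ x y, ¬ (Gr L).Reachable a₁ x → ¬ (Gr L).Reachable a₁ y → (Gr L).Reachable x y :=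
    fun x y hx hy => reach_of_d2 (hLN.le.trans hG) (k2 x y hx hy)
  by_cases e : (Gr L).Reachable a₁ ⟨d, hdL⟩
  · exact (k2 ⟨b, hbL⟩ ⟨c, hcL⟩ (fun e' => hb (reach_mono hLN.le (e.symm.trans e')))
      fun e' => hc (reach_mono hLN.le (e.symm.trans e'))).imp_right
        fun ⟨x, hx, h⟩ => ⟨x, rel_mono hLN.le hx, h⟩
  · refine Or.inl (k1 ⟨b, hbL⟩ ⟨c, hcL⟩ ?_ ?_)
    · by_contra e'
      exact hb (reach_mono hLN.le (k3 _ _ e e'))
    · by_contra e'
      exact hc (reach_mono hLN.le (k3 _ _ e e'))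

end H93.DG
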