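/- Tower DG (S5732): slots Aff and As. -/
import Cfsg.Agent.H56.DgSpec
import Cfsg.Agent.S3546

set_option autoImplicit false
set_option linter.unusedSectionVars false

namespace H93.DgAff

open Subgroup H56.DG MulAction

universe u v

theorem exists_big : ∃ L0 : ℕ, ∀ L, L0 ≤ L → 64 * L ^ 60 ≤ 2 ^ L := by
  have h := tendsto_pow_const_div_const_pow_of_one_lt 60 (r := (2 : ℝ)) (by norm_num)
  obtain ⟨L0, hL⟩ := Filter.eventually_atTop.1
    (h.eventually (gt_mem_nhds (show (0 : ℝ) < 1 / 64 by norm_num)))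
  refine ⟨L0, fun L hl => ?_⟩
  have h1 := hL L hl
  rw [div_lt_div_iff₀ (by positivity) (by norm_num)] at h1
  have h2 : ((64 * L ^ 60 : ℕ) : ℝ) ≤ ((2 ^ L : ℕ) : ℝ) := by push_cast; linarith
  exact_mod_cast h2

theorem jobAs : JobAs := by
  obtain ⟨L0, hL⟩ := exists_big
  refine ⟨2 ^ L0, fun m n r w hn hm hw hr => ?_⟩
  have n0 : n ≠ 0 := by have := Nat.two_pow_pos L0; omega
  rcases Nat.eq_zero_or_pos m with rfl | m0
  · simp only [zero_add, one_pow]; omega
  have l1 : r ≤ Nat.log 2 n := Nat.le_log_of_pow_le (by norm_num) hr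
  have l2 : L0 ≤ Nat.log 2 n := Nat.le_log_of_pow_le (by norm_num) hn
  have l3 : 2 ^ Nat.log 2 n ≤ n := Nat.pow_log_le_self 2 n0
  have l4 := hL _ l2
  generalize Nat.log 2 n = L at l1 l2 l3 l4
  refine (Nat.pow_le_pow_iff_left (n := 3) (by norm_num)).1 ?_
  calc ((m + 1) ^ 2) ^ 3 = (m + 1) ^ 6 := by ring
    _ ≤ (2 * (L ^ 10 * w)) ^ 6 := by
      refine Nat.pow_le_pow_left ?_ 6
      have : r ^ 10 * w ≤ L ^ 10 * w := Nat.mul_le_mul_right _ (Nat.pow_le_pow_left l1 10)
      omega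
    _ = 64 * L ^ 60 * (w ^ 3) ^ 2 := by ring
    _ ≤ n * n ^ 2 := Nat.mul_le_mul (l4.trans l3) (Nat.pow_le_pow_left hw 2)
    _ = n ^ 3 := by ring

theorem jobAff (main : JobMain.{u}) : JobAff.{u, v} := by
  intro G Ω _ _ _ _ _ N prim nN cN hN ⟨g, g1, a, b, ab, ga, gb⟩
  have tr : IsPretransitive N Ω := by
    refine (IsPreprimitive.isQuasiPreprimitive (M := G) (α := Ω)).isPretransitive_of_normal fun e =>
      hN (eq_bot_iff.2 fun x hx => ?_)
    refine mem_bot.2 (FaithfulSMul.eq_of_smul_eq_smul (α := Ω) fun ω => ?_)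
    have : ω ∈ fixedPoints N Ω := e ▸ Set.mem_univ ω
    rw [one_smul]; exact this ⟨x, hx⟩
  have com : ∀ x ∈ N, ∀ y ∈ N, x * y = y * x := fun x hx y hy =>
    congrArg Subtype.val (cN.is_comm.comm ⟨x, hx⟩ ⟨y, hy⟩)
  have sur : ∀ ω : Ω, ∃ x ∈ N, x • a = ω := fun ω => by
    obtain ⟨x, hx⟩ := tr.exists_smul_eq a ω
    exact ⟨x.1, x.2, hx⟩
  have fix : ∀ h : G, h • a = a → (∀ x ∈ N, h * x = x * h) → h = 1 := fun h ha hc =>
    FaithfulSMul.eq_of_smul_eq_smul (α := Ω) fun ω => by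
      obtain ⟨x, hx, rfl⟩ := sur ω
      rw [one_smul, ← mul_smul, hc x hx, mul_smul, ha]
  have reg : ∀ x ∈ N, x • a = a → x = 1 := fun x hx h => fix x h (com x hx)
  have cardN : Nat.card N = Nat.card Ω := by
    refine Nat.card_congr (Equiv.ofBijective (fun x : N => x.1 • a) ⟨fun x y e => ?_, fun ω => ?_⟩)
    · have := reg (y.1⁻¹ * x.1) (mul_mem (inv_mem y.2) x.2) (by
        rw [mul_smul, inv_smul_eq_iff]; exact e)
      exact Subtype.ext (inv_mul_eq_one.1 this).symm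
    · obtain ⟨x, hx, e⟩ := sur ω
      exact ⟨⟨x, hx⟩, e⟩
  obtain ⟨trD, memD⟩ := Cfsg.Agent.S3546.result (G := G) (Ω := Ω) prim.toIsPretransitive
  have nD : (closure {g : G | ∀ ω : Ω, g • ω ≠ ω}).Normal := by
    refine ⟨fun x hx y => ?_⟩
    have : (closure {g : G | ∀ ω : Ω, g • ω ≠ ω}) ≤
        (closure {g : G | ∀ ω : Ω, g • ω ≠ ω}).comap (MulAut.conj y).toMonoidHom :=
      (closure_le _).2 fun s hs => Subgroup.subset_closure (k := {g : G | ∀ ω : Ω, g • ω ≠ ω}) fun ω e =>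
        hs (y⁻¹ • ω) (by
          have e' : (y * s * y⁻¹) • ω = ω := e
          rw [mul_smul, mul_smul, smul_eq_iff_eq_inv_smul] at e'
          exact e')
    exact this hx
  generalize closure {g : G | ∀ ω : Ω, g • ω ≠ ω} = D at trD memD nD ⊢
  have sup : stabilizer G a ⊔ D = ⊤ := eq_top_iff.2 fun x _ => by
    obtain ⟨d, hd⟩ := trD.exists_smul_eq a (x • a)
    have h1 : d.1⁻¹ * x ∈ stabilizer G a := by
      rw [mem_stabilizer_iff, mul_smul, inv_smul_eq_iff]; exact hd.symm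
    have := mul_mem (mem_sup_right (S := stabilizer G a) d.2) (mem_sup_left (T := D) h1)
    simpa using this
  have idx : (D.subgroupOf (stabilizer G a)).index = D.index := by
    change D.relIndex (stabilizer G a) = _
    rw [← relIndex_sup_right, sup, relIndex_top_right]
  letI : CommGroup N := { (inferInstance : Group N) with mul_comm := cN.is_comm.comm }
  letI : MulDistribMulAction (stabilizer G a) N :=
    MulDistribMulAction.compHom N ((MulAut.conjNormal (H := N)).comp (stabilizer G a).subtype)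
  have sm : ∀ (h : stabilizer G a) (x : N), (h • x).1 = h.1 * x.1 * h.1⁻¹ := fun _ _ => rfl
  have fx : ∀ (h : stabilizer G a) (x : N), h • x = x ↔ h.1 • x.1 • a = x.1 • a := fun h x => by
    have ha : h.1⁻¹ • a = a := (h⁻¹).2
    have e1 : (h • x).1 • a = h.1 • x.1 • a := by rw [sm, mul_smul, mul_smul, ha]
    refine ⟨fun e => by rw [← e1, e], fun e => ?_⟩
    have := reg (x.1⁻¹ * (h • x).1) (mul_mem (inv_mem x.2) (h • x).2) (by
      rw [mul_smul, inv_smul_eq_iff, e1, e])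
    exact Subtype.ext (inv_mul_eq_one.1 this).symm
  have st : St N (D.subgroupOf (stabilizer G a)) := by
    refine ⟨inferInstance, fun h hh => Subtype.ext (fix h.1 h.2 fun x hx => ?_), fun h hh x hx => ?_⟩
    · have := congrArg Subtype.val (hh ⟨x, hx⟩)
      rw [sm] at this
      exact mul_inv_eq_iff_eq_mul.1 this
    · have h1 : Nat.card (fixedBy Ω h.1) = 1 := by_contra fun c => hh (memD _ c)
      have h2 := (Nat.card_eq_one_iff_unique.1 h1).1
      have h3 := h2.elim ⟨x.1 • a, (fx h x).1 hx⟩ ⟨a, h.2⟩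
      exact Subtype.ext (reg x.1 x.2 (congrArg Subtype.val h3))
  obtain ⟨y, hy, rfl⟩ := sur b
  have := main (stabilizer G a) N _ st ⟨⟨g, ga⟩, fun e => g1 (congrArg Subtype.val e), fun f =>
    ab (by
      have := congrArg Subtype.val (f ⟨y, hy⟩ ((fx _ _).2 gb))
      rw [show y = 1 from this, one_smul])⟩
  rwa [Concl, Good, idx, cardN] at this

end H93.DgAff
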