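import Cfsg.Agent.H32.FSParity
import Cfsg.Agent.H32.CliffordCorr
import Cfsg.Agent.H28.CharProd
import Cfsg.Agent.H28.Degree
import Cfsg.Agent.H73.RealC
import Cfsg.Agent.S0192

/-! Twisted Frobenius-Schur indicators for a group `L` with a sign `ε : L →* ℤˣ`. -/

set_option autoImplicit false
open Cfsg H28 H30 H32
open scoped ComplexConjugate

namespace H93.FS

section OM
variable {G H : Type*} [Group G] [Group H] [Fintype G] [Fintype H]

theorem even_avg {χ : G → ℂ} (hχ : IsIrrCharacter G χ) (hν : fsInd χ = -1) (f : H →* G) {n : ℕ}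
    (hn : (Nat.card H : ℂ)⁻¹ * ∑ h, χ (f h) = n) : Even n := by
  have hreal : ∀ g, (χ g).im = 0 := by
    by_contra h
    rw [fsInd_eq_zero_of_not_real hχ h] at hν
    norm_num at hν
  obtain ⟨d, ρ, hρ, rfl⟩ := hχ
  obtain ⟨B, hB, hs, hinv⟩ := exists_form ρ hreal
  have hc : (Fintype.card H : ℂ) ≠ 0 := Nat.cast_ne_zero.2 Fintype.card_ne_zero
  let : Invertible (Fintype.card H : ℂ) := invertibleOfNonzero hc
  set σ : Representation ℂ H (Fin d → ℂ) := ρ.comp f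
  have hP := Representation.isProj_averageMap σ
  have hav : Representation.averageMap σ = (Fintype.card H : ℂ)⁻¹ • ∑ h : H, ρ (f h) := by
    simp [GroupAlgebra.average, map_sum, σ]
  have h1 : (Module.finrank ℂ σ.invariants : ℂ) = n := by
    rw [← hn, ← hP.trace, hav, map_smul, map_sum, Nat.card_eq_fintype_card]
    rfl
  have h2 : Even (Module.finrank ℂ σ.invariants) := by
    have key : ∀ y : σ.invariants, (∀ x : σ.invariants, B x y = 0) → y = 0 := by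
      intro y hy
      refine Subtype.ext (hB _ fun x => ?_)
      have e := hy ⟨_, hP.map_mem x⟩
      simp only [hav, LinearMap.smul_apply, LinearMap.sum_apply, map_smul, map_sum, smul_eq_mul] at e
      have e2 : ∀ h : H, B (ρ (f h) x) y = B x y := fun h => by
        have : ρ (f h) y = y := y.2 h
        conv_lhs => rw [← this]
        exact hinv _ _ _
      simp only [e2, Finset.sum_const, Finset.card_univ, nsmul_eq_mul] at e
      rwa [inv_mul_cancel_left₀ hc] at e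
    refine H54.even_finrank_of_isAlt (B := B.restrict σ.invariants) ⟨fun x hx => key x fun y => ?_,
      fun y hy => key y hy⟩ fun x => ?_
    · have := hx y
      simp only [LinearMap.BilinForm.restrict_apply, LinearMap.domRestrict_apply] at this
      rw [hs, this, mul_zero]
    · have := hs x x
      rw [hν] at this
      simp only [LinearMap.BilinForm.restrict_apply, LinearMap.domRestrict_apply]
      linear_combination this / 2
  rwa [Nat.cast_injective h1] at h2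

theorem real_of_fsInd_ne {χ : G → ℂ} (hχ : IsIrrCharacter G χ) (h : fsInd χ ≠ 0) (g : G) :
    (χ g).im = 0 := by
  by_contra h1
  exact h ((fsInd_eq_zero_iff hχ).2 ⟨g, h1⟩)

theorem fsInd_prod (χ : G → ℂ) (ψ : H → ℂ) :
    fsInd (fun x : G × H => χ x.1 * ψ x.2) = fsInd χ * fsInd ψ := by
  simp only [fsInd, Fintype.sum_prod_type, Prod.fst_mul, Prod.snd_mul, Nat.card_prod, Nat.cast_mul,
    mul_inv, ← Finset.mul_sum, ← Finset.sum_mul]
  ring

/-- a real constituent of odd multiplicity has the same indicator -/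
theorem fsInd_eq_of_odd_mult {χ : G → ℂ} (hχ : IsIrrCharacter G χ) (h0 : fsInd χ ≠ 0) (f : H →* G)
    {ψ : H → ℂ} (hψ : IsIrrCharacter H ψ) (h1 : fsInd ψ ≠ 0) {n : ℕ}
    (hn : classInner (fun h => χ (f h)) ψ = n) (ho : Odd n) : fsInd χ = fsInd ψ := by
  by_contra hne
  have hm : fsInd (fun x : G × H => χ x.1 * ψ x.2) = -1 := by
    rw [fsInd_prod]
    rcases fsInd_trichotomy hχ with a | a | a <;> rcases fsInd_trichotomy hψ with b | b | b <;>
      simp_all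
  refine (Nat.not_even_iff_odd.2 ho) (even_avg (Cfsg.IsIrrCharacter.prod hχ hψ) hm
    (f.prod (MonoidHom.id H)) ?_)
  rw [← hn, classInner]
  congr 1
  refine Finset.sum_congr rfl fun h _ => ?_
  rw [Complex.conj_eq_iff_im.2 (real_of_fsInd_ne hψ h1 h)]
  rfl

end OM

variable {L L' : Type*} [Group L] [Group L']

/-- twisted indicator -/
noncomputable def tw (ε : L →* ℤˣ) (θ : ε.ker → ℂ) : ℂ :=
  (Nat.card ε.ker : ℂ)⁻¹ * ∑ᶠ g : L, if ε g = -1 then extendByZero ε.ker θ (g * g) else 0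

/-- no twisted indicator is `-1` -/
def NQ (ε : L →* ℤˣ) : Prop := ∀ θ, IsIrrCharacter ε.ker θ → tw ε θ ≠ -1

/-- twisted reality -/
def TR (ε : L →* ℤˣ) (θ : ε.ker → ℂ) : Prop :=
  ∀ t, ε t = -1 → ∀ u, cj t θ u = conj (θ u)

theorem sq_mem (ε : L →* ℤˣ) (g : L) : g * g ∈ ε.ker := by
  rw [MonoidHom.mem_ker, map_mul, Int.units_mul_self]

theorem tw_eq [Fintype L] (ε : L →* ℤˣ) (θ : ε.ker → ℂ) : tw ε θ =
    (Nat.card ε.ker : ℂ)⁻¹ * ∑ g : L, if ε g = -1 then θ ⟨g * g, sq_mem ε g⟩ else 0 := by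
  rw [tw, finsum_eq_sum_of_fintype]
  simp only [H33.ext0_of_mem _ θ (sq_mem ε _)]

theorem mul_mem_ker {ε : L →* ℤˣ} {a b : L} (ha : ε a = -1) (hb : ε b = -1) : a * b ∈ ε.ker := by
  rw [MonoidHom.mem_ker, map_mul, ha, hb]; simp

theorem eps_inv (ε : L →* ℤˣ) (g : L) : ε g⁻¹ = ε g := by rw [map_inv, Int.units_inv_eq_self]

theorem tw_eq' [Finite L] {ε : L →* ℤˣ} [Fintype ε.ker] (θ : ε.ker → ℂ) {t : L} (ht : ε t = -1) :
    tw ε θ = (Nat.card ε.ker : ℂ)⁻¹ * ∑ u : ε.ker, θ ⟨u * t * (u * t), sq_mem ε _⟩ := by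
  have := Fintype.ofFinite L
  rw [tw_eq, ← Finset.sum_filter]
  congr 1
  symm
  refine Finset.sum_bij' (fun (u : ε.ker) _ => (u : L) * t)
    (fun g hg => (⟨g * t⁻¹, mul_mem_ker (Finset.mem_filter.1 hg).2 (by rw [eps_inv, ht])⟩ : ε.ker))
    (fun u _ => ?_) (by simp) (by simp) (by simp) (by simp)
  have : ε u = 1 := u.2
  simp [this, ht]

theorem tw_of_no [Finite L] {ε : L →* ℤˣ} (h : ∀ t, ε t ≠ -1) (θ : ε.ker → ℂ) : tw ε θ = 0 := by
  have := Fintype.ofFinite L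
  simp [tw_eq, h]

theorem exists_of_tw_ne [Finite L] {ε : L →* ℤˣ} {θ : ε.ker → ℂ} (h : tw ε θ ≠ 0) :
    ∃ t, ε t = -1 := by
  by_contra h1
  exact h (tw_of_no (fun t ht => h1 ⟨t, ht⟩) θ)

theorem TR_of {ε : L →* ℤˣ} {θ : ε.ker → ℂ} (hθ : IsClassFunction ε.ker θ) {t : L} (ht : ε t = -1)
    (h : ∀ u, cj t θ u = conj (θ u)) : TR ε θ := by
  intro s hs u
  have e : s = (s * t⁻¹) * t := by group
  rw [e, cj_mul, cj_of_mem hθ (mul_mem_ker hs (by rw [eps_inv, ht])), h]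

/-- the map induced on the kernels -/
def kerMap {ε : L →* ℤˣ} {ε' : L' →* ℤˣ} (f : L' →* L) (h : ∀ g, ε (f g) = ε' g) :
    ε'.ker →* ε.ker :=
  (f.comp ε'.ker.subtype).codRestrict _ fun u => (h u).trans u.2

@[simp] theorem coe_kerMap {ε : L →* ℤˣ} {ε' : L' →* ℤˣ} (f : L' →* L) (h : ∀ g, ε (f g) = ε' g)
    (u : ε'.ker) : (kerMap f h u : L) = f u := rfl

theorem TR.comp {ε : L →* ℤˣ} {ε' : L' →* ℤˣ} {θ : ε.ker → ℂ} (hθ : TR ε θ) (f : L' →* L)
    (h : ∀ g, ε (f g) = ε' g) : TR ε' fun u => θ (kerMap f h u) := by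
  intro t ht u
  rw [← hθ (f t) ((h t).trans ht)]
  exact congrArg θ (Subtype.ext (by simp))

/-- `C₃ ⋊ L` -/
@[ext] structure TG (ε : L →* ℤˣ) where
  a : ZMod 3
  g : L

theorem eps_sq (ε : L →* ℤˣ) (g : L) : ((ε g : ℤ) : ZMod 3) * ((ε g : ℤ) : ZMod 3) = 1 := by
  rw [← Int.cast_mul, ← Units.val_mul, Int.units_mul_self]; simp

instance (ε : L →* ℤˣ) : Group (TG ε) where
  mul x y := ⟨x.a + ((ε x.g : ℤ) : ZMod 3) * y.a, x.g * y.g⟩
  one := ⟨0, 1⟩
  inv x := ⟨-((ε x.g : ℤ) : ZMod 3) * x.a, x.g⁻¹⟩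
  mul_assoc x y z := TG.ext (by
    change x.a + _ * y.a + ((ε (x.g * y.g) : ℤ) : ZMod 3) * z.a = x.a + _ * (y.a + _ * z.a)
    rw [map_mul, Units.val_mul, Int.cast_mul]; ring) (mul_assoc _ _ _)
  one_mul x := TG.ext (by change 0 + ((ε 1 : ℤ) : ZMod 3) * x.a = _; simp) (one_mul _)
  mul_one x := TG.ext (by change x.a + _ * 0 = _; simp) (mul_one _)
  inv_mul_cancel x := TG.ext (by
    change -_ * x.a + ((ε x.g⁻¹ : ℤ) : ZMod 3) * x.a = 0
    rw [eps_inv]; ring) (inv_mul_cancel _)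

theorem TG.mul_a {ε : L →* ℤˣ} (x y : TG ε) :
    (x * y).a = x.a + ((ε x.g : ℤ) : ZMod 3) * y.a := rfl
theorem TG.mul_g {ε : L →* ℤˣ} (x y : TG ε) : (x * y).g = x.g * y.g := rfl
theorem TG.inv_a {ε : L →* ℤˣ} (x : TG ε) : x⁻¹.a = -((ε x.g : ℤ) : ZMod 3) * x.a := rfl
theorem TG.inv_g {ε : L →* ℤˣ} (x : TG ε) : x⁻¹.g = x.g⁻¹ := rfl

/-- as a set, a product -/
def TG.equiv (ε : L →* ℤˣ) : TG ε ≃ ZMod 3 × L :=
  ⟨fun x => (x.a, x.g), fun x => ⟨x.1, x.2⟩, fun _ => rfl, fun _ => rfl⟩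

instance (ε : L →* ℤˣ) [Finite L] : Finite (TG ε) := Finite.of_equiv _ (TG.equiv ε).symm

/-- projection -/
def TG.pr (ε : L →* ℤˣ) : TG ε →* L := ⟨⟨TG.g, rfl⟩, fun _ _ => rfl⟩

/-- the subgroup `C₃ × U` -/
abbrev TG.K (ε : L →* ℤˣ) : Subgroup (TG ε) := ε.ker.comap (TG.pr ε)

/-- `C₃ × U` -/
def TG.eK (ε : L →* ℤˣ) : TG.K ε ≃* Multiplicative (ZMod 3) × ε.ker where
  toFun x := (Multiplicative.ofAdd x.1.a, ⟨x.1.g, x.2⟩)
  invFun y := ⟨⟨y.1.toAdd, y.2⟩, y.2.2⟩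
  left_inv _ := rfl
  right_inv _ := rfl
  map_mul' x y := by
    have : ε x.1.g = 1 := x.2
    refine Prod.ext ?_ rfl
    change Multiplicative.ofAdd (x.1.a + _ * y.1.a) = Multiplicative.ofAdd (x.1.a + y.1.a)
    rw [this]; simp

/-- a faithful character of `C₃` -/
noncomputable def om (a : ZMod 3) : ℂ := ZMod.stdAddChar a

theorem om_add (a b : ZMod 3) : om (a + b) = om a * om b := AddChar.map_add_eq_mul _ _ _
theorem om_zero : om 0 = 1 := AddChar.map_zero_eq_one _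
theorem om_neg (a : ZMod 3) : om (-a) = conj (om a) := AddChar.map_neg_eq_conj _ _
theorem om_mul_conj (a : ZMod 3) : om a * conj (om a) = 1 := by
  rw [← om_neg, ← om_add, add_neg_cancel, om_zero]
theorem sum_om : ∑ a, om (a + a) = 0 := by
  have := AddChar.sum_mulShift (2 : ZMod 3) (ZMod.isPrimitive_stdAddChar 3)
  rw [if_neg (by decide)] at this
  simpa only [mul_two, om, Nat.cast_zero] using this
theorem om_ne : om (-1) ≠ om 1 := fun h =>
  absurd (ZMod.injective_stdAddChar h) (by decide)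

theorem om_irr : IsIrrCharacter (Multiplicative (ZMod 3)) fun a => om a.toAdd :=
  isIrrCharacter_of_hom (MonoidHom.toHomUnits (ZMod.stdAddChar (N := 3)).toMonoidHom)

/-- `ω ⊗ θ` -/
noncomputable def psiK {ε : L →* ℤˣ} (θ : ε.ker → ℂ) : TG.K ε → ℂ :=
  fun x => om x.1.a * θ ⟨x.1.g, x.2⟩

theorem psiK_irr [Finite L] {ε : L →* ℤˣ} {θ : ε.ker → ℂ} (hθ : IsIrrCharacter ε.ker θ) :
    IsIrrCharacter (TG.K ε) (psiK θ) :=
  Cfsg.IsIrrCharacter.comp_mulEquiv (Cfsg.IsIrrCharacter.prod om_irr hθ) (TG.eK ε)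

theorem sum_K {ε : L →* ℤˣ} [Fintype ε.ker] [Fintype (TG.K ε)] (F : TG.K ε → ℂ) :
    ∑ x, F x = ∑ a : ZMod 3, ∑ u : ε.ker, F ⟨⟨a, u⟩, u.2⟩ := by
  rw [← Fintype.sum_prod_type']
  exact Fintype.sum_equiv (TG.eK ε).toEquiv _ _ fun _ => rfl

theorem card_K (ε : L →* ℤˣ) : Nat.card (TG.K ε) = 3 * Nat.card ε.ker := by
  rw [Nat.card_congr (TG.eK ε).toEquiv, Nat.card_prod]
  simp

theorem cj_psiK {ε : L →* ℤˣ} (θ : ε.ker → ℂ) (x : TG ε) (hx : ε x.g = -1) (k : TG.K ε) :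
    cj x (psiK θ) k = conj (om k.1.a) * cj x.g θ ⟨k.1.g, k.2⟩ := by
  have hk : ε k.1.g = 1 := k.2
  rw [← om_neg]
  change om (x * k.1 * x⁻¹).a * _ = _
  congr 2
  simp [TG.mul_a, TG.mul_g, TG.inv_a, hx, hk]

/-- the character of `C₃ ⋊ L` attached to `θ` -/
noncomputable def lift [Finite L] {ε : L →* ℤˣ} (θ : ε.ker → ℂ) : TG ε → ℂ :=
  @indFun _ _ (Fintype.ofFinite _) (TG.K ε) (psiK θ)

variable [Finite L] {ε : L →* ℤˣ} {θ : ε.ker → ℂ}

theorem inertia_psiK (hθ : IsIrrCharacter ε.ker θ) : inertia (psiK θ) ≤ TG.K ε := by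
  intro x hx
  by_contra h
  have hx' : ε x.g = -1 := (Int.units_eq_one_or _).resolve_left h
  have := congrFun (mem_inertia.1 hx) ⟨⟨1, 1⟩, one_mem ε.ker⟩
  rw [cj_psiK θ x hx', ← om_neg] at this
  refine om_ne (mul_right_cancel₀ (Cfsg.IsIrrCharacter.apply_one_ne_zero hθ) ?_)
  rw [← cj_apply_one x.g θ] 
  conv_rhs => rw [cj_apply_one]
  exact this

theorem lift_irr (hθ : IsIrrCharacter ε.ker θ) : IsIrrCharacter (TG ε) (lift θ) :=
  letI := Fintype.ofFinite (TG ε)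
  (isIrrCharacter_indFun_iff (psiK_irr hθ)).2 (inertia_psiK hθ)

theorem fsInd_lift [Fintype (TG ε)] (θ : ε.ker → ℂ) : fsInd (lift θ) = tw ε θ := by
  have := Fintype.ofFinite L
  rw [lift, Subsingleton.elim (Fintype.ofFinite (TG ε)) ‹_›, H73.RC.fsInd_indFun', tw_eq, card_K,
    Fintype.sum_equiv (TG.equiv ε) (fun s => extendByZero (TG.K ε) (psiK θ) (s * s))
      (fun y => extendByZero (TG.K ε) (psiK θ)
      ((⟨y.1, y.2⟩ : TG ε) * ⟨y.1, y.2⟩)) fun _ => rfl, Fintype.sum_prod_type_right]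
  have h : ∀ g : L, ∑ a : ZMod 3, extendByZero (TG.K ε) (psiK θ) ((⟨a, g⟩ : TG ε) * ⟨a, g⟩) =
      3 * if ε g = -1 then θ ⟨g * g, sq_mem ε g⟩ else 0 := by
    intro g
    have e : ∀ a : ZMod 3, extendByZero (TG.K ε) (psiK θ) ((⟨a, g⟩ : TG ε) * ⟨a, g⟩) =
        om (a + ((ε g : ℤ) : ZMod 3) * a) * θ ⟨g * g, sq_mem ε g⟩ := fun a =>
      H33.ext0_of_mem (TG.K ε) (psiK θ) (g := ⟨a, g⟩ * ⟨a, g⟩) (sq_mem ε g)
    simp only [e]
    rcases Int.units_eq_one_or (ε g) with h | h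
    · simp [h, ← Finset.sum_mul, sum_om]
    · simp [h, om_zero]
  simp only [h, ← Finset.mul_sum]
  push_cast
  field_simp

theorem lift_K (hθ : IsIrrCharacter ε.ker θ) {t : L} (ht : ε t = -1) (k : TG.K ε) :
    lift θ k = psiK θ k + conj (om k.1.a) * cj t θ ⟨k.1.g, k.2⟩ := by
  classical
  letI := Fintype.ofFinite (TG ε)
  have hc := H33.isClassFunction_of_isIrrCharacter (psiK_irr hθ)
  have h1 := congrFun (res_indFun_normal' hc) k
  rw [le_antisymm (inertia_psiK hθ) (le_inertia hc), Subgroup.relIndex_self] at h1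
  have h2 : conjSet (psiK θ) = {psiK θ, cj (⟨0, t⟩ : TG ε) (psiK θ)} := by
    ext φ
    simp only [mem_conjSet, Finset.mem_insert, Finset.mem_singleton]
    refine ⟨?_, fun h => h.elim (fun h => ⟨1, by simp [h]⟩) fun h => ⟨_, h⟩⟩
    rintro ⟨x, rfl⟩
    rcases Int.units_eq_one_or (ε x.g) with h | h
    · exact Or.inl (cj_of_mem hc h)
    · exact Or.inr (cj_eq_cj_iff.2 (le_inertia hc (mul_mem_ker h (by rw [TG.inv_g, eps_inv, ht]))))
  rw [h2, Finset.sum_pair fun h => by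
    have : ε t = 1 := inertia_psiK hθ (mem_inertia.2 h.symm)
    rw [ht] at this
    exact absurd this (by decide)] at h1
  rw [← cj_psiK θ ⟨0, t⟩ ht, lift]
  simpa using h1

theorem tw_cases (hθ : IsIrrCharacter ε.ker θ) : tw ε θ = 0 ∨ tw ε θ = 1 ∨ tw ε θ = -1 := by
  have := Fintype.ofFinite (TG ε)
  rw [← fsInd_lift]
  exact fsInd_trichotomy (lift_irr hθ)

theorem TR_of_tw_ne (hθ : IsIrrCharacter ε.ker θ) (h : tw ε θ ≠ 0) : TR ε θ := by
  have := Fintype.ofFinite (TG ε)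
  intro t ht u
  have hr := real_of_fsInd_ne (lift_irr hθ) (by rwa [fsInd_lift])
  have h0 := Complex.conj_eq_iff_im.2 (hr ⟨0, u⟩)
  have h1 := Complex.conj_eq_iff_im.2 (hr ⟨1, u⟩)
  rw [lift_K hθ ht ⟨⟨_, u⟩, u.2⟩] at h0 h1
  simp only [psiK, om_zero, map_add, map_mul, one_mul, map_one, Complex.conj_conj,
    Subtype.coe_eta] at h0 h1
  have h2 : om 1 - conj (om 1) ≠ 0 := sub_ne_zero.2 fun h => om_ne (by rw [om_neg, ← h])
  refine mul_left_cancel₀ h2 ?_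
  linear_combination h1 - om 1 * h0

theorem tw_ne_of_TR (hθ : IsIrrCharacter ε.ker θ) (h : TR ε θ) {t : L} (ht : ε t = -1) :
    tw ε θ ≠ 0 := by
  have := Fintype.ofFinite (TG ε)
  rw [← fsInd_lift, Ne, fsInd_eq_zero_iff (lift_irr hθ)]
  rintro ⟨x, hx⟩
  refine hx ?_
  by_cases hk : x ∈ TG.K ε
  · rw [lift_K hθ ht ⟨x, hk⟩, h t ht, ← map_mul]
    simp [psiK, -map_mul]
  · rw [lift, @H33.indFun_eq_zero_of_not_mem _ _ (Fintype.ofFinite _) _ _ _ _ hk]
    rfl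

/-- the map on the extensions -/
def TG.map {ε' : L' →* ℤˣ} (f : L' →* L) (h : ∀ g, ε (f g) = ε' g) : TG ε' →* TG ε where
  toFun x := ⟨x.a, f x.g⟩
  map_one' := TG.ext rfl (map_one f)
  map_mul' x y := TG.ext (by simp only [TG.mul_a, h]) (map_mul f _ _)

/-- a twisted real constituent of odd multiplicity has the same twisted indicator -/
theorem tw_eq_of_odd [Finite L'] {ε' : L' →* ℤˣ} [Fintype ε'.ker] (f : L' →* L)
    (h : ∀ g, ε (f g) = ε' g) {t : L'} (ht : ε' t = -1) (hθ : IsIrrCharacter ε.ker θ) (h0 : TR ε θ)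
    {ψ : ε'.ker → ℂ} (hψ : IsIrrCharacter ε'.ker ψ) (h1 : TR ε' ψ) {n : ℕ}
    (hn : classInner (fun u => θ (kerMap f h u)) ψ = n) (ho : Odd n) : tw ε θ = tw ε' ψ := by
  have := Fintype.ofFinite (TG ε)
  letI := Fintype.ofFinite (TG ε')
  have := Fintype.ofFinite (TG.K ε')
  have ht' : ε (f t) = -1 := (h t).trans ht
  rw [← fsInd_lift, ← fsInd_lift]
  refine fsInd_eq_of_odd_mult (lift_irr hθ) (by rw [fsInd_lift]; exact tw_ne_of_TR hθ h0 ht')
    (TG.map f h) (lift_irr hψ) (by rw [fsInd_lift]; exact tw_ne_of_TR hψ h1 ht) ?_ ho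
  rw [lift.eq_def (θ := ψ), H33.classInner_indFun_right _ _ (H33.isClassFunction_comp
    (H33.isClassFunction_of_isIrrCharacter (lift_irr hθ)) _), ← hn, classInner, classInner, card_K,
    sum_K, Finset.sum_comm]
  have e : ∀ (u : ε'.ker) (a : ZMod 3), lift θ (TG.map f h ⟨a, u⟩) * conj (psiK ψ ⟨⟨a, u⟩, u.2⟩) =
      θ (kerMap f h u) * conj (ψ u) +
        conj (om (a + a)) * (cj (f t) θ (kerMap f h u) * conj (ψ u)) := by
    intro u a
    have := lift_K hθ ht' ⟨⟨a, f u⟩, (kerMap f h u).2⟩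
    change lift θ ⟨a, f u⟩ = om a * θ (kerMap f h u) + conj (om a) * cj (f t) θ (kerMap f h u) at this
    change lift θ ⟨a, f u⟩ * conj (om a * ψ u) = _
    rw [this, om_add, map_mul, map_mul]
    linear_combination θ (kerMap f h u) * conj (ψ u) * om_mul_conj a
  simp only [e, Finset.sum_add_distrib, ← Finset.sum_mul, ← map_sum, sum_om, map_zero, zero_mul,
    Finset.sum_const_zero, add_zero, Finset.sum_const, Finset.card_univ, ZMod.card, nsmul_eq_mul,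
    ← Finset.mul_sum]
  simp only [mul_assoc, ← Finset.mul_sum]
  push_cast
  field_simp

theorem tw_eq_of_res [Finite L'] {ε' : L' →* ℤˣ} (f : L' →* L) (h : ∀ g, ε (f g) = ε' g) {t : L'}
    (ht : ε' t = -1) (hθ : IsIrrCharacter ε.ker θ) (h0 : TR ε θ)
    (hψ : IsIrrCharacter ε'.ker fun u => θ (kerMap f h u)) :
    tw ε θ = tw ε' fun u => θ (kerMap f h u) := by
  have := Fintype.ofFinite ε'.ker
  exact tw_eq_of_odd f h ht hθ h0 hψ (h0.comp f h) (n := 1)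
    (by rw [Cfsg.IsIrrCharacter.classInner_self hψ, Nat.cast_one]) odd_one

theorem NQ.of_surj [Finite L'] {ε' : L' →* ℤˣ} (hN : NQ ε') (f : L' →* L)
    (h : ∀ g, ε (f g) = ε' g) (hf : Function.Surjective f) : NQ ε := by
  intro θ hθ hν
  have h0 : tw ε θ ≠ 0 := by rw [hν]; norm_num
  obtain ⟨t, ht⟩ := exists_of_tw_ne h0
  obtain ⟨t, rfl⟩ := hf t
  have hψ := Cfsg.IsIrrCharacter.comp_surjective hθ (kerMap f h) fun u => by
    obtain ⟨x, hx⟩ := hf u
    exact ⟨⟨x, (h x).symm.trans (hx ▸ u.2)⟩, Subtype.ext hx⟩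
  exact hN _ hψ (hν ▸ (tw_eq_of_res f h ((h t).symm.trans ht) hθ (TR_of_tw_ne hθ h0) hψ).symm)

theorem NQ.of_no (h : ∀ t, ε t ≠ -1) : NQ ε := fun θ _ hν => by
  rw [tw_of_no h] at hν; norm_num at hν

end H93.FS
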