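import Cfsg.Agent.H93.FS9

/-! In characteristic two every isometry of a non-degenerate quadratic form is inverted by an
involution of maximal rank. -/

set_option autoImplicit false

namespace H93.FS

open H56 H60 QuadraticMap Module Polynomial

universe u

theorem pow_dvd_of_mem {F : Type*} [Field F] {π : F[X]} (hπ : Prime π) {k : ℕ} {I : Ideal F[X]}
    (h1 : π ^ (k + 1) ∈ I) (h2 : π ^ k ∉ I) {b : F[X]} (hb : b ∈ I) : π ^ (k + 1) ∣ b := by
  rw [Submodule.IsPrincipal.mem_iff_generator_dvd] at h1 h2 hb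
  obtain ⟨i, hi, h⟩ := (dvd_prime_pow hπ _).1 h1
  obtain rfl : i = k + 1 := by
    by_contra hne
    exact h2 (h.dvd.trans (pow_dvd_pow π (by omega)))
  exact h.symm.dvd.trans hb

theorem pind {F : Type*} [Field F] {P : F[X] → Prop} (h1 : ∀ a, P (C a))
    (h2 : ∀ p q, P p → P q → P (p + q)) (h3 : ∀ p, P p → P (p * X)) (p : F[X]) : P p :=
  p.induction_on h1 h2 fun n a h => by rw [pow_succ, ← mul_assoc]; exact h3 _ h

variable {F V : Type*} [Field F] [AddCommGroup V] [Module F V] {Q : QuadraticForm F V}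

theorem exists_O_of_surj [FiniteDimensional F V] (hQ : Q.polarBilin.Nondegenerate) {M : Type*}
    [AddCommGroup M] [Module F M] (A B : M →ₗ[F] V) (hA : LinearMap.range A = ⊤)
    (h : ∀ m, Q (B m) = Q (A m)) : ∃ k : O Q, ∀ m, k (A m) = B m := by
  obtain ⟨s, hs⟩ := A.exists_rightInverse_of_surjective hA
  replace hs : ∀ v, A (s v) = v := LinearMap.congr_fun hs
  have h1 : ∀ v, Q ((B ∘ₗ s) v) = Q v := fun v => (h _).trans (by rw [hs])
  let k := O.ofInj (B ∘ₗ s) h1 (injective_of_map_Q hQ _ h1)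
  refine ⟨k, fun m => sub_eq_zero.1 (eq_zero_of_polar hQ fun y => ?_)⟩
  obtain ⟨y, rfl⟩ := k.surjective y
  change polar Q (B (s (A m)) - B m) (B (s y)) = 0
  rw [← map_sub, polar, ← map_add, h, h, h, map_add, map_sub, hs, sub_self]
  simp

/-- inverted by an involution of maximal rank -/
def Good (g : O Q) : Prop :=
  ∃ h : O Q, h * h = 1 ∧ h * g * h⁻¹ = g⁻¹ ∧ ∀ v, h v = v → ∃ w, h w - w = v

variable [CharP F 2] [Module F[X] V] [IsScalarTower F F[X] V] {g : O Q}

omit [CharP F 2] in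
theorem C_sm (a : F) (v : V) : (C a : F[X]) • v = a • v := algebraMap_smul F[X] a v

/-- cyclic submodule -/
noncomputable def cy (g : O Q) (x : V) : F[X] × F[X] →ₗ[F] V :=
  ((LinearMap.toSpanSingleton F[X] V x).restrictScalars F).coprod
    ((LinearMap.toSpanSingleton F[X] V (g x)).restrictScalars F)

omit [CharP F 2] in
theorem cy_apply (x : V) (a b : F[X]) : cy g x (a, b) = a • x + b • g x := rfl

omit [CharP F 2] in
theorem mem_cy (x : V) (a b : F[X]) : a • x + b • g x ∈ LinearMap.range (cy g x) := ⟨(a, b), rfl⟩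

omit [CharP F 2] in
theorem self_mem_cy (x : V) : x ∈ LinearMap.range (cy g x) := by simpa using mem_cy (g := g) x 1 0

theorem two_sm (v : V) : (2 : F[X]) • v = 0 := by rw [two_smul, vadd_self (F := F)]

variable (hX : ∀ v, (X : F[X]) • v = g v + g⁻¹ v)
include hX

omit [CharP F 2] in
theorem s_comm (p : F[X]) (v : V) : g (p • v) = p • g v := by
  induction p using pind generalizing v with
  | h1 a => rw [C_sm, C_sm, map_smul]
  | h2 p q hp hq => rw [add_smul, add_smul, map_add, hp, hq]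
  | h3 p hp => rw [mul_smul, mul_smul, hp, hX, hX]; simp

omit [CharP F 2] in
theorem s_adj (p : F[X]) (u v : V) : polar Q (p • u) v = polar Q u (p • v) := by
  induction p using pind generalizing u with
  | h1 a => rw [C_sm, C_sm, polar_smul_left, polar_smul_right]
  | h2 p q hp hq => rw [add_smul, add_smul, polar_add_left, polar_add_right, hp, hq]
  | h3 p hp => rw [mul_smul, hp, mul_comm, mul_smul, hX, hX, polar_add_left, polar_add_right,
      O.polar_apply_left, O.polar_apply_left, inv_inv, add_comm]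

omit [CharP F 2] in
theorem s_nf (p q : F[X]) (u v : V) : polar Q (p • u) (q • v) = polar Q ((q * p) • u) v := by
  rw [← s_adj hX, mul_smul]

theorem s_alt (p : F[X]) (v : V) : polar Q (p • v) v = 0 := by
  have : ∀ (n : ℕ) (v : V), polar Q ((X ^ n : F[X]) • v) v = 0 := fun n => by
    induction n using Nat.twoStepInduction with
    | zero => intro v; rw [pow_zero, one_smul, pself2]
    | one => intro v; rw [pow_one, hX, polar_add_left, O.polar_apply_left g⁻¹, inv_inv, polar_comm,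
        CharTwo.add_self_eq_zero]
    | more n h _ => intro v; rw [← h ((X : F[X]) • v), ← mul_smul, s_nf hX]; congr 2; ring
  induction p using Polynomial.induction_on' with
  | add p q hp hq => rw [add_smul, polar_add_left, hp, hq, add_zero]
  | monomial n a => rw [← C_mul_X_pow_eq_monomial, mul_smul, C_sm, polar_smul_left, this, smul_zero]

theorem g_g (v : V) : g (g v) = (X : F[X]) • g v + v := by
  rw [hX, O.inv_apply_apply, add_assoc, vadd_self (F := F), add_zero]

theorem s_Q {x y : V} (h1 : Q x = Q y) (h2 : ∀ p : F[X], polar Q (p • g x) x = polar Q (p • g y) y)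
    (p : F[X]) : Q (p • x) = Q (p • y) := by
  have k : ∀ w, Q ((X : F[X]) • w) = polar Q ((X : F[X]) • g w) w := fun w => by
    rw [hX, Q_add, O.map_Q, O.map_Q, CharTwo.add_self_eq_zero, zero_add, hX, O.inv_apply_apply,
      polar_add_left, pself2, add_zero, O.polar_apply_left g (g w)]
  induction p using Polynomial.induction_on' with
  | add p q hp hq => simp only [add_smul, Q_add, hp, hq, s_nf hX, s_alt hX]
  | monomial n a =>
    rw [← C_mul_X_pow_eq_monomial, mul_smul, mul_smul, C_sm, C_sm, Q_smul, Q_smul]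
    rcases n with _ | n
    · simp [h1]
    · rw [pow_succ', mul_smul, mul_smul, k, k, s_comm hX, s_comm hX, ← mul_smul, ← mul_smul, s_nf hX,
        s_nf hX, h2]

theorem cy_inv (x : V) : ∀ u ∈ LinearMap.range (cy g x), g u ∈ LinearMap.range (cy g x) := by
  rintro _ ⟨⟨a, b⟩, rfl⟩
  refine ⟨(b, a + b * X), ?_⟩
  rw [cy_apply, cy_apply, map_add, s_comm hX, s_comm hX, g_g hX]
  module

theorem cy_dec {x u : V} (hu : u ∈ LinearMap.range (cy g x)) :
    ∃ c : F, ∃ w ∈ LinearMap.range (cy g x), u = c • x + (g.lin + 1) w := by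
  obtain ⟨⟨a, b⟩, rfl⟩ := hu
  obtain ⟨p, c, h⟩ : ∃ p c, X * p + C c = a + b := ⟨_, _, X_mul_divX_add _⟩
  refine ⟨c, _, mem_cy x (b + p * (X + 1)) p, ?_⟩
  simp only [cy_apply, LinearMap.add_apply, O.lin_apply, Module.End.one_apply, map_add, s_comm hX,
    g_g hX, ← C_sm]
  linear_combination (norm := module) (-h) • x - (p * (X : F[X]) + p) • two_sm (F := F) (g x) -
    (b + p) • two_sm (F := F) x

variable [FiniteDimensional F V] (hQ : Q.polarBilin.Nondegenerate)
include hQ

theorem core {x y : V} (h1 : Q x = Q y) (h2 : ∀ p : F[X], polar Q (p • g x) x = polar Q (p • g y) y)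
    (hs : LinearMap.range (cy g x) ⊔ LinearMap.range (cy g y) = ⊤) :
    ∃ h : O Q, h * h = 1 ∧ h * g * h⁻¹ = g⁻¹ ∧ ∀ a b c d : F[X],
      h (a • x + b • g x + (c • y + d • g y)) = d • x + c • g x + (b • y + a • g y) := by
  rw [← LinearMap.range_coprod] at hs
  have e1 : ∀ (p : F[X]) u, Q (p • g u) = Q (p • u) := fun p u => by rw [← s_comm hX, O.map_Q]
  have e2 : ∀ (p : F[X]) u v, polar Q (p • g u) (g v) = polar Q (p • u) v := fun p u v => by
    rw [← s_comm hX, O.map_polar]
  have e3 : ∀ (p : F[X]) u, polar Q (p • u) (g u) = polar Q (p • g u) u := fun p u => by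
    rw [s_adj hX, polar_comm]
  obtain ⟨h, hh⟩ := exists_O_of_surj hQ _ (((cy g x).coprod (cy g y)).comp
    (((LinearEquiv.prodComm F _ _).prodCongr (LinearEquiv.prodComm F _ _)).trans
      (LinearEquiv.prodComm F _ _)).toLinearMap) hs fun ⟨⟨a, b⟩, c, d⟩ => by
    change Q (d • x + c • g x + (b • y + a • g y)) = Q (a • x + b • g x + (c • y + d • g y))
    simp only [Q_add, polar_add_left, polar_add_right, s_nf hX, e1, e2, e3, h2, s_Q hX h1 h2,
      mul_comm b a, mul_comm d c, mul_comm c a, mul_comm d a, mul_comm c b, mul_comm d b]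
    ring
  replace hh : ∀ a b c d : F[X], h (a • x + b • g x + (c • y + d • g y)) =
    d • x + c • g x + (b • y + a • g y) := fun a b c d => hh ((a, b), c, d)
  have k : ∀ v, ∃ a b c d : F[X], v = a • x + b • g x + (c • y + d • g y) := fun v => by
    obtain ⟨⟨⟨a, b⟩, c, d⟩, e⟩ := LinearMap.range_eq_top.1 hs v
    exact ⟨a, b, c, d, e.symm⟩
  refine ⟨h, O.ext fun v => ?_, ?_, hh⟩
  · obtain ⟨a, b, c, d, rfl⟩ := k v
    rw [O.mul_apply, hh, hh, O.one_apply]
  · rw [mul_inv_eq_iff_eq_mul, eq_inv_mul_iff_mul_eq]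
    refine O.ext fun v => ?_
    obtain ⟨a, b, c, d, rfl⟩ := k v
    have : g (a • x + b • g x + (c • y + d • g y)) =
        b • x + (a + b * X) • g x + (d • y + (c + d * X) • g y) := by
      simp only [map_add, s_comm hX, g_g hX]; module
    rw [O.mul_apply, O.mul_apply, this, hh, hh]
    simp only [map_add, s_comm hX, g_g hX]
    linear_combination (norm := module) (d * (X : F[X])) • two_sm (F := F) (g x) +
      (b * (X : F[X])) • two_sm (F := F) (g y)

omit hQ in
theorem free {n : ℕ} (hn : ∀ v, ((g.lin + 1) ^ (n + 1)) v = 0) {x y : V}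
    (hB : ∀ v, polar Q (((g.lin + 1) ^ n) v) v = 0) (hxy : polar Q (((g.lin + 1) ^ n) x) y ≠ 0)
    {u v : V} (hu : u ∈ LinearMap.range (cy g x)) (hv : v ∈ LinearMap.range (cy g y))
    (h : u + v ∈ perp Q (LinearMap.range (cy g x) ⊔ LinearMap.range (cy g y))) : u = 0 ∧ v = 0 := by
  have hi : ∀ w ∈ LinearMap.range (cy g x) ⊔ LinearMap.range (cy g y),
      g w ∈ LinearMap.range (cy g x) ⊔ LinearMap.range (cy g y) := fun w hw => by
    obtain ⟨a, ha, b, hb, rfl⟩ := Submodule.mem_sup.1 hw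
    rw [map_add]
    exact Submodule.add_mem_sup (cy_inv hX x a ha) (cy_inv hX y b hb)
  have hp : ∀ i : ℕ, ((g.lin + 1) ^ i) (u + v) ∈
      perp Q (LinearMap.range (cy g x) ⊔ LinearMap.range (cy g y)) := fun i => by
    induction i with
    | zero => exact h
    | succ i ih => rw [pow_succ']; exact add_mem (perp_inv hi _ ih) ih
  have hyx : polar Q (((g.lin + 1) ^ n) y) x = polar Q (((g.lin + 1) ^ n) x) y := by
    have := hB (x + y)
    simp only [map_add, polar_add_left, polar_add_right, hB, zero_add, add_zero] at this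
    exact CharTwo.add_eq_zero.1 this
  have k : ∀ j ≤ n + 1, ∃ a ∈ LinearMap.range (cy g x), ∃ b ∈ LinearMap.range (cy g y),
      u = ((g.lin + 1) ^ j) a ∧ v = ((g.lin + 1) ^ j) b := fun j => by
    induction j with
    | zero => exact fun _ => ⟨u, hu, v, hv, rfl, rfl⟩
    | succ j ih =>
      intro hj
      obtain ⟨a, ha, b, hb, rfl, rfl⟩ := ih (by omega)
      obtain ⟨c, a, ha', rfl⟩ := cy_dec hX ha
      obtain ⟨d, b, hb', rfl⟩ := cy_dec hX hb
      have a1 := hp (n - j)
      have a2 : ∀ w, ((g.lin + 1) ^ n) ((g.lin + 1) w) = 0 := fun w => by rw [← hn w, pow_succ]; rfl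
      rw [← map_add, ← Module.End.mul_apply, ← pow_add, Nat.sub_add_cancel (by omega), mem_perp'] at a1
      have a3 := a1 y (Submodule.mem_sup_right (self_mem_cy y))
      have a4 := a1 x (Submodule.mem_sup_left (self_mem_cy x))
      simp only [map_add, map_smul, a2, add_zero, polar_add_left, polar_smul_left, hB, hyx, smul_eq_mul,
        mul_zero, zero_add, mul_eq_zero, hxy, or_false] at a3 a4
      exact ⟨a, ha', b, hb', by rw [a3, zero_smul, zero_add, pow_succ]; rfl, by
        rw [a4, zero_smul, zero_add, pow_succ]; rfl⟩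
  obtain ⟨a, -, b, -, rfl, rfl⟩ := k _ le_rfl
  exact ⟨hn a, hn b⟩

omit hX [CharP F 2] in
theorem exists_x {k : ℕ} (h2 : ∀ (s : F[X]) v, polar Q ((s * X ^ k) • g v) v = 0) (z t : V) (e : F)
    (hk : ∀ (p : F[X]) (c : F), p • z + c • t = 0 → X ^ (k + 1) ∣ p ∧ c * e = 0) :
    ∃ x, polar Q x z = Q z ∧ (∀ p : F[X], polar Q x ((X * p) • z) = polar Q (p • g z) z) ∧
      polar Q x t = e := by
  let E : F × F[X] × F →ₗ[F] V := (LinearMap.toSpanSingleton F V z).coprod
    (((LinearMap.toSpanSingleton F[X] V ((X : F[X]) • z)).restrictScalars F).coprod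
      (LinearMap.toSpanSingleton F V t))
  let ψ : Module.Dual F (F × F[X] × F) := (LinearMap.toSpanSingleton F F (Q z)).coprod
    ((Q.polarBilin.flip z ∘ₗ (LinearMap.toSpanSingleton F[X] V (g z)).restrictScalars F).coprod
      (LinearMap.toSpanSingleton F F e))
  have hE : ∀ a p c, E (a, p, c) = a • z + (p • (X : F[X]) • z + c • t) := fun _ _ _ => rfl
  have hψ : ∀ a p c, ψ (a, p, c) = a * Q z + (polar Q (p • g z) z + c * e) := fun _ _ _ => rfl
  obtain ⟨φ, hφ⟩ : ψ ∈ E.dualMap.range := by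
    rw [LinearMap.range_dualMap_eq_dualAnnihilator_ker, Submodule.mem_dualAnnihilator]
    rintro ⟨a, p, c⟩ (h : E _ = 0)
    obtain ⟨⟨q, hq⟩, h3⟩ := hk (X * p + C a) c (by rw [← h, hE, add_smul, C_sm]; module)
    have h4 : a = 0 := by simpa [pow_succ', mul_assoc] using congrArg (coeff · 0) hq
    rw [h4, C_0, add_zero, pow_succ', mul_assoc] at hq
    rw [hψ, h4, h3, mul_left_cancel₀ X_ne_zero hq, mul_comm (X ^ k), h2]
    simp
  obtain ⟨x, hx⟩ := exists_polar_eq hQ φ
  replace hφ : ∀ m, polar Q x (E m) = ψ m := fun m => (hx _).trans (LinearMap.congr_fun hφ m)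
  exact ⟨x, by simpa [hE, hψ] using hφ (1, 0, 0), fun p => by
    simpa [hE, hψ, mul_comm X, mul_smul] using hφ (0, p, 0), by simpa [hE, hψ] using hφ (0, 0, 1)⟩

variable (hi : ∀ U : Submodule F V, (∀ x ∈ U, g x ∈ U) → Nondeg Q U → U = ⊥ ∨ U = ⊤)
include hi

theorem good_cyc {π : F[X]} (hπ : Prime π) {k : ℕ} (h0 : ∀ v : V, π ^ (k + 1) • v = 0) {s : F[X]}
    {x : V} (hx : polar Q ((s * π ^ k) • g x) x ≠ 0) : Good g := by
  let I : Ideal F[X] :=
    { carrier := {b | ∀ s : F[X], polar Q ((s * b) • g x) x = 0}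
      add_mem' := fun ha hb s => by rw [mul_add, add_smul, polar_add_left, ha, hb, add_zero]
      zero_mem' := fun s => by simp
      smul_mem' := fun c b hb s => by rw [smul_eq_mul, ← mul_assoc, hb] }
  have hI : ∀ b ∈ I, ∀ v : V, b • v = 0 := fun b hb v => by
    obtain ⟨c, rfl⟩ := pow_dvd_of_mem hπ (I := I) (fun s => by simp [mul_smul, h0]) (fun h => hx (h s)) hb
    rw [mul_comm, mul_smul, h0, smul_zero]
  have e3 : ∀ p : F[X], polar Q (p • x) (g x) = polar Q (p • g x) x := fun p => by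
    rw [s_adj hX, polar_comm]
  have hU : Nondeg Q (LinearMap.range (cy g x)) := by
    rintro _ ⟨⟨a, b⟩, rfl⟩ h
    have h1 : b ∈ I := fun s => by
      simpa [cy_apply, s_nf hX, s_alt hX, e3, mul_comm] using h _ (mem_cy x s 0)
    have h2 : a ∈ I := fun s => by
      simpa [cy_apply, s_nf hX, hI b h1, mul_comm] using h _ (mem_cy x 0 s)
    rw [cy_apply, hI a h2, hI b h1, add_zero]
  have hT := (hi _ (cy_inv hX x) hU).resolve_left fun h => hx (by
    rw [show x = 0 from h.le (self_mem_cy x)]; simp)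
  obtain ⟨h, h1, h2, h3⟩ := core hX hQ (y := x) rfl (fun _ => rfl) (by simp [hT])
  refine ⟨h, h1, h2, fun v hv => ?_⟩
  obtain ⟨⟨a, b⟩, rfl⟩ := LinearMap.range_eq_top.1 hT v
  have a1 : ∀ a b : F[X], h (a • x + b • g x) = b • x + a • g x := fun a b => by
    simpa using h3 a b 0 0
  rw [cy_apply, a1] at hv
  have a2 : (a - b) • g x = (a - b) • x := by linear_combination (norm := module) hv
  have a3 : (a - b) • x = 0 := hU _ (by simpa using mem_cy (g := g) x (a - b) 0) (by
    rintro _ ⟨⟨c, d⟩, rfl⟩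
    rw [cy_apply, polar_add_left, s_nf hX, s_alt hX, ← a2, ← s_comm hX, ← s_comm hX, O.map_polar,
      s_nf hX, s_alt hX, add_zero])
  refine ⟨b • x + (0 : F[X]) • g x, ?_⟩
  rw [a1, cy_apply]
  linear_combination (norm := module) -a3 - b • two_sm (F := F) x

theorem good_two {n : ℕ} (hn : ∀ v, ((g.lin + 1) ^ (n + 1)) v = 0)
    (hB : ∀ v, polar Q (((g.lin + 1) ^ n) v) v = 0) {x z : V} (h1 : polar Q x z = Q z)
    (h2 : ∀ p : F[X], polar Q x ((X * p) • z) = polar Q (p • g z) z)
    (h3 : polar Q x (((g.lin + 1) ^ n) z) ≠ 0) : Good g := by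
  have hxy : polar Q (((g.lin + 1) ^ n) x) (x + z) ≠ 0 := by
    have := hB (x + z)
    rw [map_add, polar_add_left, polar_add_right _ (((g.lin + 1) ^ n) z), hB z, add_zero,
      polar_comm _ (((g.lin + 1) ^ n) z)] at this
    rwa [CharTwo.add_eq_zero.1 this]
  have hf := @free _ _ _ _ _ _ _ _ _ _ hX _ _ hn x (x + z) hB hxy
  have hT := (hi (LinearMap.range (cy g x) ⊔ LinearMap.range (cy g (x + z))) (fun w hw => by
    obtain ⟨a, ha, b, hb, rfl⟩ := Submodule.mem_sup.1 hw
    rw [map_add]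
    exact Submodule.add_mem_sup (cy_inv hX x a ha) (cy_inv hX _ b hb)) fun w hw h => by
      obtain ⟨a, ha, b, hb, rfl⟩ := Submodule.mem_sup.1 hw
      obtain ⟨rfl, rfl⟩ := hf ha hb h
      exact add_zero _).resolve_left fun h => h3 (by
        rw [show x = 0 from h.le (Submodule.mem_sup_left (self_mem_cy x))]; simp)
  obtain ⟨h, a1, a2, a3⟩ := core hX hQ (x := x) (y := x + z) (by
    rw [Q_add, h1, add_assoc, CharTwo.add_self_eq_zero, add_zero]) (fun p => by
      have := h2 p
      rw [mul_smul, hX, polar_add_right, O.polar_apply_right g⁻¹, inv_inv, ← s_adj hX, s_comm hX,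
        polar_comm] at this
      simp only [map_add, smul_add, polar_add_left, polar_add_right]
      linear_combination -this - polar Q (p • g z) z * CharTwo.two_eq_zero (R := F)) hT
  refine ⟨h, a1, a2, fun v hv => ?_⟩
  obtain ⟨_, ⟨⟨a, b⟩, rfl⟩, _, ⟨⟨c, d⟩, rfl⟩, rfl⟩ := Submodule.mem_sup.1 (hT.ge (Submodule.mem_top (x := v)))
  rw [cy_apply, cy_apply, a3] at hv
  have a4 := (hf (mem_cy x (d - a) (c - b)) (mem_cy _ (b - c) (a - d)) (by
    convert Submodule.zero_mem _ using 1
    linear_combination (norm := module) hv)).2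
  refine ⟨a • x + b • g x + ((0 : F[X]) • (x + z) + (0 : F[X]) • g (x + z)), ?_⟩
  rw [a3, cy_apply, cy_apply]
  linear_combination (norm := module) a4 - a • two_sm (F := F) x - b • two_sm (F := F) (g x)

theorem good_nil {k : ℕ} (h0 : ∀ v : V, (X ^ (k + 1) : F[X]) • v = 0)
    (h1 : ∃ v : V, (X ^ k : F[X]) • v ≠ 0) (h2 : ∀ (s : F[X]) v, polar Q ((s * X ^ k) • g v) v = 0) :
    Good g := by
  have hN : ∀ v, (g.lin + 1) v = g v + v := fun _ => rfl
  have hz : ∀ z : V, (X ^ k : F[X]) • z ≠ 0 → ∀ p : F[X], p • z = 0 → X ^ (k + 1) ∣ p := fun z hz p hp =>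
    pow_dvd_of_mem prime_X (I := LinearMap.ker (LinearMap.toSpanSingleton F[X] V z)) (h0 z) hz hp
  have hs : ∀ (p : F[X]) v, (g.lin + 1) (p • v) = p • (g.lin + 1) v := fun p v => by
    rw [hN, hN, s_comm hX, smul_add]
  have hNN : ∀ v, (g.lin + 1) ((g.lin + 1) v) = (X : F[X]) • g v := fun v => by
    rw [hN, hN, map_add, g_g hX]
    linear_combination (norm := module) two_sm (F := F) v + two_sm (F := F) (g v)
  have hj : ∀ j v, ((g.lin + 1) ^ (2 * j)) v = (g ^ j) ((X ^ j : F[X]) • v) := fun j => by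
    induction j with
    | zero => simp
    | succ j ih => intro v; rw [mul_add, pow_add, Module.End.mul_apply, mul_one, pow_two,
        Module.End.mul_apply, hNN, ih, pow_succ g, O.mul_apply, s_comm hX, ← mul_smul, pow_succ]
  have hf : ∀ w, (g.lin + 1) w = 0 → (g ^ k) w = w := fun w hw =>
    pow_mem (show g ∈ MulAction.stabilizer (O Q) w from
      (eq_neg_of_add_eq_zero_left hw).trans (neg_eq_of_add_eq_zero_left (vadd_self (F := F) w))) k
  by_cases he : ∀ v, (g.lin + 1) ((X ^ k : F[X]) • v) = 0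
  · have hT : ∀ v, ((g.lin + 1) ^ (2 * k)) v = (X ^ k : F[X]) • v := fun v => by rw [hj, hf _ (he v)]
    obtain ⟨q, hq, hq'⟩ : ∃ q : V → F, (∀ u v, q (u + v) = q u + q v + polar Q ((X ^ k : F[X]) • u) v) ∧
        ∀ x z, polar Q x z = Q z → (∀ p : F[X], polar Q x ((X * p) • z) = polar Q (p • g z) z) →
          polar Q x ((X ^ k : F[X]) • z) = q z := by
      rcases k with _ | k
      · exact ⟨Q, fun u v => by simp [Q_add], fun x z h _ => by simpa using h⟩
      · refine ⟨fun v => polar Q ((X ^ k : F[X]) • g v) v, fun u v => ?_, fun x z _ h => by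
          rw [pow_succ', h]⟩
        simp only [map_add, smul_add, polar_add_left, polar_add_right, pow_succ, mul_smul, hX]
        rw [s_adj hX _ (g⁻¹ u), O.polar_apply_left g⁻¹, inv_inv, s_comm hX, polar_comm Q u]
        ring
    obtain ⟨u, hu⟩ := h1
    obtain ⟨v, hv⟩ := exists_polar_ne_zero hQ hu
    obtain ⟨z, a1, a2⟩ : ∃ z, (X ^ k : F[X]) • z ≠ 0 ∧ q z ≠ 0 := by
      by_contra! h
      have := hq u v
      rw [h u hu, h v fun e => hv (by rw [s_adj hX, e, polar_zero_right]), h (u + v) fun e => hv (by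
        simpa [s_alt hX] using congrArg (polar Q · v) e)] at this
      exact hv (by simpa using this.symm)
    obtain ⟨x, b1, b2, -⟩ := exists_x hQ h2 z 0 0 fun p c h => ⟨hz z a1 p (by simpa using h), mul_zero c⟩
    exact good_two hX hQ hi (n := 2 * k) (fun v => by rw [pow_succ', Module.End.mul_apply, hT, he])
      (fun v => by rw [hT, s_alt hX]) b1 b2 (by rwa [hT, hq' x z b1 b2])
  · obtain ⟨z, a1⟩ := not_forall.1 he
    have a2 : ∀ v, (g.lin + 1) ((g.lin + 1) ((X ^ k : F[X]) • v)) = 0 := fun v => by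
      rw [hNN, s_comm hX, ← mul_smul, ← pow_succ', h0]
    have hT : ∀ v, ((g.lin + 1) ^ (2 * k + 1)) v = (g.lin + 1) ((X ^ k : F[X]) • v) := fun v => by
      rw [pow_succ, Module.End.mul_apply, hj, ← hs, hf _ (a2 v)]
    obtain ⟨x, b1, b2, b3⟩ := exists_x hQ h2 z ((g.lin + 1) ((X ^ k : F[X]) • z)) 1 fun p c h => by
      obtain ⟨q, rfl⟩ := hz ((g.lin + 1) z) (by rwa [← hs]) p (by
        simpa only [map_add, map_smul, a2, smul_zero, add_zero, map_zero, hs p] using
          congrArg (fun w => (g.lin + 1) w) h)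
      rw [mul_comm, mul_smul, h0, smul_zero, zero_add, smul_eq_zero] at h
      exact ⟨dvd_mul_right _ _, by simp [h.resolve_right a1]⟩
    refine good_two hX hQ hi (n := 2 * k + 1) (fun v => by rw [pow_succ', Module.End.mul_apply, hT, a2])
      (fun v => ?_) b1 b2 (by rw [hT, b3]; exact one_ne_zero)
    rw [hT, hN, polar_add_left, s_alt hX, s_comm hX, ← one_mul (X ^ k), h2, add_zero]

theorem good_ind (hp : ∃ p : F[X], p ≠ 0 ∧ ∀ v : V, p • v = 0) : Good g := by
  rcases subsingleton_or_nontrivial V with hV | hV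
  · exact ⟨1, one_mul _, O.ext fun _ => Subsingleton.elim _ _, fun v _ => ⟨v, Subsingleton.elim _ _⟩⟩
  obtain ⟨π, hπ, w, hw, h⟩ : ∃ π : F[X], Prime π ∧ ∃ w : V, w ≠ 0 ∧ π • w = 0 := by
    obtain ⟨p, h0, h⟩ := hp
    induction p using UniqueFactorizationMonoid.induction_on_prime with
    | h₁ => exact absurd rfl h0
    | h₂ p hu =>
      obtain ⟨v, hv⟩ := exists_ne (0 : V)
      exact absurd ((hu.smul_eq_zero).1 (h v)) hv
    | h₃ a p ha hp ih =>
      by_contra! hc
      exact absurd (ih ha fun v => by_contra fun e => hc p hp _ e (by rw [← mul_smul, h])) (by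
        push Not; exact hc)
  obtain ⟨n, hn1, hn⟩ := ((Filter.eventually_ge_atTop 1).and
    (LinearMap.eventually_isCompl_ker_pow_range_pow (Algebra.lsmul F F V π))).exists
  rw [← map_pow] at hn
  have h1 : ∃ n, ∀ v : V, π ^ n • v = 0 := ⟨n, fun v => ((hi (LinearMap.ker (Algebra.lsmul F F V (π ^ n)))
    (fun x (hx : π ^ n • x = 0) => show π ^ n • g x = 0 by rw [← s_comm hX, hx, map_zero])
    fun x (hx : π ^ n • x = 0) hh => eq_zero_of_polar hQ fun y => by
      obtain ⟨a, ha, _, ⟨b, rfl⟩, rfl⟩ := Submodule.mem_sup.1 (hn.sup_eq_top.ge (Submodule.mem_top (x := y)))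
      rw [polar_add_right, pc (hh a ha), zero_add]
      exact (s_adj hX _ _ _).symm.trans (by rw [hx, polar_zero_left])).resolve_left fun e => hw
        (e.le (show π ^ n • w = 0 by
          rw [← Nat.sub_add_cancel hn1, pow_succ, mul_smul, h, smul_zero]))).ge Submodule.mem_top⟩
  classical
  obtain ⟨k, hk⟩ : ∃ k, Nat.find h1 = k + 1 := Nat.exists_eq_succ_of_ne_zero fun e => hw (by
    simpa [e] using Nat.find_spec h1 w)
  have h2 := hk ▸ Nat.find_spec h1
  have h3 := Nat.find_min h1 (m := k) (by omega)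
  by_cases h4 : ∀ (s : F[X]) v, polar Q ((s * π ^ k) • g v) v = 0
  swap
  · push Not at h4
    obtain ⟨s, x, hx⟩ := h4
    exact good_cyc hX hQ hi hπ h2 hx
  have h5 := pow_dvd_of_mem hπ (I := Module.annihilator F[X] V) (Module.mem_annihilator.2 h2)
    (Module.mem_annihilator.not.2 h3) (b := π ^ k * X) (Module.mem_annihilator.2 fun u =>
      eq_zero_of_polar hQ fun v => by
        have := h4 1 (u + v)
        simp only [map_add, smul_add, polar_add_left, polar_add_right, h4] at this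
        rw [mul_smul, hX, smul_add, polar_add_left, s_adj hX _ (g⁻¹ u), O.polar_apply_left g⁻¹, inv_inv,
          s_comm hX, polar_comm Q u]
        simpa [add_comm] using this)
  rw [pow_succ, mul_dvd_mul_iff_left (pow_ne_zero _ hπ.ne_zero)] at h5
  obtain ⟨c, hc⟩ := h5
  obtain ⟨d, hd⟩ := (hπ.irreducible.associated_of_dvd irreducible_X ⟨c, hc⟩).symm.dvd
  refine good_nil hX hQ hi (k := k) (fun v => by rw [hc, mul_pow, mul_comm, mul_smul, h2, smul_zero])
    (not_forall.1 fun e => h3 fun v => by rw [hd, mul_pow, mul_comm, mul_smul, e, smul_zero]) fun s v => ?_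
  rw [hc, mul_pow, mul_comm (π ^ k), ← mul_assoc, h4]

omit hX hQ hi [AddCommGroup V] [Module F V] [Module F[X] V] [IsScalarTower F F[X] V]
  [FiniteDimensional F V] in
theorem good_all (n : ℕ) : ∀ (V : Type u) [AddCommGroup V] [Module F V] [FiniteDimensional F V]
    (Q : QuadraticForm F V), Q.polarBilin.Nondegenerate → finrank F V = n → ∀ g : O Q, Good g := by
  induction n using Nat.strong_induction_on with
  | _ n ih =>
  intro V _ _ _ Q hQ hn g
  by_cases hi : ∀ U : Submodule F V, (∀ x ∈ U, g x ∈ U) → Nondeg Q U → U = ⊥ ∨ U = ⊤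
  · let _ : Module F[X] V := Module.compHom V (aeval (R := F) (g.lin + g⁻¹.lin)).toRingHom
    have h : ∀ (p : F[X]) (v : V), p • v = aeval (g.lin + g⁻¹.lin) p v := fun _ _ => rfl
    have : IsScalarTower F F[X] V := IsScalarTower.of_algebraMap_smul fun a v => by simp [h]
    exact good_ind (fun v => by simp [h]) hQ hi ⟨_, (LinearMap.charpoly_monic _).ne_zero, fun v => by
      rw [h, LinearMap.aeval_self_charpoly]; rfl⟩
  push Not at hi
  obtain ⟨U, h1, hU, h2, h3⟩ := hi
  obtain ⟨⟨a, b⟩, rfl⟩ : ∃ p, sO hQ hU p = g := ⟨_, sO_rO hQ hU h1⟩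
  obtain ⟨c, c1, c2, c3⟩ := ih _ (hn ▸ Submodule.finrank_lt h3) U _ hU.restrict rfl a
  obtain ⟨d, d1, d2, d3⟩ := ih _ (by
    have := finrank_perp hQ U
    have := Submodule.one_le_finrank_iff.2 h2
    omega) _ _ (hU.perp hQ).restrict rfl b
  refine ⟨sO hQ hU (c, d), by rw [← map_mul, Prod.mk_mul_mk, c1, d1]; exact map_one _, by
    rw [← map_inv, ← map_mul, ← map_mul, ← map_inv]; exact congrArg _ (Prod.ext c2 d2), fun v hv => ?_⟩
  obtain ⟨x, hx, y, hy, rfl⟩ := hU.exists_decomp hQ v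
  obtain ⟨e1, e2⟩ := Prod.ext_iff.1 ((Submodule.prodEquivOfIsCompl _ _ (hU.isCompl hQ)).injective
    (a₁ := (c ⟨x, hx⟩, d ⟨y, hy⟩)) (a₂ := (⟨x, hx⟩, ⟨y, hy⟩))
    ((sO_apply hQ hU (c, d) ⟨x, hx⟩ ⟨y, hy⟩).symm.trans hv))
  obtain ⟨z, hz⟩ := c3 _ e1
  obtain ⟨w, hw⟩ := d3 _ e2
  refine ⟨z + w, ?_⟩
  rw [sO_apply, ← show (c z : V) - z = x from congrArg Subtype.val hz,
    ← show (d w : V) - w = y from congrArg Subtype.val hw]
  abel

omit hX hi [Module F[X] V] [IsScalarTower F F[X] V] in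
theorem exists_inv_rk (g : O Q) : ∃ h : O Q, h * g * h⁻¹ = g⁻¹ ∧ 2 * h.rk = finrank F V := by
  obtain ⟨h, h1, h2, h3⟩ := good_all _ V Q hQ rfl g
  refine ⟨h, h2, ?_⟩
  have : h.fix = h.mov := le_antisymm (fun v hv => O.mem_mov.2 (h3 v (O.mem_fix.1 hv))) fun v hv => by
    obtain ⟨w, rfl⟩ := O.mem_mov.1 hv
    rw [O.mem_fix, map_sub, ← O.mul_apply, h1, O.one_apply, sub_eq_sub_iff_add_eq_add,
      vadd_self (F := F), vadd_self (F := F)]
  rw [← h.rk_add_finrank_fix, this, two_mul]; rfl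

end H93.FS
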