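import Cfsg.Agent.H93.FS10
import Cfsg.Agent.H54.SpIso

/-! All Frobenius–Schur indicators of the symplectic and orthogonal groups in characteristic two
are `1`. -/

set_option autoImplicit false

namespace H93.FS

open H56 H60 QuadraticMap Module Cfsg H28 H30

/-- all indicators are one -/
def AllOne (G : Type*) [Group G] : Prop :=
  ∀ χ, IsIrrCharacter G χ → (Nat.card G : ℂ)⁻¹ * ∑ᶠ s : G, χ (s * s) = 1

theorem allOne_iff {G : Type*} [Group G] [Fintype G] :
    AllOne G ↔ ∀ χ, IsIrrCharacter G χ → fsInd χ = 1 := by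
  simp only [AllOne, finsum_eq_sum_of_fintype, fsInd]

theorem AllOne.of_equiv {G H : Type*} [Group G] [Group H] (h : AllOne H) (e : H ≃* G) : AllOne G :=
  fun χ hχ => by
    rw [← h _ (Cfsg.IsIrrCharacter.comp_mulEquiv hχ e), Nat.card_congr e.toEquiv,
      ← finsum_comp_equiv e.toEquiv]
    simp

theorem allOne_of {G : Type*} [Group G] [Finite G] (hN : NQ (MonoidHom.snd G ℤˣ))
    (hr : ∀ g : G, ∃ h, h * g * h⁻¹ = g⁻¹) : AllOne G := by
  have := Fintype.ofFinite G
  exact allOne_iff.2 fun χ hχ => fsInd_eq_one hN (fun g => isConj_iff.2 (hr g)) hχ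

theorem mul_deg_le {G : Type*} [Group G] [Fintype G] {χ ψ : G → ℂ} (hχ : IsCharacter G χ)
    (hψ : IsIrrCharacter G ψ) {n : ℕ} (hn : classInner χ ψ = n) : n * charDegree ψ ≤ charDegree χ := by
  have := Fintype.ofFinite (IrrCharacter G)
  obtain ⟨a, ha, e⟩ := Cfsg.IsCharacter.exists_nat_coeffs hχ
  have h1 : charDegree χ = ∑ φ : IrrCharacter G, a φ * charDegree φ.1 := charDegree_eq (by
    rw [e, Finset.sum_apply, Nat.cast_sum]
    exact Finset.sum_congr (by congr!) fun φ _ => by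
      simp [Cfsg.IsCharacter.cast_charDegree (Cfsg.IsIrrCharacter.isCharacter φ.2)])
  have h2 : n = a ⟨ψ, hψ⟩ := by exact_mod_cast hn.symm.trans (ha ⟨ψ, hψ⟩)
  rw [h1, h2]
  exact Finset.single_le_sum (f := fun φ : IrrCharacter G => a φ * charDegree φ.1)
    (fun _ _ => Nat.zero_le _) (Finset.mem_univ (⟨ψ, hψ⟩ : IrrCharacter G))

theorem AllOne.of_index_two {G : Type*} [Group G] [Finite G] (h : AllOne G) {N : Subgroup G}
    (hN : N.index = 2) (hr : ∀ g : N, ∃ h, h * g * h⁻¹ = g⁻¹) : AllOne N := by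
  have := Fintype.ofFinite G
  have := Fintype.ofFinite N
  refine allOne_iff.2 fun ψ hψ => ?_
  obtain ⟨χ, hχ, h0⟩ := H32.exists_irr_over hψ
  have hχ' := Cfsg.IsIrrCharacter.isCharacter hχ
  have hψ' := Cfsg.IsIrrCharacter.isCharacter hψ
  obtain ⟨n, hn⟩ := Cfsg.IsCharacter.classInner_nat (Cfsg.IsCharacter.restrict hχ' N) hψ'
  have h1 := mul_deg_le (Cfsg.IsCharacter.restrict hχ' N) hψ hn
  have h2 := mul_deg_le (Cfsg.IsCharacter.indFun hψ') hχ (n := n) (by
    rw [H33.classInner_indFun_left _ _ (Cfsg.IsCharacter.isClassFunction hχ'), ← classInner_conj_symm, hn]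
    simp)
  rw [Cfsg.IsCharacter.charDegree_indFun hψ', hN] at h2
  rw [charDegree_restrict] at h1
  have h3 := Cfsg.IsIrrCharacter.charDegree_pos hψ
  obtain rfl : n = 1 := by
    rcases n with _ | _ | n
    · exact absurd (by simpa using hn) h0
    · rfl
    · nlinarith
  have h4 := allOne_iff.1 h χ hχ
  rw [← fsInd_eq_of_odd_mult hχ (h4.trans_ne one_ne_zero) N.subtype hψ ?_ hn odd_one, h4]
  rw [Ne, fsInd_eq_zero_iff hψ]
  rintro ⟨g, hg⟩
  refine hg (Complex.conj_eq_iff_im.1 ?_)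
  rw [← Cfsg.IsCharacter.apply_inv hψ', ← Cfsg.IsClassFunction.eq_of_isConj
    (Cfsg.IsCharacter.isClassFunction hψ') (isConj_iff.2 (hr g))]

variable {F V : Type*} [Field F] [Finite F] [CharP F 2] [AddCommGroup V] [Module F V]
  [FiniteDimensional F V] {Q : QuadraticForm F V}

omit [FiniteDimensional F V] in
theorem exists_sqrt (s : H54.Isom Q.polarBilin) :
    ∃ l : V →ₗ[F] F, ∀ v, l v * l v = Q (s.1 v) + Q v := by
  have h : ∀ a : F, (frobeniusEquiv F 2).symm (a * a) = a := fun a => by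
    rw [RingEquiv.symm_apply_eq, frobeniusEquiv_apply, frobenius_def, pow_two]
  refine ⟨⟨⟨fun v => (frobeniusEquiv F 2).symm (Q (s.1 v) + Q v), fun u v => ?_⟩, fun c v => ?_⟩,
    fun v => ?_⟩
  · have : polar Q (s.1 u) (s.1 v) = polar Q u v := s.2 u v
    rw [← map_add (frobeniusEquiv F 2).symm, map_add s.1, Q_add Q u, Q_add Q (s.1 u), this]
    congr 1
    linear_combination polar Q u v * CharTwo.two_eq_zero (R := F)
  · simp only [map_smul s.1, Q_smul, ← mul_add, map_mul _ (c * c), h]; rfl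
  · change (frobeniusEquiv F 2).symm _ * (frobeniusEquiv F 2).symm _ = _
    rw [← map_mul, h]

variable (hQ : Q.polarBilin.Nondegenerate)
include hQ

theorem allOne_O : AllOne (O Q) := allOne_of (nq_O hQ) fun g => (exists_inv_rk hQ g).imp fun _ h => h.1

theorem allOne_Omega (h4 : finrank F V ≠ 4) (h2 : 2 ≤ finrank F V) (h : 4 ∣ finrank F V) :
    AllOne (commutator (O Q)) :=
  (allOne_O hQ).of_index_two (index_commutator_of_char_two hQ CharTwo.two_eq_zero
    (not_isExc_of_finrank h4) h2) fun g => by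
    obtain ⟨k, h1, h3⟩ := exists_inv_rk hQ g.1
    exact ⟨⟨k, (mem_commutator_iff_of_char_two hQ CharTwo.two_eq_zero (not_isExc_of_finrank h4) k).2
      (even_iff_two_dvd.2 (by omega))⟩, Subtype.ext h1⟩

theorem sp_real (s : H54.Isom Q.polarBilin) : ∃ h, h * s * h⁻¹ = s⁻¹ := by
  obtain ⟨l, hl⟩ := exists_sqrt s
  obtain ⟨ψ, hψ⟩ : l ∈ (s.1.toLinearMap - LinearMap.id).dualMap.range := by
    rw [LinearMap.range_dualMap_eq_dualAnnihilator_ker, Submodule.mem_dualAnnihilator]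
    intro w (hw : s.1 w - w = 0)
    rw [← mul_self_eq_zero, hl, sub_eq_zero.1 hw, CharTwo.add_self_eq_zero]
  replace hψ : ∀ v, ψ (s.1 v - v) = l v := LinearMap.congr_fun hψ
  have hp : (Q + linMulLin ψ ψ).polarBilin = Q.polarBilin := LinearMap.ext₂ fun u v => by
    simp only [polarBilin_apply_apply, polar, add_apply, linMulLin_apply, map_add]
    linear_combination ψ u * ψ v * CharTwo.two_eq_zero (R := F)
  obtain ⟨h, h1, -⟩ := exists_inv_rk (Q := Q + linMulLin ψ ψ) (hp ▸ hQ) ⟨s.1, fun v => by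
    have := hψ v
    simp only [add_apply, linMulLin_apply, map_sub] at this ⊢
    linear_combination hl v + (ψ (s.1 v) - ψ v + l v) * this +
      (Q (s.1 v) + ψ (s.1 v) * ψ v - ψ v * ψ v) * CharTwo.two_eq_zero (R := F)⟩
  exact ⟨⟨h.1, fun u v => by rw [← hp]; exact h.map_polar u v⟩,
    Subtype.ext (congrArg (fun x : O (Q + linMulLin ψ ψ) => x.1) h1)⟩

theorem nq_Sp : NQ (MonoidHom.snd (H54.Isom Q.polarBilin) ℤˣ) := by
  have hQ' : (Q.prod (hypQ F)).polarBilin.Nondegenerate := nondegenerate_prod hQ (hypQ_nondegenerate F)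
  have k : ∀ g : OS (Q.prod (hypQ F)) (0, 1, 1) 0, ∀ v,
      g.1.1 (v, 0) = ((g.1.1 (v, 0)).1, 0) + (g.1.1 (v, 0)).2.1 • (0, 1, 1) := fun g v => by
    have := pfix g.2.1 (v, 0)
    simp only [polar_prod, polar_hypQ, polar_zero_left, one_mul, zero_add, Prod.fst_zero, Prod.snd_zero,
      add_zero, CharTwo.add_eq_zero] at this
    exact Prod.ext (by simp) (Prod.ext (by simp) (by simp [this]))
  have k2 : ∀ g : OS (Q.prod (hypQ F)) (0, 1, 1) 0, ∀ u v,
      polar Q (g.1.1 (u, 0)).1 (g.1.1 (v, 0)).1 = polar Q u v := fun g u v => by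
    have := g.1.1.map_polar (u, 0) (v, 0)
    rw [k g u, k g v] at this
    simpa [polar_prod, CharTwo.add_self_eq_zero] using this
  have : Finite V := Module.finite_of_finite F
  have : Finite (H54.Isom Q.polarBilin) :=
    Finite.of_injective (fun g => (g.1 : V → V)) fun _ _ h => Subtype.ext (DFunLike.coe_injective h)
  refine NQ.of_surj (nq_OS _ _ _ hQ' rfl (0, 1, 1) (Or.inr (by simp)) 0) (MonoidHom.mk' (fun g =>
    (⟨LinearEquiv.ofInjectiveEndo (LinearMap.fst F _ _ ∘ₗ g.1.1.lin ∘ₗ LinearMap.inl F _ _)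
      ((injective_iff_map_eq_zero _).2 fun u (hu : (g.1.1 (u, 0)).1 = 0) => eq_zero_of_polar hQ
        fun v => by rw [← k2 g, hu, polar_zero_left]), k2 g⟩, g.1.2)) fun a b =>
    Prod.ext (Subtype.ext (LinearEquiv.ext fun v => ?_)) rfl) (fun _ => rfl) fun ⟨s, e⟩ => ?_
  · change (a.1.1 (b.1.1 (v, 0))).1 = (a.1.1 ((b.1.1 (v, 0)).1, 0)).1
    conv_lhs => rw [k b v, map_add, map_smul, a.2.1]
    simp
  obtain ⟨l, hl⟩ := exists_sqrt s
  obtain ⟨g, hg⟩ := witt_maps hQ' (W := V × F)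
    (LinearMap.id.prodMap (LinearMap.id.prod LinearMap.id))
    ((s.1.toLinearMap ∘ₗ LinearMap.fst F _ _).prod ((LinearMap.id.prod LinearMap.id) ∘ₗ
      (l.coprod LinearMap.id)))
    (fun a b h => Prod.ext (congrArg (·.1) h) (congrArg (·.2.1) h))
    (fun a b h => by
      have h1 : a.1 = b.1 := s.1.injective (congrArg (·.1) h)
      have h2 : l a.1 + a.2 = l b.1 + b.2 := congrArg (·.2.1) h
      exact Prod.ext h1 (by simpa [h1] using h2)) fun w => by
    change Q (s.1 w.1) + (l w.1 + w.2) * (l w.1 + w.2) = Q w.1 + w.2 * w.2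
    linear_combination hl w.1 + (Q (s.1 w.1) + l w.1 * w.2) * CharTwo.two_eq_zero (R := F)
  exact ⟨⟨(g, e), mem_OS_zero.2 (by simpa using hg (0, 1))⟩, Prod.ext (Subtype.ext
    (LinearEquiv.ext fun v => congrArg (·.1) (hg (v, 0)))) rfl⟩

theorem allOne_Isom : AllOne (H54.Isom Q.polarBilin) :=
  have : Finite V := Module.finite_of_finite F
  have : Finite (H54.Isom Q.polarBilin) :=
    Finite.of_injective (fun g => (g.1 : V → V)) fun _ _ h => Subtype.ext (DFunLike.coe_injective h)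
  allOne_of (nq_Sp hQ) (sp_real hQ)

omit hQ

theorem allOne_Sp (F : Type*) [Field F] [Fintype F] [CharP F 2] (n : ℕ) :
    AllOne (Matrix.symplecticGroup (Fin n) F) :=
  (H54.nonempty_isom_equiv_sp (H58.qPlus_nondeg n F) (fun v => pself2 v) (Fin n)
    (by simp [two_mul])).elim (allOne_Isom (H58.qPlus_nondeg n F)).of_equiv

theorem s4940 (F : Type*) [Field F] [Fintype F] [CharP F 2] (n : ℕ)
    (χ : IrrCharacter (Matrix.symplecticGroup (Fin n) F)) :
    ∑ᶠ g : Matrix.symplecticGroup (Fin n) F, χ.1 (g * g) =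
      Nat.card (Matrix.symplecticGroup (Fin n) F) :=
  ((inv_mul_eq_one₀ (Nat.cast_ne_zero.2 Nat.card_pos.ne')).1 (allOne_Sp F n χ.1 χ.2)).symm

theorem allOne_iso {ι : Type} [Fintype ι] [DecidableEq ι] {Q : QuadraticForm F (ι → F)}
    (hQ : Q.polarBilin.Nondegenerate) {q : (ι → F) → F} (h : ⇑Q = q) : AllOne (isometryGroup F q) :=
  (allOne_O hQ).of_equiv (toO Q h).symm

theorem allOne_Om {ι : Type} [Fintype ι] [DecidableEq ι] {Q : QuadraticForm F (ι → F)}
    (hQ : Q.polarBilin.Nondegenerate) {q : (ι → F) → F} (h : ⇑Q = q) {m : ℕ} (hm : 2 ≤ m)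
    (hι : Fintype.card ι = 4 * m) : AllOne (Omega F q) :=
  have : finrank F (ι → F) = 4 * m := by simp [hι]
  (allOne_Omega hQ (by omega) (by omega) ⟨m, this⟩).of_equiv (omegaEquiv Q h).symm

end H93.FS
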