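import Cfsg.Agent.H93.FS1
import Cfsg.Agent.H32.Gallagher

/-! Twisted indicators: fibre products, splitting of restrictions, Clifford theory. -/

set_option autoImplicit false
open Cfsg H28 H30 H32
open scoped ComplexConjugate

namespace H93.FS

variable {L L' : Type*} [Group L] [Group L']

/-- the twisted conjugate -/
noncomputable def tst {N : Subgroup L} [N.Normal] (t : L) (θ : N → ℂ) : N → ℂ :=
  fun u => conj (cj t θ u)

section
variable {N : Subgroup L} [N.Normal]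

theorem tst_irr [Finite L] {θ : N → ℂ} (hθ : IsIrrCharacter N θ) (t : L) :
    IsIrrCharacter N (tst t θ) := Cfsg.IsIrrCharacter.conj (isIrrCharacter_cj hθ t)

theorem tst_char [Finite L] {θ : N → ℂ} (hθ : IsCharacter N θ) (t : L) :
    IsCharacter N (tst t θ) := Cfsg.IsCharacter.conj (isCharacter_cj hθ t)

theorem classInner_tst [Fintype N] (t : L) (θ φ : N → ℂ) :
    classInner (tst t θ) (tst t φ) = classInner φ θ := by
  rw [← classInner_cj_cj t φ θ]
  exact classInner_conj_conj _ _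

theorem tst_tst {θ : N → ℂ} (hθ : IsClassFunction N θ) {t : L} (ht : t * t ∈ N) :
    tst t (tst t θ) = θ := by
  funext u
  have := congrFun (cj_of_mem hθ ht) u
  rw [cj_mul] at this
  simpa [tst, cj] using this

end

theorem TR.tst_eq {ε : L →* ℤˣ} {θ : ε.ker → ℂ} (h : TR ε θ) {t : L} (ht : ε t = -1) :
    tst t θ = θ := funext fun u => by rw [tst, h t ht, Complex.conj_conj]

theorem TR_of_tst {ε : L →* ℤˣ} {θ : ε.ker → ℂ} (hθ : IsClassFunction ε.ker θ) {t : L}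
    (ht : ε t = -1) (h : tst t θ = θ) : TR ε θ :=
  TR_of hθ ht fun u => by rw [← congrFun h u, tst, Complex.conj_conj]

/-- fibre product -/
def FP (ε : L →* ℤˣ) (ε' : L' →* ℤˣ) : Subgroup (L × L') :=
  (ε.comp (MonoidHom.fst L L')).eqLocus (ε'.comp (MonoidHom.snd L L'))

theorem mem_FP {ε : L →* ℤˣ} {ε' : L' →* ℤˣ} {x : L × L'} : x ∈ FP ε ε' ↔ ε x.1 = ε' x.2 := Iff.rfl

/-- sign on the fibre product -/
def fpE (ε : L →* ℤˣ) (ε' : L' →* ℤˣ) : FP ε ε' →* ℤˣ :=
  (ε.comp (MonoidHom.fst L L')).comp (FP ε ε').subtype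

theorem fpE_apply {ε : L →* ℤˣ} {ε' : L' →* ℤˣ} (x : FP ε ε') : fpE ε ε' x = ε x.1.1 := rfl

/-- the kernel of the fibre product -/
def fpK (ε : L →* ℤˣ) (ε' : L' →* ℤˣ) : (fpE ε ε').ker ≃* ε.ker × ε'.ker where
  toFun x := (⟨x.1.1.1, x.2⟩, ⟨x.1.1.2, (mem_FP.1 x.1.2).symm.trans x.2⟩)
  invFun y := ⟨⟨(y.1, y.2), (y.1.2 : ε y.1 = 1).trans (y.2.2 : ε' y.2 = 1).symm⟩, y.1.2⟩
  left_inv _ := rfl
  right_inv _ := rfl
  map_mul' _ _ := rfl

variable [Finite L] [Finite L'] {ε : L →* ℤˣ} {ε' : L' →* ℤˣ}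

theorem tw_fp (θ : ε.ker → ℂ) (θ' : ε'.ker → ℂ) {t : L} (ht : ε t = -1) {t' : L'}
    (ht' : ε' t' = -1) :
    tw (fpE ε ε') (fun u => θ (fpK ε ε' u).1 * θ' (fpK ε ε' u).2) = tw ε θ * tw ε' θ' := by
  have := Fintype.ofFinite ε.ker
  have := Fintype.ofFinite ε'.ker
  have := Fintype.ofFinite (fpE ε ε').ker
  rw [tw_eq' _ (t := ⟨(t, t'), ht.trans ht'.symm⟩) ht, tw_eq' θ ht, tw_eq' θ' ht',
    Nat.card_congr (fpK ε ε').toEquiv, Nat.card_prod, Nat.cast_mul, mul_inv, mul_mul_mul_comm,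
    Finset.sum_mul_sum, ← Fintype.sum_prod_type']
  congr 1
  exact Fintype.sum_equiv (fpK ε ε').toEquiv _ _ fun _ => rfl

theorem NQ.fp (h : NQ ε) (h' : NQ ε') : NQ (fpE ε ε') := by
  intro θ hθ hν
  obtain ⟨t, ht⟩ := exists_of_tw_ne (θ := θ) (by rw [hν]; norm_num)
  obtain ⟨φ, ψ, hφ, hψ, e⟩ := Cfsg.IsIrrCharacter.exists_prod
    (Cfsg.IsIrrCharacter.comp_mulEquiv hθ (fpK ε ε').symm)
  have e' : θ = fun u => φ (fpK ε ε' u).1 * ψ (fpK ε ε' u).2 := by
    funext u; rw [← congrFun e (fpK ε ε' u), MulEquiv.symm_apply_apply]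
  rw [e', tw_fp φ ψ ht ((mem_FP.1 t.2).symm.trans ht)] at hν
  rcases tw_cases hφ with a | a | a
  · rw [a] at hν; norm_num at hν
  · exact h' ψ hψ (by rwa [a, one_mul] at hν)
  · exact h φ hφ a

theorem tw_mul {θ φ : ε.ker → ℂ} (hθ : IsIrrCharacter ε.ker θ) (hφ : IsIrrCharacter ε.ker φ)
    (h1 : TR ε θ) (h2 : TR ε φ) (h : IsIrrCharacter ε.ker (θ * φ)) {t : L} (ht : ε t = -1) :
    tw ε (θ * φ) = tw ε θ * tw ε φ := by
  rw [← tw_fp θ φ ht ht]
  let f : L →* FP ε ε := ((MonoidHom.id L).prod (MonoidHom.id L)).codRestrict _ fun _ => rfl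
  refine (tw_eq_of_res (ε := fpE ε ε) f (fun _ => rfl) ht (Cfsg.IsIrrCharacter.comp_mulEquiv
    (Cfsg.IsIrrCharacter.prod hθ hφ) (fpK ε ε)) (fun s hs u => ?_) h).symm
  rw [map_mul, ← h1 s.1.1 hs, ← h2 s.1.2 ((mem_FP.1 s.2).symm.trans hs)]
  rfl

theorem exists_half {I : Type*} [Finite I] (s : I → I) (hs : ∀ i, s (s i) = i) (m : I → ℕ)
    (h1 : ∀ i, m (s i) = m i) (h2 : ∀ i, s i = i → Even (m i)) :
    ∃ m' : I → ℕ, ∀ i, m i = m' i + m' (s i) := by
  classical
  obtain ⟨n, ⟨e⟩⟩ := Finite.exists_equiv_fin I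
  refine ⟨fun i => if s i = i then m i / 2 else if e i < e (s i) then m i else 0, fun i => ?_⟩
  by_cases h : s i = i
  · obtain ⟨k, hk⟩ := h2 i h
    simp only [h, if_true]; omega
  · have h' : ¬ i = s i := fun x => h x.symm
    have h3 : e i ≠ e (s i) := fun x => h' (e.injective x)
    simp only [h, hs, h', if_false, h1]
    rcases lt_or_gt_of_ne h3 with a | a
    · simp [a, a.not_gt]
    · simp [a, a.not_gt]

/-- a character with indicator `-1` restricts to `δ + δ*` -/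
theorem spl (hN : NQ ε') (f : L' →* L) (h : ∀ g, ε (f g) = ε' g) {t : L'} (ht : ε' t = -1)
    {θ : ε.ker → ℂ} (hθ : IsIrrCharacter ε.ker θ) (hν : tw ε θ = -1) :
    ∃ δ, IsCharacter ε'.ker δ ∧ ∀ u, θ (kerMap f h u) = δ u + tst t δ u := by
  classical
  have := Fintype.ofFinite ε'.ker
  have h0 := TR_of_tw_ne hθ (by rw [hν]; norm_num)
  have hχ := Cfsg.IsCharacter.comp (Cfsg.IsIrrCharacter.isCharacter hθ) (kerMap f h)
  obtain ⟨m, hm, e⟩ := Cfsg.IsCharacter.exists_nat_coeffs hχ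
  let s : IrrCharacter ε'.ker → IrrCharacter ε'.ker := fun ψ => ⟨tst t ψ.1, tst_irr ψ.2 t⟩
  have hs : ∀ i, s (s i) = i := fun i =>
    Subtype.ext (tst_tst (Cfsg.IsIrrCharacter.isClassFunction i.2) (sq_mem ε' t))
  obtain ⟨m', hm'⟩ := exists_half s hs m (fun i => by
    have := classInner_tst t (fun u => θ (kerMap f h u)) i.1
    rw [(h0.comp f h).tst_eq ht, classInner_comm_of_nat (hm i)] at this
    exact_mod_cast (hm (s i)).symm.trans this) fun i hi => by
      by_contra ho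
      have h1 := TR_of_tst (Cfsg.IsIrrCharacter.isClassFunction i.2) ht (congrArg Subtype.val hi)
      exact hN _ i.2 ((tw_eq_of_odd f h ht hθ h0 i.2 h1 (hm i) (Nat.not_even_iff_odd.1 ho)).symm.trans hν)
  refine ⟨_, isCharacter_sum_irr m', fun u => ?_⟩
  rw [congrFun e u]
  simp only [tst, cj_sum, cj_smul, Finset.sum_apply, Pi.smul_apply, smul_eq_mul, map_sum, map_mul,
    Complex.conj_natCast, hm', Nat.cast_add, add_mul, Finset.sum_add_distrib]
  congr 1
  refine Fintype.sum_equiv (Function.Involutive.toPerm s hs) _ _ fun i => ?_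
  congr 1
  exact (congrFun (congrArg Subtype.val (hs i)) u).symm

theorem NQ.of_triv (h : ∀ u, ε u = 1 → u = 1) : NQ ε := by
  intro θ hθ hν
  have := Fintype.ofFinite ε.ker
  obtain ⟨t, ht⟩ := exists_of_tw_ne (θ := θ) (by rw [hν]; norm_num)
  have : Subsingleton ε.ker := ⟨fun a b => Subtype.ext ((h _ a.2).trans (h _ b.2).symm)⟩
  rw [tw_eq' θ ht, Fintype.sum_subsingleton _ 1, Nat.card_unique, Subsingleton.elim (⟨_, _⟩ : ε.ker) 1,
    Cfsg.IsIrrCharacter.apply_one_of_comm hθ fun a b => Subsingleton.elim _ _] at hν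
  norm_num at hν

/-- the untwisted case -/
theorem fsInd_eq_one {G : Type*} [Group G] [Fintype G] (hN : NQ (MonoidHom.snd G ℤˣ))
    (hr : ∀ g : G, IsConj g g⁻¹) {χ : G → ℂ} (hχ : IsIrrCharacter G χ) : fsInd χ = 1 := by
  let e : (MonoidHom.snd G ℤˣ).ker ≃* G :=
    { toFun := fun x => x.1.1, invFun := fun g => ⟨(g, 1), rfl⟩
      left_inv := fun x => Subtype.ext (Prod.ext rfl (x.2 : x.1.2 = 1).symm)
      right_inv := fun _ => rfl, map_mul' := fun _ _ => rfl }
  have := Fintype.ofFinite (MonoidHom.snd G ℤˣ).ker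
  have h1 : tw (MonoidHom.snd G ℤˣ) (fun x => χ (e x)) = fsInd χ := by
    rw [tw_eq' _ (t := (1, -1)) rfl, fsInd, Nat.card_congr e.toEquiv]
    congr 1
    exact Fintype.sum_equiv e.toEquiv _ _ fun x => by simp [e]
  have h2 := hN _ (Cfsg.IsIrrCharacter.comp_mulEquiv hχ e)
  rw [h1] at h2
  have h3 : fsInd χ ≠ 0 := by
    rw [Ne, fsInd_eq_zero_iff hχ]
    rintro ⟨g, hg⟩
    refine hg (Complex.conj_eq_iff_im.1 ?_)
    rw [← Cfsg.IsCharacter.apply_inv (Cfsg.IsIrrCharacter.isCharacter hχ),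
      ← Cfsg.IsClassFunction.eq_of_isConj (Cfsg.IsIrrCharacter.isClassFunction hχ) (hr g)]
  rcases fsInd_trichotomy hχ with a | a | a <;> simp_all

section Split
variable {H : Type*} [Group H]

/-- semidirect decomposition -/
structure Split (R : Subgroup L) (j : H →* L) : Prop where
  ex : ∀ g, ∃ h, g * (j h)⁻¹ ∈ R
  eq_one : ∀ h, j h ∈ R → h = 1

omit [Finite L] in
theorem Split.exists_retr {R : Subgroup L} [hR : R.Normal] {j : H →* L} (h : Split R j) :
    ∃ π : L →* H, (∀ g, g * (j (π g))⁻¹ ∈ R) ∧ (∀ x, π (j x) = x) ∧ ∀ r ∈ R, π r = 1 := by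
  choose p hp using h.ex
  have u : ∀ g x, g * (j x)⁻¹ ∈ R → p g = x := fun g x hx => by
    have := h.eq_one (p g * x⁻¹) (by
      have := R.mul_mem (R.inv_mem (hp g)) hx
      rwa [mul_inv_rev, inv_inv, mul_assoc, inv_mul_cancel_left, ← map_inv, ← map_mul] at this)
    exact mul_inv_eq_one.1 this
  refine ⟨MonoidHom.mk' p fun a b => u _ _ ?_, hp, fun x => u _ _ (by simp), fun r hr => u _ _ (by simpa)⟩
  have := R.mul_mem (hp a) (hR.conj_mem _ (hp b) (j (p a)))
  convert this using 1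
  simp only [map_mul]; group

/-- passing to the complement for a character with `R` in the kernel -/
theorem tw_eq_of_ker [Finite H] {R : Subgroup L} [R.Normal] (hR : R ≤ ε.ker) {j : H →* L}
    (hs : Split R j) {β : ε.ker → ℂ} (hβ : IsIrrCharacter ε.ker β) (h0 : tw ε β = -1)
    (hk : ∀ r (hr : r ∈ R), β ⟨r, hR hr⟩ = β 1) : ¬ NQ (ε.comp j) := by
  obtain ⟨π, h1, h2, h3⟩ := hs.exists_retr
  have hπ : ∀ g, (ε.comp j) (π g) = ε g := fun g => by
    have : ε (g * (j (π g))⁻¹) = 1 := hR (h1 g)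
    rw [map_mul, map_inv, mul_inv_eq_one] at this
    exact this.symm
  obtain ⟨t, ht⟩ := exists_of_tw_ne (θ := β) (by rw [h0]; norm_num)
  have hc := Cfsg.IsIrrCharacter.isCharacter hβ
  have hψ : IsIrrCharacter (ε.comp j).ker fun u => β (kerMap j (fun _ => rfl) u) := by
    refine Cfsg.IsCharacter.irr_of_comp (Cfsg.IsCharacter.comp hc _) (kerMap π hπ) ?_
    convert hβ using 2 with u
    have := apply_mul_of_mem_charKer ((Cfsg.IsCharacter.mem_charKer hc).2 (hk _ (h1 u)))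
      (kerMap j (fun _ => rfl) (kerMap π hπ u))
    rw [← this]
    exact congrArg β (Subtype.ext (by simp))
  intro hN
  exact hN _ hψ ((tw_eq_of_res j (fun _ => rfl) ((hπ t).trans ht) hβ
    (TR_of_tw_ne hβ (by rw [h0]; norm_num)) hψ).symm.trans h0)

/-- invariant linear character of order at most two -/
theorem clif_inv [Finite H] {R : Subgroup L} [hn : R.Normal] (hR : R ≤ ε.ker) {j : H →* L}
    (hs : Split R j) (lam : R →* ℂˣ) (h2 : ∀ r, lam r * lam r = 1)
    (hi : ∀ (g : L) (r : R), lam ⟨g * r * g⁻¹, hn.conj_mem _ r.2 g⟩ = lam r)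
    {θ : ε.ker → ℂ} (hθ : IsIrrCharacter ε.ker θ) (h0 : tw ε θ = -1)
    (hk : ∀ r : R, θ ⟨r, hR r.2⟩ = lam r * θ 1) : ¬ NQ (ε.comp j) := by
  obtain ⟨π, h1, h3, h4⟩ := hs.exists_retr
  let l : L →* ℂˣ := MonoidHom.mk' (fun g => lam ⟨_, h1 g⟩) fun a b => by
    rw [← hi (j (π a)) ⟨_, h1 b⟩, ← map_mul]
    congr 1
    refine Subtype.ext ?_
    simp only [map_mul, Subgroup.coe_mul]; group
  have hl : ∀ g, l g * l g = 1 := fun g => h2 _
  have hβ := Cfsg.IsIrrCharacter.mul_linear hθ (isCharacter_of_hom (l.comp ε.ker.subtype)) (by simp)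
  refine tw_eq_of_ker hR hs hβ ?_ fun r hr => ?_
  · have := Fintype.ofFinite L
    rw [← h0, tw_eq, tw_eq]
    simp [hl]
  · have : l r = lam ⟨r, hr⟩ := congrArg lam (Subtype.ext (by simp [h4 r hr]))
    have h5 := congrArg Units.val (h2 ⟨r, hr⟩)
    simp only [Pi.mul_apply, hk ⟨r, hr⟩, MonoidHom.comp_apply, Subgroup.coe_subtype, this,
      map_one, Units.val_one, Units.val_mul, OneMemClass.coe_one] at h5 ⊢
    linear_combination θ 1 * h5

end Split

/-- reduction to the inertia group -/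
theorem clif_red {R : Subgroup L} [hn : R.Normal] [Fintype R] (hR : R ≤ ε.ker) {ν : R → ℂ}
    (hν : IsIrrCharacter R ν) (hr : ∀ r, conj (ν r) = ν r) {θ : ε.ker → ℂ}
    (hθ : IsIrrCharacter ε.ker θ) (h0 : tw ε θ = -1)
    (hc : classInner (fun r : R => θ ⟨r, hR r.2⟩) ν ≠ 0) :
    ∃ ψ : (ε.comp (inertia ν).subtype).ker → ℂ, IsIrrCharacter _ ψ ∧ tw _ ψ = -1 ∧ ∃ c : ℂ,
      ∀ r : R, ψ ⟨⟨r, le_inertia (Cfsg.IsIrrCharacter.isClassFunction hν) r.2⟩, hR r.2⟩ = c * ν r := by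
  have := Fintype.ofFinite L
  have := Fintype.ofFinite ε.ker
  have := Fintype.ofFinite (R.subgroupOf ε.ker)
  have := Fintype.ofFinite ((inertia ν).subgroupOf ε.ker)
  have := Fintype.ofFinite (ε.comp (inertia ν).subtype).ker
  have hI := le_inertia (Cfsg.IsIrrCharacter.isClassFunction hν)
  have hTR := TR_of_tw_ne hθ (by rw [h0]; norm_num)
  obtain ⟨t, ht⟩ := exists_of_tw_ne (θ := θ) (by rw [h0]; norm_num)
  have hν' := isIrrCharacter_subgroupOf hR hν
  have hT := (inertia_subgroupOf hR ν).symm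
  have hNT : R.subgroupOf ε.ker ≤ (inertia ν).subgroupOf ε.ker := fun x hx => hI hx
  have hc' := hc
  rw [← classInner_res_subgroupOf hR] at hc'
  have hres : ∀ s, ε s = -1 → tst s (fun r : R => θ ⟨r, hR r.2⟩) = fun r : R => θ ⟨r, hR r.2⟩ :=
    fun s hs => funext fun r => congrFun (hTR.tst_eq hs) ⟨r, hR r.2⟩
  have hνs : ∀ s : L, tst s ν = cj s ν := fun s => funext fun r => hr _
  obtain ⟨t0, ht0⟩ : ∃ t0 : inertia ν, ε t0 = -1 := by
    have h1 : classInner (fun r : R => θ ⟨r, hR r.2⟩) (cj t ν) ≠ 0 := by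
      rw [← hνs, ← hres t ht, classInner_tst, Ne, classInner_eq_zero_comm]; exact hc
    rw [← classInner_res_subgroupOf hR] at h1
    obtain ⟨u, hu⟩ := mem_conjSet.1 (mem_conjSet_of_constituent hθ hν'
      (isIrrCharacter_subgroupOf hR (isIrrCharacter_cj hν t)) hc' h1)
    rw [cj_subgroupOf] at hu
    have : cj t ν = cj (u : L) ν := funext fun r => congrFun hu ⟨⟨r, hR r.2⟩, r.2⟩
    refine ⟨⟨_, cj_eq_cj_iff.1 this⟩, ?_⟩
    have : ε u = 1 := u.2
    simp [ht, this]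
  obtain ⟨ψ0, h1, h2, h3⟩ := cliffordCorr_surj hν' hT hNT hθ hc'
  let e : (ε.comp (inertia ν).subtype).ker ≃* (inertia ν).subgroupOf ε.ker :=
    { toFun := fun x => ⟨⟨x.1.1, x.2⟩, x.1.2⟩, invFun := fun x => ⟨⟨x.1.1, x.2⟩, x.1.2⟩
      left_inv := fun _ => rfl, right_inv := fun _ => rfl, map_mul' := fun _ _ => rfl }
  have hψ := Cfsg.IsIrrCharacter.comp_mulEquiv h1 e
  have h4 : classInner (fun x : (inertia ν).subgroupOf ε.ker => θ x) ψ0 = 1 := by
    rw [← H33.classInner_indFun_right _ _ (Cfsg.IsIrrCharacter.isClassFunction hθ), h2,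
      Cfsg.IsIrrCharacter.classInner_self hθ]
  have h5 : classInner (fun u => θ (kerMap (inertia ν).subtype (fun _ => rfl) u))
      (fun x => ψ0 (e x)) = (1 : ℕ) := by
    rw [Nat.cast_one, ← h4, ← classInner_comp_equiv e.toEquiv]; rfl
  have h6 := clifford_le_inertia hNT hν' hT.le h1 (h3 ▸ hc')
  rw [h3] at h6
  generalize classInner (fun x : R.subgroupOf ε.ker => θ x) _ = c at h6 hc' h3
  have h7 : ∀ r : R, ψ0 (e ⟨⟨r, hI r.2⟩, hR r.2⟩) = c * ν r := fun r =>
    congrFun h6 ⟨⟨r, hR r.2⟩, r.2⟩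
  have hTψ : TR _ fun x => ψ0 (e x) := by
    refine TR_of_tst (Cfsg.IsIrrCharacter.isClassFunction hψ) (t := t0) ht0 ?_
    have k1 := Cfsg.IsIrrCharacter.comp_mulEquiv (tst_irr hψ t0) e.symm
    have k2 : classInner (fun n : R.subgroupOf ε.ker => tst t0 (fun x => ψ0 (e x))
        (e.symm ⟨n, hNT n.2⟩)) (fun x : R.subgroupOf ε.ker => ν ⟨(x : ε.ker), x.2⟩) ≠ 0 := by
      have : (fun n : R.subgroupOf ε.ker => tst t0 (fun x => ψ0 (e x)) (e.symm ⟨n, hNT n.2⟩)) =
          conj c • fun x : R.subgroupOf ε.ker => ν ⟨(x : ε.ker), x.2⟩ := by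
        funext n
        have := (h7 _).trans (congrArg (c * ·) (mem_inertia_iff.1 t0.2 ⟨_, n.2⟩))
        exact (congrArg conj this).trans (by rw [map_mul, hr]; rfl)
      rw [this, classInner_smul_left, Cfsg.IsIrrCharacter.classInner_self hν', mul_one]
      simpa using hc'
    have k3 : classInner (fun x : (inertia ν).subgroupOf ε.ker => θ x)
        (fun x => tst t0 (fun x => ψ0 (e x)) (e.symm x)) ≠ 0 := by
      have := classInner_tst t0 (fun u => θ (kerMap (inertia ν).subtype (fun _ => rfl) u))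
        (fun x => ψ0 (e x))
      rw [(hTR.comp (inertia ν).subtype fun _ => rfl).tst_eq (t := t0) ht0, classInner_comm_of_nat h5,
        ← classInner_comp_equiv e.symm.toEquiv] at this
      exact this.trans_ne (by simp)
    have := cliffordCorr_inj hν' hT hNT k1 h1 k2 (h3 ▸ hc')
      ((cliffordCorr_indFun_eq hν' hT hNT k1 k2 hθ k3).trans h2.symm)
    funext x
    exact congrFun this (e x)
  exact ⟨_, hψ, (tw_eq_of_odd (inertia ν).subtype (fun _ => rfl) ht0 hθ hTR hψ hTψ h5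
    odd_one).symm.trans h0, c, h7⟩

/-- Clifford theory over a linear character of order at most two -/
theorem clif_lin {H : Type*} [Group H] [Finite H] {R : Subgroup L} [hn : R.Normal] [Fintype R]
    (hR : R ≤ ε.ker) {j : H →* L} (hs : Split R j) (lam : R →* ℂˣ) (h2 : ∀ r, lam r * lam r = 1)
    {θ : ε.ker → ℂ} (hθ : IsIrrCharacter ε.ker θ) (h0 : tw ε θ = -1)
    (hc : classInner (fun r : R => θ ⟨r, hR r.2⟩) (fun r => lam r) ≠ 0) :
    ¬ NQ ((ε.comp j).comp ((inertia fun r : R => (lam r : ℂ)).comap j).subtype) := by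
  have hl := isIrrCharacter_of_hom lam
  have hI := le_inertia (Cfsg.IsIrrCharacter.isClassFunction hl)
  obtain ⟨ψ, h1, h3, c, h4⟩ := clif_red hR hl (fun r => by
    have := congrArg Units.val (h2 r)
    rcases mul_self_eq_one_iff.1 this with h | h <;> simp [h]) hθ h0 hc
  let j' : (inertia fun r : R => (lam r : ℂ)).comap j →* (inertia fun r : R => (lam r : ℂ)) :=
    (j.comp (Subgroup.subtype _)).codRestrict _ fun x => x.2
  have hc1 : ψ 1 = c := (h4 1).trans (by simp)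
  exact clif_inv (ε := ε.comp (Subgroup.subtype _)) (R := R.subgroupOf _) (fun x hx => hR hx) (j := j')
    ⟨fun g => by
      obtain ⟨h, hh⟩ := hs.ex g
      refine ⟨⟨h, ?_⟩, hh⟩
      have := Subgroup.mul_mem _ (Subgroup.inv_mem _ (hI hh)) g.2
      simpa using this, fun h hh => Subtype.ext (hs.eq_one h hh)⟩
    (lam.comp (Subgroup.subgroupOfEquivOfLe hI).toMonoidHom) (fun r => h2 _)
    (fun g r => Units.ext (mem_inertia_iff.1 g.2 ⟨_, r.2⟩)) h1 h3
    fun r => (h4 ⟨_, r.2⟩).trans (by rw [hc1, mul_comm]; rfl)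

/-- elementary abelian normal subgroup with a complement -/
theorem NQ.of_elab {H : Type*} [Group H] [Finite H] {R : Subgroup L} [hn : R.Normal]
    (hR : R ≤ ε.ker) {j : H →* L} (hs : Split R j) (h2 : ∀ r : R, r * r = 1)
    (h : ∀ lam : R →* ℂˣ,
      NQ ((ε.comp j).comp ((inertia fun r : R => (lam r : ℂ)).comap j).subtype)) : NQ ε := by
  intro θ hθ h0
  have := Fintype.ofFinite R
  obtain ⟨ν, hν, hc⟩ := Cfsg.IsCharacter.exists_constituent
    (isCharacter_res_le hR (Cfsg.IsIrrCharacter.isCharacter hθ))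
    fun e => Cfsg.IsIrrCharacter.apply_one_ne_zero hθ (congrFun e 1)
  obtain ⟨lam, rfl⟩ := Cfsg.IsCharacter.exists_hom (Cfsg.IsIrrCharacter.isCharacter hν)
    (Cfsg.IsIrrCharacter.apply_one_of_comm hν fun a b => by
      have k : ∀ r : R, r⁻¹ = r := fun r => inv_eq_of_mul_eq_one_right (h2 r)
      rw [← k (a * b), mul_inv_rev, k, k])
  exact clif_lin hR hs lam (fun r => by rw [← map_mul, h2, map_one]) hθ h0 hc (h lam)

end H93.FS
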