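import Cfsg.Agent.H93.FS2
import Cfsg.Agent.H33.PermChar
import Cfsg.Agent.H28.ConjCount

/-! A Brauer-Witt type reduction for twisted indicators. -/

set_option autoImplicit false
open Cfsg H28 H30 H32
open scoped ComplexConjugate

namespace H93.FS

/-- numbers integral at two -/
def O2 : Subring ℂ where
  carrier := {α | ∃ m : ℕ, Odd m ∧ IsIntegral ℤ ((m : ℂ) * α)}
  mul_mem' := by
    rintro a b ⟨m, hm, h⟩ ⟨n, hn, h'⟩
    exact ⟨m * n, hm.mul hn, by rw [Nat.cast_mul, mul_mul_mul_comm]; exact h.mul h'⟩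
  one_mem' := ⟨1, odd_one, by simpa using isIntegral_one⟩
  add_mem' := by
    rintro a b ⟨m, hm, h⟩ ⟨n, hn, h'⟩
    exact ⟨m * n, hm.mul hn, by
      have := ((isIntegral_natCast (R := ℤ) (B := ℂ) n).mul h).add
        ((isIntegral_natCast (R := ℤ) (B := ℂ) m).mul h')
      rwa [show ((m * n : ℕ) : ℂ) * (a + b) = n * (m * a) + m * (n * b) by push_cast; ring]⟩
  zero_mem' := ⟨1, odd_one, by simpa using isIntegral_zero⟩
  neg_mem' := by
    rintro a ⟨m, hm, h⟩
    exact ⟨m, hm, by convert h.neg using 1; ring⟩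

theorem mem_O2 {α : ℂ} (h : IsIntegral ℤ α) : α ∈ O2 := ⟨1, odd_one, by simpa using h⟩

theorem inv_mem_O2 {m : ℕ} (h : Odd m) : (m : ℂ)⁻¹ ∈ O2 :=
  ⟨m, h, by rw [mul_inv_cancel₀ (Nat.cast_ne_zero.2 h.pos.ne')]; exact isIntegral_one⟩

theorem half_notMem_O2 : (1 / 2 : ℂ) ∉ O2 := by
  rintro ⟨m, hm, h⟩
  have h1 : IsIntegral ℤ (algebraMap ℚ ℂ ((m : ℚ) / 2)) := by
    convert h using 1; simp [div_eq_mul_inv]
  obtain ⟨k, hk⟩ := IsIntegrallyClosed.isIntegral_iff.1
    ((isIntegral_algebraMap_iff (algebraMap ℚ ℂ).injective).1 h1)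
  have h2 : (m : ℤ) = 2 * k := by
    have : (m : ℚ) = 2 * k := by rw [← eq_intCast (algebraMap ℤ ℚ), hk]; ring
    exact_mod_cast this
  obtain ⟨j, hj⟩ := hm
  omega

/-- two-elements -/
def Two {G : Type*} [Group G] (g : G) : Prop := ∃ k, g ^ 2 ^ k = 1

section
variable {G : Type*} [Group G] [Fintype G]

open Classical in
theorem pi_pow (P : Sylow 2 G) (g : G) : ∃ r : ℤ, indFun (P : Subgroup G) (fun _ => 1) g ^ Nat.card P =
    (if Two g then 1 else 0) + 2 * Nat.card P * r := by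
  split_ifs with h
  · obtain ⟨k, hk⟩ := h
    obtain ⟨a, ha⟩ := P.isPGroup'.exists_card_eq
    have h1 := H33.card_fixedBy_pow_modEq (G ⧸ (P : Subgroup G)) 2 g k
    rw [hk, MulAction.fixedBy_one_eq_univ, Nat.card_univ] at h1
    have h2 : Nat.Coprime (Nat.card (MulAction.fixedBy (G ⧸ (P : Subgroup G)) g)) (2 ^ (a + 1)) := by
      refine Nat.Coprime.pow_right _ (Nat.coprime_two_right.2 (Nat.odd_iff.2 ?_))
      have := P.not_dvd_index
      rw [← h1, ← Subgroup.index_eq_card]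
      omega
    have h3 := Nat.ModEq.pow_totient h2
    rw [Nat.totient_prime_pow_succ Nat.prime_two] at h3
    obtain ⟨r, hr⟩ := (Nat.modEq_iff_dvd.1 h3.symm)
    refine ⟨r, ?_⟩
    rw [H33.indFun_one_eq_card_fixedBy, ha]
    have := congrArg (Int.cast : ℤ → ℂ) hr
    push_cast at this ⊢
    simp only [mul_one] at this
    linear_combination this
  · refine ⟨0, ?_⟩
    rw [H33.indFun_eq_zero_of _ _ _ fun y hy => absurd ?_ h, zero_pow Nat.card_pos.ne']
    · simp
    obtain ⟨k, hk⟩ := P.isPGroup' y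
    obtain ⟨c, hc⟩ := isConj_iff.1 hy.symm
    exact ⟨k, by rw [← hc, conj_pow, ← Subgroup.coe_pow, hk]; simp⟩

open Classical in
theorem pi_two (P : Sylow 2 G) (F : G → ℂ) (hF : ∀ g, IsIntegral ℤ (F g)) :
    ((Nat.card G : ℂ)⁻¹ * ∑ g, indFun (P : Subgroup G) (fun _ => 1) g ^ Nat.card P * F g -
      (Nat.card G : ℂ)⁻¹ * ∑ g, if Two g then F g else 0) / 2 ∈ O2 := by
  choose r hr using pi_pow P
  have h : (P : Subgroup G).index % 2 = 1 := by have := P.not_dvd_index; omega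
  have h1 := O2.mul_mem (inv_mem_O2 (Nat.odd_iff.2 h)) (O2.sum_mem (t := Finset.univ)
    fun g _ => O2.mul_mem (intCast_mem O2 (r g)) (mem_O2 (hF g)))
  convert h1 using 1
  have h2 : (Nat.card P : ℂ) ≠ 0 := Nat.cast_ne_zero.2 Nat.card_pos.ne'
  have h3 : ((P : Subgroup G).index : ℂ) ≠ 0 := Nat.cast_ne_zero.2 (by omega)
  simp only [hr, add_mul, Finset.sum_add_distrib, ite_mul, one_mul, zero_mul, mul_assoc,
    ← Finset.mul_sum]
  rw [← (P : Subgroup G).card_mul_index]
  push_cast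
  field_simp
  ring

open Classical in
theorem int_sec {y : G} (hy : y ∈ Subgroup.center G) {χ : G → ℂ} (hχ : IsCharacter G χ) :
    ((Nat.card G : ℂ)⁻¹ * ∑ g, if Two g then χ (y * g) else 0) ∈ O2 := by
  obtain ⟨P⟩ : Nonempty (Sylow 2 G) := inferInstance
  have h1 := pi_two P (fun g => χ (y * g)) fun g => Cfsg.IsCharacter.isIntegral hχ _
  have h2 : ((Nat.card G : ℂ)⁻¹ * ∑ g, indFun (P : Subgroup G) (fun _ => 1) g ^ Nat.card P *
      χ (y * g)) ∈ O2 := by
    refine Cfsg.IsCharacter.induction (P := fun χ => ((Nat.card G : ℂ)⁻¹ * ∑ g,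
      indFun (P : Subgroup G) (fun _ => 1) g ^ Nat.card P * χ (y * g)) ∈ O2) hχ (by simp) ?_
    intro φ θ hφ _ ih
    simp only [Pi.add_apply, mul_add, Finset.sum_add_distrib]
    refine O2.add_mem ?_ ih
    obtain ⟨lam, hl⟩ := Cfsg.IsIrrCharacter.exists_central_hom hφ le_rfl
    obtain ⟨n, hn⟩ := Cfsg.IsCharacter.classInner_nat (Cfsg.IsCharacter.mul (Cfsg.IsCharacter.pow
      (Cfsg.IsCharacter.indFun (H := P) isCharacter_one) (Nat.card P))
      (Cfsg.IsIrrCharacter.isCharacter hφ)) isCharacter_one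
    have := O2.mul_mem (mem_O2 (Cfsg.IsCharacter.isIntegral (isCharacter_of_hom lam) ⟨y, hy⟩))
      (natCast_mem O2 n)
    convert this using 1
    rw [← hn, classInner_one_right]
    simp only [hl ⟨y, hy⟩, Finset.mul_sum, Pi.mul_apply, Pi.pow_apply]
    exact Finset.sum_congr rfl fun g _ => by ring
  convert O2.sub_mem h2 (O2.add_mem h1 h1) using 1
  ring

omit [Fintype G] in
theorem exists_exp [Finite G] : ∃ e : ℕ, (∀ g : G, Odd (orderOf (g ^ e))) ∧
    (∀ g : G, Odd (orderOf g) → g ^ e = g) ∧ ∀ g : G, g ^ e = 1 ↔ Two g := by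
  obtain ⟨a, n, hn, h⟩ := Nat.exists_eq_two_pow_mul_odd (Nat.card_pos (α := G)).ne'
  have hc : Nat.Coprime (2 ^ a) n := Nat.Coprime.pow_left _ (Nat.coprime_two_left.2 hn)
  obtain ⟨e, h1, h2⟩ := Nat.chineseRemainder hc 0 1
  obtain ⟨b, rfl⟩ := (Nat.modEq_zero_iff_dvd.1 h1)
  have k : ∀ g : G, Odd (orderOf g) → g ^ (2 ^ a * b) = g := fun g hg => by
    have : orderOf g ∣ n := (Nat.Coprime.pow_right a (Nat.coprime_two_right.2 hg)).dvd_of_dvd_mul_left
      (h ▸ orderOf_dvd_natCard g)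
    rw [pow_eq_pow_iff_modEq.2 (h2.of_dvd this), pow_one]
  have k2 : ∀ (g : G) (c : ℕ), Odd (orderOf (g ^ (2 ^ a * c))) := fun g c =>
    Odd.of_dvd_nat hn (orderOf_dvd_of_pow_eq_one (by
      rw [← pow_mul, mul_right_comm, ← h, pow_mul, pow_card_eq_one', one_pow]))
  refine ⟨_, fun g => k2 g b, k, fun g => ⟨fun hg => ⟨a, ?_⟩, fun ⟨j, hj⟩ => ?_⟩⟩
  · have := k _ (k2 g 1)
    rwa [← pow_mul, mul_comm, pow_mul, hg, one_pow, mul_one, eq_comm] at this
  · have h3 : (g ^ (2 ^ a * b)) ^ 2 ^ j = 1 := by rw [← pow_mul, mul_comm, pow_mul, hj, one_pow]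
    exact orderOf_eq_one_iff.1 (Nat.eq_one_of_dvd_coprimes (Nat.Coprime.pow_right j
      (Nat.coprime_two_right.2 (k2 g b))) dvd_rfl (orderOf_dvd_of_pow_eq_one h3))

theorem class_sum {C : Type*} [Group C] [Fintype C] [DecidableEq (ConjClasses G)] [DecidableEq C]
    (f : C →* G) (hf : Function.Injective f) (y : C)
    (hr : ∀ g, g * f y * g⁻¹ = f y ↔ g ∈ f.range) (e : ℕ) (he : y ^ e = y) {F : G → ℂ}
    (hF : IsClassFunction G F) :
    (Nat.card G : ℂ)⁻¹ * ∑ g with ConjClasses.mk (g ^ e) = ConjClasses.mk (f y), F g =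
      (Nat.card C : ℂ)⁻¹ * ∑ c, if c ^ e = 1 then F (f (y * c)) else 0 := by
  classical
  have hC : Nat.card (Subgroup.centralizer {f y}) = Nat.card C := by
    rw [Nat.card_congr (MonoidHom.ofInjective hf).toEquiv]
    congr 3
    ext g
    rw [← hr, Subgroup.mem_centralizer_singleton_iff, mul_inv_eq_iff_eq_mul]
  have hy : ∀ c, Commute y c := fun c => hf (by
    have := (hr (f c)).2 ⟨c, rfl⟩
    rw [mul_inv_eq_iff_eq_mul] at this
    simp only [map_mul, this])
  have h1 : ∑ g : G, (if g ^ e = f y then F g else 0) = ∑ c, if c ^ e = 1 then F (f (y * c)) else 0 := by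
    symm
    refine Fintype.sum_of_injective (fun c => f (y * c)) (fun a b h => mul_left_cancel (hf h)) _ _
      (fun g hg => if_neg fun h => hg ?_) fun c => ?_
    · obtain ⟨c, rfl⟩ := (hr g).1 (by rw [← h]; group)
      exact ⟨y⁻¹ * c, by simp⟩
    · exact if_congr (by rw [← map_pow, hf.eq_iff, (hy c).mul_pow, he, mul_eq_left]) rfl rfl
  have h2 : ∑ x : G, ∑ g : G, (if x * g ^ e * x⁻¹ = f y then F g else 0) =
      Nat.card G * ∑ g : G, (if g ^ e = f y then F g else 0) := by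
    rw [Nat.card_eq_fintype_card, ← nsmul_eq_mul, ← Finset.card_univ, ← Finset.sum_const]
    refine Finset.sum_congr rfl fun x _ => Fintype.sum_equiv (MulAut.conj x).toEquiv _ _ fun g => ?_
    simp only [MulEquiv.toEquiv_eq_coe, EquivLike.coe_coe, MulAut.conj_apply, conj_pow,
      Cfsg.IsClassFunction.apply_conj hF]
  have h3 : ∑ x : G, ∑ g : G, (if x * g ^ e * x⁻¹ = f y then F g else 0) =
      Nat.card C * ∑ g with ConjClasses.mk (g ^ e) = ConjClasses.mk (f y), F g := by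
    rw [Finset.sum_comm, Finset.sum_filter, Finset.mul_sum]
    refine Finset.sum_congr rfl fun g _ => ?_
    rw [← Finset.sum_filter, Finset.sum_const, nsmul_eq_mul]
    split_ifs with h
    · have h' := (ConjClasses.mk_eq_mk_iff_isConj.1 h)
      obtain ⟨c, hc⟩ := isConj_iff.1 h'
      rw [← hC, ← card_conjugators (IsConj.refl (f y)), Nat.card_eq_fintype_card, Fintype.card_subtype]
      congr 2
      refine Finset.card_bijective (· * c⁻¹) (Group.mulRight_bijective _) fun x => ?_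
      simp only [Finset.mem_filter, Finset.mem_univ, true_and]
      rw [← hc, show x * c⁻¹ * (c * g ^ e * c⁻¹) * (x * c⁻¹)⁻¹ = x * g ^ e * x⁻¹ by group]
    · rw [Finset.filter_false_of_mem fun x _ hx => h (ConjClasses.mk_eq_mk_iff_isConj.2
        (isConj_iff.2 ⟨x, hx⟩))]
      simp
  rw [← h1]
  have a1 := H33.natCard_ne_zero G
  have a2 := H33.natCard_ne_zero C
  field_simp
  rw [← h2, h3, mul_comm]

end

variable {L : Type*} [Group L]

/-- the twisted centraliser -/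
def Ctw (ε : L →* ℤˣ) (y : L) : Subgroup L where
  carrier := {g | g * y * g⁻¹ = y ^ (ε g : ℤ)}
  one_mem' := by simp
  mul_mem' := by
    intro a b ha hb
    simp only [Set.mem_ofPred_eq] at ha hb ⊢
    rw [map_mul, Units.val_mul, zpow_mul, ← ha, conj_zpow, ← hb]; group
  inv_mem' := by
    intro a ha
    simp only [Set.mem_ofPred_eq] at ha ⊢
    have : y = a * y ^ (ε a : ℤ) * a⁻¹ := by
      rw [← conj_zpow, ha, ← zpow_mul, ← Units.val_mul, Int.units_mul_self]; simp
    rw [eps_inv]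
    conv_lhs => rw [this]
    group

theorem mem_Ctw {ε : L →* ℤˣ} {y g : L} : g ∈ Ctw ε y ↔ g * y * g⁻¹ = y ^ (ε g : ℤ) := Iff.rfl

/-- the twisted inversion -/
def io {N : Subgroup L} [hN : N.Normal] (t : L) : N ≃ N :=
  (Equiv.inv N).trans (MulAut.conjNormal t).toEquiv

theorem coe_io {N : Subgroup L} [N.Normal] (t : L) (u : N) : (io t u : L) = t * (u : L)⁻¹ * t⁻¹ := rfl

theorem tst_eq_io [Finite L] {N : Subgroup L} [N.Normal] {δ : N → ℂ} (h : IsCharacter N δ) (t : L)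
    (u : N) : tst t δ u = δ (io t u) := by
  rw [tst, ← Cfsg.IsCharacter.apply_inv (isCharacter_cj h t)]; rfl

theorem io_io {N : Subgroup L} [N.Normal] {t : L} (ht : t * t ∈ N) (u : N) :
    IsConj u (io t (io t u)) :=
  isConj_iff.2 ⟨⟨_, ht⟩, Subtype.ext (by simp only [coe_io, Subgroup.coe_mul, Subgroup.coe_inv]; group)⟩

theorem io_pow {N : Subgroup L} [N.Normal] (t : L) (u : N) (n : ℕ) : io t u ^ n = io t (u ^ n) :=
  Subtype.ext (by simp [coe_io])

theorem two_io {N : Subgroup L} [N.Normal] (t : L) (u : N) : Two (io t u) ↔ Two u :=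
  exists_congr fun k => by
    rw [io_pow, ← (io t).apply_eq_iff_eq (x := u ^ 2 ^ k), show io t (1 : N) = 1 from Subtype.ext (by simp [coe_io])]

theorem sum_split [Finite L] {N : Subgroup L} [N.Normal] [Fintype N] {δ : N → ℂ} (h : IsCharacter N δ)
    {t : L} (ht : t * t ∈ N) (w : N → ℂ) (hw : ∀ u, w (io t u) = w u) :
    ∑ u, w u * ((δ u + tst t δ u) * conj (δ u + tst t δ u)) =
      2 * ∑ u, w u * ((δ + tst t δ) * fun u => conj (δ u)) u := by
  have h1 : ∑ u, w u * ((δ u + tst t δ u) * conj (tst t δ u)) =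
      ∑ u, w u * ((δ u + tst t δ u) * conj (δ u)) := by
    refine (Fintype.sum_equiv (io t) _ _ fun u => ?_).symm
    simp only [tst_eq_io h, hw, ← Cfsg.IsClassFunction.eq_of_isConj
      (Cfsg.IsCharacter.isClassFunction h) (io_io ht u), add_comm]
  simp only [map_add, mul_add (_ + _), mul_add (w _), Finset.sum_add_distrib, h1, two_mul]
  rfl

open Classical in
theorem two_sec [Finite L] {ε : L →* ℤˣ} [Fintype ε.ker]
    (h2 : ∀ T : Subgroup L, IsPGroup 2 T → ∃ M, T ≤ M ∧ NQ (ε.comp M.subtype))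
    {θ : ε.ker → ℂ} (hθ : IsIrrCharacter ε.ker θ) (hν : tw ε θ = -1) :
    ((Nat.card ε.ker : ℂ)⁻¹ * ∑ u, if Two u then θ u * conj (θ u) else 0) / 2 ∈ O2 := by
  have := Fintype.ofFinite L
  have hTR := TR_of_tw_ne hθ (by rw [hν]; norm_num)
  obtain ⟨t0, ht0⟩ := exists_of_tw_ne (θ := θ) (by rw [hν]; norm_num)
  obtain ⟨e, -, -, he⟩ := exists_exp (G := L)
  have hidx : ∀ {K : Type _} [Group K] [Finite K] (ε' : K →* ℤˣ) (t : K), ε' t = -1 →
      (Nat.card K : ℂ) = 2 * Nat.card ε'.ker := fun ε' t ht => by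
    rw [← ε'.ker.card_mul_index, Subgroup.index_ker, MonoidHom.range_eq_top.2 fun u => by
      rcases Int.units_eq_one_or u with rfl | rfl
      exacts [⟨1, map_one _⟩, ⟨t, ht⟩]]
    simp [mul_comm]
  obtain ⟨t, ht, T, htT⟩ : ∃ t, ε t = -1 ∧ ∃ T : Sylow 2 L, t ∈ (T : Subgroup L) := by
    obtain ⟨a, n, hn, h⟩ := Nat.exists_eq_two_pow_mul_odd (Nat.card_pos (α := L)).ne'
    obtain ⟨T, hT⟩ := (isPGroup_zpowers_of_pow (x := t0 ^ n) (p := 2) (k := a) (by
      rw [← pow_mul, mul_comm, ← h, pow_card_eq_one'])).exists_le_sylow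
    exact ⟨t0 ^ n, by rw [map_pow, ht0, hn.neg_one_pow], T, hT (Subgroup.mem_zpowers _)⟩
  obtain ⟨M, hM, hN⟩ := h2 T T.isPGroup'
  obtain ⟨δ0, hδ0, hs0⟩ := spl hN M.subtype (fun _ => rfl) (t := ⟨t, hM htT⟩) ht hθ hν
  let ε' := ε.comp (T : Subgroup L).subtype
  have := Fintype.ofFinite ε'.ker
  have := Fintype.ofFinite (T : Subgroup L)
  let k : ε'.ker →* (ε.comp M.subtype).ker := kerMap (Subgroup.inclusion hM) fun _ => rfl
  have hδ := Cfsg.IsCharacter.comp hδ0 k
  let F : L → ℂ := extendByZero ε.ker fun u => θ u * conj (θ u)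
  have hF : IsClassFunction L F := isClassFunction_of_isConj fun a b hab => by
    obtain ⟨c, rfl⟩ := isConj_iff.1 hab
    by_cases ha : a ∈ ε.ker
    · have hb : c * a * c⁻¹ ∈ ε.ker := Subgroup.Normal.conj_mem inferInstance a ha c
      simp only [F, H33.ext0_of_mem _ _ ha, H33.ext0_of_mem _ _ hb]
      change _ = cj c θ ⟨a, ha⟩ * conj (cj c θ ⟨a, ha⟩)
      rcases Int.units_eq_one_or (ε c) with h | h
      · rw [cj_of_mem (Cfsg.IsIrrCharacter.isClassFunction hθ) h]
      · rw [hTR c h, Complex.conj_conj, mul_comm]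
    · have hb : c * a * c⁻¹ ∉ ε.ker := fun h => ha (by
        simpa only [inv_mul_cancel_left] using (Subgroup.Normal.mem_comm inferInstance h :
          c⁻¹ * (c * a) ∈ ε.ker))
      simp only [F, H33.ext0_of_not_mem _ _ ha, H33.ext0_of_not_mem _ _ hb]
  have hχ := Cfsg.IsIrrCharacter.isCharacter hθ
  have h1 := pi_two T F fun g => by
    by_cases ha : g ∈ ε.ker
    · simp only [F, H33.ext0_of_mem _ _ ha]
      exact Cfsg.IsCharacter.isIntegral (Cfsg.IsCharacter.mul hχ (Cfsg.IsCharacter.conj hχ)) _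
    · simp only [F, H33.ext0_of_not_mem _ _ ha]; exact isIntegral_zero
  set π := indFun (T : Subgroup L) (fun _ => 1) with hπ
  have hπc : IsCharacter L π := Cfsg.IsCharacter.indFun isCharacter_one
  obtain ⟨N, hN⟩ : ∃ N, Nat.card T = N + 1 := ⟨_, (Nat.succ_pred_eq_of_pos Nat.card_pos).symm⟩
  have h3 : ∑ g, (if Two g then F g else 0) = ∑ u : ε.ker, if Two u then θ u * conj (θ u) else 0 := by
    have := H33.sum_ext0_mul ε.ker (fun u => θ u * conj (θ u)) fun g => if Two g then 1 else 0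
    simp only [mul_ite, mul_one, mul_zero] at this
    rw [this]
    refine Finset.sum_congr rfl fun u _ => if_congr (exists_congr fun k => ?_) rfl rfl
    rw [← Subgroup.coe_pow, OneMemClass.coe_eq_one]
  have h4 := H33.sum_indFun_mul (T : Subgroup L) (fun _ => 1) (Cfsg.IsClassFunction.mul
    (Cfsg.IsCharacter.isClassFunction (Cfsg.IsCharacter.pow hπc N)) hF)
  have h5 : ∑ h : (T : Subgroup L), 1 * (π ^ N * F) h = ∑ u : ε'.ker, π u.1 ^ N *
      ((δ0 (k u) + tst (⟨t, htT⟩ : (T : Subgroup L)) (fun u => δ0 (k u)) u) *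
        conj (δ0 (k u) + tst (⟨t, htT⟩ : (T : Subgroup L)) (fun u => δ0 (k u)) u)) := by
    symm
    refine Fintype.sum_of_injective Subtype.val Subtype.val_injective _ _ (fun g hg => ?_) fun u => ?_
    · have : (g : L) ∉ ε.ker := fun h => hg ⟨⟨g, h⟩, rfl⟩
      simp [F, H33.ext0_of_not_mem _ _ this]
    · have : ((u : (T : Subgroup L)) : L) ∈ ε.ker := u.2
      simp only [one_mul, Pi.mul_apply, Pi.pow_apply, F, H33.ext0_of_mem _ _ this]
      rw [show θ ⟨_, this⟩ = _ from hs0 (k u)]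
      rfl
  rw [sum_split hδ (sq_mem ε' _) _ fun u => by
    rw [show ((io (⟨t, htT⟩ : (T : Subgroup L)) u).1 : L) = t * (u.1 : L)⁻¹ * t⁻¹ from rfl,
      Cfsg.IsClassFunction.apply_conj (Cfsg.IsCharacter.isClassFunction hπc),
      Cfsg.IsCharacter.apply_inv hπc, hπ, H33.indFun_one_eq_card_fixedBy, Complex.conj_natCast]] at h5
  obtain ⟨n, hn⟩ := Cfsg.IsCharacter.classInner_nat (Cfsg.IsCharacter.mul (Cfsg.IsCharacter.pow
    (Cfsg.IsCharacter.comp hπc ((T : Subgroup L).subtype.comp ε'.ker.subtype)) N)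
    (Cfsg.IsCharacter.mul (Cfsg.IsCharacter.add hδ (tst_char hδ (⟨t, htT⟩ : (T : Subgroup L))))
    (Cfsg.IsCharacter.conj hδ))) isCharacter_one
  rw [classInner_one_right] at hn
  rw [h5, hidx ε' ⟨t, htT⟩ ht] at h4
  rw [h3, hN] at h1
  have h6 : (Nat.card L : ℂ)⁻¹ * ∑ g, π g ^ (N + 1) * F g = n := by
    rw [← hn]
    refine (congrArg _ (Finset.sum_congr rfl fun g _ => ?_)).trans (h4.trans ?_)
    · simp only [Pi.mul_apply, Pi.pow_apply, ← hπ]; ring
    · rw [mul_inv, mul_mul_mul_comm, inv_mul_cancel₀ two_ne_zero, one_mul]; rfl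
  rw [h6, hidx ε t ht] at h1
  convert O2.sub_mem (natCast_mem O2 n) (O2.add_mem h1 h1) using 1
  rw [mul_inv]; ring

/-- twisted Brauer-Witt reduction -/
theorem tbw [Finite L] {ε : L →* ℤˣ}
    (h1 : ∀ y, ε y = 1 → Odd (orderOf y) → (∃ u, ε u = 1 ∧ u * y ≠ y * u) →
      NQ (ε.comp (Ctw ε y).subtype))
    (h2 : ∀ T : Subgroup L, IsPGroup 2 T → ∃ M, T ≤ M ∧ NQ (ε.comp M.subtype)) : NQ ε := by
  classical
  intro θ hθ hν
  have := Fintype.ofFinite ε.ker
  have hTR := TR_of_tw_ne hθ (by rw [hν]; norm_num)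
  obtain ⟨t, ht⟩ := exists_of_tw_ne (θ := θ) (by rw [hν]; norm_num)
  obtain ⟨e, e1, e2, e3⟩ := exists_exp (G := L)
  have hχ := Cfsg.IsIrrCharacter.isCharacter hθ
  have hF := Cfsg.IsCharacter.mul hχ (Cfsg.IsCharacter.conj hχ)
  set F := θ * fun g => conj (θ g) with hFd
  let a : ConjClasses ε.ker → ℂ := fun K =>
    (Nat.card ε.ker : ℂ)⁻¹ * ∑ g with ConjClasses.mk (g ^ e) = K, F g
  have hsum : ∑ K, a K = 1 := by
    rw [← Finset.mul_sum, Finset.sum_fiberwise, ← Cfsg.IsIrrCharacter.classInner_self hθ]; rfl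
  have hio : ∀ a b : ε.ker, IsConj a b → IsConj (io t a) (io t b) := fun a b h => by
    obtain ⟨c, rfl⟩ := isConj_iff.1 h
    exact isConj_iff.2 ⟨MulAut.conjNormal t c, Subtype.ext (by
      simp only [coe_io, Subgroup.coe_mul, Subgroup.coe_inv, MulAut.conjNormal_apply]; group)⟩
  let s : ConjClasses ε.ker → ConjClasses ε.ker := Quotient.map' (io t) hio
  have hs : ∀ u, s (ConjClasses.mk u) = ConjClasses.mk (io t u) := fun _ => rfl
  have hss : ∀ K, s (s K) = K := fun K => by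
    obtain ⟨u, rfl⟩ := ConjClasses.mk_surjective K
    exact (ConjClasses.mk_eq_mk_iff_isConj.2 (io_io (sq_mem ε t) u)).symm
  have has : ∀ K, a (s K) = a K := fun K => by
    refine congrArg (_ * ·) (Finset.sum_equiv (io t) (fun u => ?_) fun u _ => ?_).symm
    · simp only [Finset.mem_filter, Finset.mem_univ, true_and]
      rw [io_pow, ← hs]
      exact (Function.Involutive.injective hss).eq_iff.symm
    · simp only [hFd, Pi.mul_apply, ← tst_eq_io hχ, hTR.tst_eq ht]
  have key : ∀ K, a K ∈ O2 ∧ (s K = K → a K / 2 ∈ O2) := by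
    intro K
    by_cases h0 : ∃ g : ε.ker, ConjClasses.mk (g ^ e) = K
    swap
    · have : a K = 0 := by
        simp only [a]; rw [Finset.filter_false_of_mem fun g _ hg => h0 ⟨g, hg⟩]; simp
      simp [this]
    obtain ⟨g, rfl⟩ := h0
    obtain ⟨y, hy⟩ : ∃ y, y = g ^ e := ⟨_, rfl⟩
    rw [← hy]
    have hyo : Odd (orderOf (y : L)) := by rw [hy]; exact e1 g
    have hy1 : ε y = 1 := y.2
    let ε' := ε.comp (Ctw ε y).subtype
    have := Fintype.ofFinite ε'.ker
    let y' : ε'.ker := ⟨⟨y, by simp [mem_Ctw, hy1]⟩, hy1⟩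
    let f : ε'.ker →* ε.ker := kerMap (Ctw ε y).subtype fun _ => rfl
    have hf : Function.Injective f := fun a b h =>
      Subtype.ext (Subtype.ext (show (f a : L) = f b from congrArg Subtype.val h))
    have hc : ∀ c : ε'.ker, (c.1 : L) * y * (c.1 : L)⁻¹ = y := fun c => by
      have h3 : ε c.1 = 1 := c.2
      simpa [h3] using mem_Ctw.1 c.1.2
    have hT : ∀ c : ε'.ker, c ^ e = 1 ↔ Two c := fun c => by
      have : ∀ n : ℕ, c ^ n = 1 ↔ (c.1 : L) ^ n = 1 := fun n => by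
        rw [← Subgroup.coe_pow, ← Subgroup.coe_pow, OneMemClass.coe_eq_one, OneMemClass.coe_eq_one]
      simp only [Two, this, e3]
    have ha : a (ConjClasses.mk y) =
        (Nat.card ε'.ker : ℂ)⁻¹ * ∑ c, if Two c then F (f (y' * c)) else 0 := by
      simp only [← hT]
      refine class_sum f hf y' (fun g => ⟨fun h => ?_, ?_⟩) e
        (Subtype.ext (Subtype.ext (e2 _ hyo))) (Cfsg.IsCharacter.isClassFunction hF)
      · have h3 : ε g = 1 := g.2
        exact ⟨⟨⟨g, by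
          rw [mem_Ctw, h3, Units.val_one, zpow_one]; exact congrArg Subtype.val h⟩, h3⟩, rfl⟩
      · rintro ⟨c, rfl⟩
        exact Subtype.ext (hc c)
    have hy' : y' ∈ Subgroup.center ε'.ker := Subgroup.mem_center_iff.2 fun c =>
      Subtype.ext (Subtype.ext (mul_inv_eq_iff_eq_mul.1 (hc c)))
    have h9 := int_sec hy' (Cfsg.IsCharacter.comp hF f)
    refine ⟨by rw [ha]; convert h9, fun hK => ?_⟩
    by_cases hz : ∃ u, ε u = 1 ∧ u * y ≠ y * u
    · obtain ⟨x, hx⟩ := isConj_iff.1 (ConjClasses.mk_eq_mk_iff_isConj.1 ((hs y).symm.trans hK))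
      have hx1 : ε x = 1 := x.2
      have ht' : ε (x * t) = -1 := by simp [hx1, ht]
      have hx' : (x : L) * t ∈ Ctw ε y := by
        have h3 : (x : L) * (t * (y : L)⁻¹ * t⁻¹) * (x : L)⁻¹ = y := congrArg Subtype.val hx
        rw [mem_Ctw, ht', Units.val_neg, Units.val_one, zpow_neg_one]
        conv_rhs => rw [← h3]
        group
      obtain ⟨δ, hδ, hs⟩ := spl (h1 y hy1 hyo hz) (Ctw ε y).subtype (fun _ => rfl) (t := ⟨_, hx'⟩) ht'
        hθ hν
      have h4 := sum_split hδ (sq_mem ε' ⟨_, hx'⟩) (fun c => if Two (y'⁻¹ * c) then 1 else 0) fun c => by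
        refine if_congr ?_ rfl rfl
        have h5 : y'⁻¹ * io (⟨_, hx'⟩ : Ctw ε y) c = io (⟨_, hx'⟩ : Ctw ε y) (y'⁻¹ * c) := by
          refine Subtype.ext (Subtype.ext ?_)
          have h6 := mem_Ctw.1 hx'
          rw [ht', Units.val_neg, Units.val_one, zpow_neg_one] at h6
          change (y : L)⁻¹ * (x * t * (c.1 : L)⁻¹ * (x * t : L)⁻¹) =
            x * t * ((y : L)⁻¹ * c.1)⁻¹ * (x * t : L)⁻¹
          have h7 : ((y : L)⁻¹ * c.1)⁻¹ = y * (c.1 : L)⁻¹ := by
            rw [mul_inv_rev, inv_inv]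
            exact mul_inv_eq_iff_eq_mul.1 (hc c⁻¹)
          rw [h7]
          conv_lhs => rw [← h6]
          group
        rw [h5, two_io]
      rw [← Equiv.sum_comp (Equiv.mulLeft y')] at h4
      conv_rhs at h4 => rw [← Equiv.sum_comp (Equiv.mulLeft y')]
      simp only [Equiv.coe_mulLeft, inv_mul_cancel_left, ite_mul, one_mul, zero_mul, ← hs] at h4
      have h8 := int_sec hy' (Cfsg.IsCharacter.mul (Cfsg.IsCharacter.add hδ (tst_char hδ ⟨_, hx'⟩))
        (Cfsg.IsCharacter.conj hδ))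
      convert h8 using 1
      rw [ha]
      simp only [hFd, Pi.mul_apply, f]
      rw [h4]
      simp only [Pi.mul_apply]
      ring
    · push Not at hz
      have hz' : y ∈ Subgroup.center ε.ker := Subgroup.mem_center_iff.2 fun u => Subtype.ext (hz u u.2)
      have hb : Function.Bijective f := ⟨hf, fun u => by
        have h3 : ε u = 1 := u.2
        exact ⟨⟨⟨u, by rw [mem_Ctw, h3, hz u h3]; simp⟩, h3⟩, rfl⟩⟩
      obtain ⟨lam, hl⟩ := Cfsg.IsIrrCharacter.exists_central_hom hθ le_rfl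
      convert two_sec h2 hθ hν using 2
      rw [ha, Nat.card_congr (Equiv.ofBijective f hb)]
      congr 1
      refine Fintype.sum_bijective f hb _ _ fun c => if_congr (exists_congr fun k => ?_) ?_ rfl
      · rw [← map_pow, map_eq_one_iff f hf]
      · have h3 := Cfsg.IsCharacter.apply_inv (isCharacter_of_hom lam) ⟨y, hz'⟩
        simp only [hFd, Pi.mul_apply, map_mul]
        rw [show f y' = (⟨y, hz'⟩ : Subgroup.center ε.ker) from rfl, hl, map_mul, ← h3, map_inv]
        simp only [Units.val_inv_eq_inv_val]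
        field_simp
  refine half_notMem_O2 ?_
  have := Finset.sum_involution (s := Finset.univ)
    (f := fun K => (QuotientAddGroup.mk (a K / 2) : ℂ ⧸ O2.toAddSubgroup)) (fun K _ => s K)
    (fun K _ => by
      rw [← QuotientAddGroup.mk_add, QuotientAddGroup.eq_zero_iff, has, add_halves]; exact (key K).1)
    (fun K _ h hK => h ((QuotientAddGroup.eq_zero_iff _).2 ((key K).2 hK))) (fun _ _ => by simp)
    fun K _ => hss K
  rw [← QuotientAddGroup.mk_sum, QuotientAddGroup.eq_zero_iff, ← Finset.sum_div, hsum] at this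
  exact this

end H93.FS
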