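import Cfsg.Agent.H93.FS3
import Cfsg.Agent.H32.McE
import Cfsg.Agent.H40.GlCan
import Cfsg.Agent.H40.Coset

/-! Twisted indicators over a fully ramified character (Weil characters). -/

set_option autoImplicit false
open Cfsg H28 H30 H32
open scoped ComplexConjugate

namespace H93.FS

theorem eq_one_of_integral {d : ℕ} {α : ℂ} (h : IsIntegral ℤ α) (e : (d : ℂ) * α = 1) : d = 1 := by
  have hd : (d : ℂ) ≠ 0 := left_ne_zero_of_mul_eq_one e
  have h1 : IsIntegral ℤ (algebraMap ℚ ℂ ((d : ℚ)⁻¹)) := by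
    convert h using 1
    simp only [eq_ratCast, Rat.cast_inv, Rat.cast_natCast]
    exact (eq_inv_of_mul_eq_one_right e).symm
  obtain ⟨k, hk⟩ := IsIntegrallyClosed.isIntegral_iff.1
    ((isIntegral_algebraMap_iff (algebraMap ℚ ℂ).injective).1 h1)
  have h2 : (d : ℤ) * k = 1 := by
    have : (d : ℚ) * k = 1 := by
      rw [← eq_intCast (algebraMap ℤ ℚ), hk, mul_inv_cancel₀ (by exact_mod_cast hd)]
    exact_mod_cast this
  exact_mod_cast Int.eq_one_of_mul_eq_one_right (Int.natCast_nonneg d) h2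

theorem eq_one_of_norm {d : ℕ} {α : ℂ} (h : IsIntegral ℤ α) (e : ‖(d : ℂ) * α‖ = 1) : d = 1 := by
  have := eq_one_of_integral (d := d * d) (h.mul (h.map (starRingEnd ℂ).toIntAlgHom)) (by
    have := Complex.mul_conj' ((d : ℂ) * α)
    rw [e, map_mul, Complex.conj_natCast] at this
    simp only [Nat.cast_mul, RingHom.toIntAlgHom_apply]
    push_cast at this
    linear_combination this)
  exact Nat.eq_one_of_mul_eq_one_left this

section
variable {Δ : Type*} [Group Δ] [Finite Δ]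

theorem detChar_zero (g : Δ) : detChar (0 : Δ → ℂ) g = 1 := by
  have h := detChar_add (isCharacter_zero (G := Δ)) isCharacter_zero g
  rw [add_zero] at h
  have : detChar (0 : Δ → ℂ) g ≠ 0 := by rw [← detH_apply]; exact Units.ne_zero _
  exact (mul_eq_left₀ this).1 h.symm

theorem detChar_conj {χ : Δ → ℂ} (h : IsCharacter Δ χ) (g : Δ) :
    detChar (fun x => conj (χ x)) g = conj (detChar χ g) := by
  refine Cfsg.IsCharacter.induction (P := fun χ => detChar (fun x => conj (χ x)) g =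
    conj (detChar χ g)) h ?_ fun φ θ hφ hθ ih => ?_
  · rw [detChar_zero, map_one, ← detChar_zero g]; congr 1; funext x; simp
  · have hφ' := Cfsg.IsIrrCharacter.isCharacter hφ
    rw [detChar_add hφ' hθ, map_mul, ← ih, ← congrFun (H40.detChar_gal hφ (starRingEnd ℂ)) g,
      ← detChar_add (Cfsg.IsCharacter.conj hφ') (Cfsg.IsCharacter.conj hθ)]
    congr 1; funext x; simp

theorem detChar_twist {χ : Δ → ℂ} (h : IsCharacter Δ χ) (μ : Δ →* ℂˣ) (g : Δ) :
    detChar (fun x => μ x * χ x) g = μ g ^ charDegree χ * detChar χ g := by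
  refine Cfsg.IsCharacter.induction (P := fun χ => detChar (fun x => μ x * χ x) g =
    μ g ^ charDegree χ * detChar χ g) h ?_ fun φ θ hφ hθ ih => ?_
  · rw [detChar_zero, charDegree_zero, pow_zero, mul_one, ← detChar_zero g]; congr 1; funext x; simp
  · have hφ' := Cfsg.IsIrrCharacter.isCharacter hφ
    have h1 := congrFun (detChar_mul_hom hφ μ (Cfsg.IsCharacter.cast_charDegree hφ').symm) g
    rw [detChar_add hφ' hθ, Cfsg.IsCharacter.charDegree_add hφ' hθ, pow_add, mul_mul_mul_comm, ← ih, ← h1]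
    refine Eq.trans ?_ (detChar_add (Cfsg.IsCharacter.mul (isCharacter_of_hom μ) hφ')
        (Cfsg.IsCharacter.mul (isCharacter_of_hom μ) hθ) g)
    congr 1; funext x; simp [mul_add]

theorem detChar_scalar {χ : Δ → ℂ} (h : IsCharacter Δ χ) {x : Δ} {c : ℂˣ}
    (hx : ∀ g, χ (x * g) = c * χ g) : detChar χ x = c ^ charDegree χ := by
  obtain ⟨n, ρ, rfl, hd⟩ := exists_rep_detChar h
  obtain ⟨ω, hω⟩ := (mem_charCenter_rep ρ).1 ⟨c, hx⟩
  have h1 := hx 1
  rw [mul_one, Representation.char_one] at h1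
  simp only [Representation.character, hω, map_smul, LinearMap.trace_id, smul_eq_mul] at h1
  rw [hd, charDegree_rep]
  simp only [hω, LinearMap.det_smul, LinearMap.det_id, mul_one]
  rcases Nat.eq_zero_or_pos (Module.finrank ℂ (Fin n → ℂ)) with h0 | h0
  · simp [h0]
  · rw [mul_right_cancel₀ (Nat.cast_ne_zero.2 h0.ne') h1]

/-- component of a character at a character of a central subgroup -/
noncomputable def cmp (Y : Subgroup Δ) [Fintype Y] (ω : Y →* ℂˣ) (Ψ : Δ → ℂ) : Δ → ℂ :=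
  fun g => (Nat.card Y : ℂ)⁻¹ * ∑ y : Y, Ψ (y * g) * conj (ω y : ℂ)

theorem cmp_spec {Y : Subgroup Δ} [Fintype Y] [Fintype (Y →* ℂˣ)] (hY : Y ≤ Subgroup.center Δ)
    {Ψ : Δ → ℂ} (h : IsCharacter Δ Ψ) : (∀ ω, IsCharacter Δ (cmp Y ω Ψ)) ∧
      ∀ y : Y, Ψ y = ∑ ω : Y →* ℂˣ, ω y * cmp Y ω Ψ 1 := by
  classical
  refine Cfsg.IsCharacter.induction (P := fun Ψ => (∀ ω, IsCharacter Δ (cmp Y ω Ψ)) ∧
    ∀ y : Y, Ψ y = ∑ ω : Y →* ℂˣ, ω y * cmp Y ω Ψ 1) h ⟨fun ω => ?_, by simp [cmp]⟩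
    fun φ θ hφ _ ih => ?_
  · convert isCharacter_zero (G := Δ); funext x; simp [cmp]
  obtain ⟨lam, hl⟩ := Cfsg.IsIrrCharacter.exists_central_hom hφ hY
  have h1 : ∀ ω, cmp Y ω (φ + θ) = (if lam = ω then φ else 0) + cmp Y ω θ := fun ω => by
    funext g
    have := Cfsg.IsIrrCharacter.classInner_eq (isIrrCharacter_of_hom lam) (isIrrCharacter_of_hom ω)
    rw [if_congr (show ((fun g => (lam g : ℂ)) = fun g => (ω g : ℂ)) ↔ lam = ω from
      ⟨fun e => MonoidHom.ext fun g => Units.ext (congrFun e g), fun e => by rw [e]⟩) rfl rfl] at this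
    simp only [cmp, Pi.add_apply, add_mul, Finset.sum_add_distrib, mul_add, hl]
    congr 1
    rw [show (if lam = ω then φ else 0) g = (if lam = ω then 1 else 0) * φ g by split_ifs <;> simp,
      ← this, classInner, mul_assoc, Finset.sum_mul]
    exact congrArg _ (Finset.sum_congr rfl fun y _ => by ring)
  refine ⟨fun ω => ?_, fun y => ?_⟩
  · rw [h1]
    refine Cfsg.IsCharacter.add ?_ (ih.1 ω)
    split_ifs
    exacts [Cfsg.IsIrrCharacter.isCharacter hφ, isCharacter_zero]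
  · simp only [h1, Pi.add_apply, mul_add, Finset.sum_add_distrib, ← ih.2 y]
    congr 1
    rw [Finset.sum_eq_single lam (fun ω _ h => by simp [h.symm]) (by simp), if_pos rfl, ← hl, mul_one]

theorem exists_D {Z : Δ} (hZ : Z ∈ Subgroup.center Δ) {Ψ : Δ → ℂ} (h : IsCharacter Δ Ψ)
    (h1 : ‖Ψ Z‖ = 1) : ∃ D : Δ →* ℂˣ, (∀ x (c : ℂˣ), (∀ g, Ψ (x * g) = c * Ψ g) → D x = c) ∧
      ∀ (α : Δ →* Δ) (μ : Δ →* ℂˣ), α Z = Z⁻¹ → (∀ g, conj (Ψ (α g)) = μ g * Ψ g) →
        ∀ g, conj (D (α g) : ℂ) = μ g * D g := by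
  have := Fintype.ofFinite (Subgroup.zpowers Z)
  have := Fintype.ofFinite (Subgroup.zpowers Z →* ℂˣ)
  have hY : Subgroup.zpowers Z ≤ Subgroup.center Δ := Subgroup.zpowers_le.2 hZ
  obtain ⟨h2, h3⟩ := cmp_spec hY h
  set m := fun ω => charDegree (cmp (Subgroup.zpowers Z) ω Ψ) with hm
  obtain ⟨c, hc⟩ := Finset.gcd_eq_sum_mul Finset.univ fun ω => (m ω : ℤ)
  have hg : (Finset.univ.gcd fun ω => (m ω : ℤ)) = 1 := by
    set d := Finset.univ.gcd fun ω => (m ω : ℤ)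
    have hd : ∀ ω, (d.natAbs : ℤ) ∣ m ω := fun ω =>
      Int.natAbs_dvd.2 (Finset.gcd_dvd (Finset.mem_univ ω))
    choose k hk using hd
    have h4 : d.natAbs = 1 := by
      refine eq_one_of_norm (α := ∑ ω : Subgroup.zpowers Z →* ℂˣ,
        (ω ⟨Z, Subgroup.mem_zpowers Z⟩ : ℂ) * k ω) (IsIntegral.sum _ fun ω _ =>
        (Cfsg.IsCharacter.isIntegral (isCharacter_of_hom ω) _).mul (isIntegral_intCast _)) ?_
      rw [← h1, h3 ⟨Z, Subgroup.mem_zpowers Z⟩, Finset.mul_sum]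
      refine congrArg _ (Finset.sum_congr rfl fun ω _ => ?_)
      have := congrArg (Int.cast : ℤ → ℂ) (hk ω)
      rw [← Cfsg.IsCharacter.cast_charDegree (h2 ω)]
      push_cast at this
      rw [show (charDegree (cmp (Subgroup.zpowers Z) ω Ψ) : ℂ) = _ from this]
      simp only [Nat.cast_natAbs, Int.cast_abs]
      ring
    have h5 : 0 ≤ d := by
      rw [show d = normalize d from Finset.normalize_gcd.symm]; exact Int.nonneg_of_normalize_eq_self
        (normalize_idem _)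
    omega
  rw [hg] at hc
  have key : ∀ u : ℂˣ, ∏ ω, (u ^ m ω) ^ c ω = u := fun u => by
    simp only [← zpow_natCast, ← zpow_mul]
    have : ∀ s : Finset (Subgroup.zpowers Z →* ℂˣ), ∏ x ∈ s, u ^ ((m x : ℤ) * c x) =
        u ^ ∑ x ∈ s, (m x : ℤ) * c x := fun s => by
      classical
      induction s using Finset.induction_on with
      | empty => simp
      | insert a s h ih => rw [Finset.prod_insert h, Finset.sum_insert h, ih, zpow_add]
    rw [this, ← hc, zpow_one]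
  refine ⟨∏ ω, detH (cmp (Subgroup.zpowers Z) ω Ψ) ^ c ω, fun x u hx => ?_, fun α μ hα hμ g => ?_⟩
  · rw [← key u, MonoidHom.finsetProd_apply]
    refine Finset.prod_congr rfl fun ω _ => ?_
    rw [MonoidHom.zpow_apply]
    congr 1
    refine Units.ext ?_
    rw [detH_apply, detChar_scalar (h2 ω) (c := u) fun g => ?_, Units.val_pow_eq_pow_val]
    simp only [cmp, Finset.mul_sum]
    refine Finset.sum_congr rfl fun y _ => ?_
    rw [← mul_assoc (y : Δ), ← Subgroup.mem_center_iff.1 (hY y.2) x, mul_assoc x, hx]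
    ring
  · have hZ1 : μ Z = 1 := by
      have := hμ Z
      rw [hα, Cfsg.IsCharacter.apply_inv h, Complex.conj_conj] at this
      exact Units.ext ((mul_eq_right₀ (by rintro e; simp [e] at h1)).1 this.symm)
    have h4 : ∀ y : Subgroup.zpowers Z, μ y = 1 ∧ α y = (y : Δ)⁻¹ := by
      rintro ⟨_, i, rfl⟩
      simp [hZ1, hα]
    have h5 : ∀ ω, conj (detH (cmp (Subgroup.zpowers Z) ω Ψ) (α g) : ℂ) =
        μ g ^ m ω * detH (cmp (Subgroup.zpowers Z) ω Ψ) g := fun ω => by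
      rw [detH_apply, detH_apply, ← detChar_comp α (h2 ω), ← detChar_conj (Cfsg.IsCharacter.comp (h2 ω) α),
        ← detChar_twist (h2 ω)]
      congr 1
      funext x
      simp only [cmp, map_mul, map_inv₀, Complex.conj_natCast, map_sum, Complex.conj_conj, Finset.mul_sum]
      refine Fintype.sum_equiv (Equiv.inv _) _ _ fun y => ?_
      have := hμ ((y : Δ)⁻¹ * x)
      rw [map_mul, map_inv, (h4 y).2, inv_inv, map_mul, map_inv, (h4 y).1] at this
      rw [this, Equiv.inv_apply, Cfsg.IsCharacter.apply_inv (isCharacter_of_hom ω), Complex.conj_conj]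
      simp only [inv_one, one_mul, Subgroup.coe_inv]
      ring
    conv_rhs => rw [← key (μ g)]
    simp only [MonoidHom.finsetProd_apply, MonoidHom.zpow_apply, Units.coe_prod, map_prod,
      Units.val_zpow_eq_zpow_val, map_zpow₀, h5, mul_zpow, Finset.prod_mul_distrib,
      Units.val_pow_eq_pow_val]

theorem norm_one {N : Type*} [Group N] [Finite N] (ι : N →* Δ) (hι : Function.Injective ι)
    (hn : ι.range.Normal) {X : Δ → ℂ} (hX : IsCharacter Δ X)
    (h1 : IsIrrCharacter N fun g => X (ι g)) {x : Δ} (α : N → N)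
    (hα : ∀ s, x * ι s * x⁻¹ = ι (α s))
    (hz : ∀ r, ∃ s r0, r0 ∈ charCenter (fun g => X (ι g)) ∧ r = s * r0 * (α s)⁻¹) : ‖X x‖ = 1 := by
  have := Fintype.ofFinite N
  have h2 := H40.cosetInner_self ι hι hn hX h1 x
  have h0 : X 1 ≠ 0 := by simpa using Cfsg.IsIrrCharacter.apply_one_ne_zero h1
  have h3 : ∀ r, ‖X (ι r * x)‖ = ‖X x‖ := fun r => by
    obtain ⟨s, r0, h4, rfl⟩ := hz r
    have h5 := (Cfsg.IsIrrCharacter.mem_charCenter h1).1 h4
    simp only [map_one] at h5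
    rw [map_mul, map_mul, map_inv, ← hα, show ι s * ι r0 * (x * ι s * x⁻¹)⁻¹ * x =
      ι s * (ι r0 * x) * (ι s)⁻¹ by group, Cfsg.IsClassFunction.apply_conj
      (Cfsg.IsCharacter.isClassFunction hX), apply_mul_of_mem_charCenter h0
      ((Cfsg.IsCharacter.mem_charCenter hX).2 h5), norm_mul, norm_div, h5]
    obtain ⟨n, hn⟩ := Cfsg.IsCharacter.exists_degree hX
    rw [hn] at h0 ⊢
    simp only [Complex.natCast_re, Complex.norm_natCast]
    rw [div_self (by exact_mod_cast h0), one_mul]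
  rw [classInner_self_eq] at h2
  simp only [h3, Finset.sum_const, Finset.card_univ, nsmul_eq_mul, Nat.card_eq_fintype_card] at h2
  rw [inv_mul_cancel_left₀ (Nat.cast_ne_zero.2 Fintype.card_ne_zero)] at h2
  have : ‖X x‖ ^ 2 = 1 := by exact_mod_cast h2
  exact (pow_eq_one_iff_of_nonneg (norm_nonneg _) two_ne_zero).1 this

/-- existence of the Weil extension -/
theorem exists_weil {N : Subgroup Δ} [hN : N.Normal] {H : Type*} [Group H] {j : H →* Δ}
    (hs : Split N j) {ν : N → ℂ} (hν : IsIrrCharacter N ν)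
    (hinv : ∀ (g : Δ) (n : N), ν ⟨g * n * g⁻¹, hN.conj_mem _ n.2 g⟩ = ν n) {z : H}
    (hz : z ∈ Subgroup.center H)
    (hf : ∀ r, ∃ s r0, r0 ∈ charCenter ν ∧ r = s * r0 * (MulAut.conjNormal (j z) s)⁻¹) :
    ∃ W, IsCharacter Δ W ∧ ∀ n : N, W n = ν n := by
  have h0 := Cfsg.IsIrrCharacter.apply_one_ne_zero hν
  obtain ⟨d, ρ, hρ, rfl⟩ := id hν
  have hd : 0 < d := by
    rw [Representation.char_one, Module.finrank_fin_fun] at h0
    exact Nat.pos_of_ne_zero (Nat.cast_ne_zero.1 h0)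
  let Γ := ((powMonoidHom (Nat.card N)).comp (detHom (projRep N ρ))).ker
  have hΓ : ∀ γ, γ ∈ Γ ↔ detHom (projRep N ρ) γ ^ Nat.card N = 1 := fun _ => Iff.rfl
  have hI : ∀ c, detHom (projRep N ρ) (projIota N ρ c) = c ^ d := fun c => Units.ext (by
    simp [LinearMap.det_smul])
  let ι : N →* Γ := (projNu N ρ).codRestrict _ fun n => by
    rw [hΓ, ← map_pow, ← map_pow, pow_card_eq_one', map_one, map_one]
  let π : Γ →* Δ := (projPi N ρ).comp Γ.subtype
  have hπ : Function.Surjective π := fun g => by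
    obtain ⟨γ, rfl⟩ := projPi_surjective hinv g
    obtain ⟨c, hc⟩ := IsAlgClosed.exists_pow_nat_eq ((detHom (projRep N ρ) γ)⁻¹ : ℂˣ).1 hd
    have hc0 : c ≠ 0 := fun e => Units.ne_zero _ (by rw [← hc, e, zero_pow hd.ne'])
    refine ⟨⟨γ * projIota N ρ (Units.mk0 c hc0), ?_⟩, by simp [π]⟩
    rw [hΓ, map_mul, hI, show Units.mk0 c hc0 ^ d = _ from Units.ext hc, mul_inv_cancel, one_pow]
  have : NeZero (d * Nat.card N) := ⟨(Nat.mul_pos hd Nat.card_pos).ne'⟩
  have : Finite Γ := π.finite_iff_finite_ker_range.2 ⟨Finite.of_surjective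
    (fun c : rootsOfUnity (d * Nat.card N) ℂ => (⟨⟨projIota N ρ c, by
      rw [hΓ, hI, ← pow_mul]; exact c.2⟩, by simp [π]⟩ : π.ker)) fun γ => by
      obtain ⟨c, hc⟩ := exists_projIota_eq_of_mem_ker γ.1.1 γ.2
      refine ⟨⟨c, ?_⟩, Subtype.ext (Subtype.ext hc)⟩
      have := γ.1.2
      rwa [hΓ, ← hc, hI, ← pow_mul] at this, inferInstance⟩
  have hπι : ∀ n, π (ι n) = n := fun n => projPi_projNu (ρ := ρ) n
  have hc : ∀ γ n, γ * ι n * γ⁻¹ = ι (MulAut.conjNormal (π γ) n) := fun γ n =>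
    Subtype.ext (conj_projNu γ.1 n)
  have hn : ι.range.Normal := ⟨by rintro _ ⟨n, rfl⟩ γ; exact ⟨_, (hc γ n).symm⟩⟩
  let Ψ : Γ → ℂ := fun γ => (projRep N ρ).character γ
  have hΨ : IsCharacter Γ Ψ := Cfsg.IsCharacter.comp (isCharacter_rep (projRep N ρ)) Γ.subtype
  have hΨι : (fun n => Ψ (ι n)) = ρ.character := funext fun n =>
    congrArg (LinearMap.trace ℂ _) (projRep_projNu n)
  have hk : ∀ γ, π γ = 1 → ∃ c : ℂˣ, (∀ g, Ψ (γ * g) = c * Ψ g) ∧ (c = 1 → γ = 1) := fun γ h => by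
    obtain ⟨c, hc⟩ := exists_projIota_eq_of_mem_ker γ.1 h
    refine ⟨c, fun g => ?_, fun e => Subtype.ext (by rw [← hc, e, map_one]; rfl)⟩
    simp [Ψ, ← hc, Representation.character]
  obtain ⟨P, -, hP2, hP3⟩ := Split.exists_retr (R := ι.range) (j := (j.range.comap π).subtype)
    ⟨fun γ => by
      obtain ⟨h, hh⟩ := hs.ex (π γ)
      exact ⟨⟨(ι ⟨_, hh⟩)⁻¹ * γ, h, by simp [hπι]⟩, ⟨_, hh⟩, by simp⟩, by
      rintro ⟨δ, h, hh⟩ ⟨n, rfl⟩
      have := hs.eq_one h (by rw [hh, hπι]; exact n.2)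
      rw [this, map_one, hπι, eq_comm, OneMemClass.coe_eq_one] at hh
      exact Subtype.ext (by simp [hh])⟩
  obtain ⟨Z, hZ⟩ := hπ (j z)
  have hZ1 : ‖Ψ Z‖ = 1 := norm_one ι (fun a b h => Subtype.ext (by rw [← hπι, h, hπι])) hn hΨ
    (hΨι ▸ hν) _ (hc Z) (by rw [hΨι, hZ]; exact hf)
  obtain ⟨D, hD, -⟩ := exists_D (Δ := j.range.comap π) (Z := ⟨Z, z, hZ.symm⟩)
    (Subgroup.mem_center_iff.2 (by
      rintro ⟨δ, h, hh⟩
      obtain ⟨c, h1, h2⟩ := hk (δ * Z * δ⁻¹ * Z⁻¹) (by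
        simp only [map_mul, map_inv, ← hh, hZ]
        rw [← map_mul, Subgroup.mem_center_iff.1 hz h]; simp)
      have h3 := h1 Z
      rw [inv_mul_cancel_right, Cfsg.IsClassFunction.apply_conj (Cfsg.IsCharacter.isClassFunction hΨ)] at h3
      have := h2 (Units.ext ((mul_eq_right₀ (by rintro e; simp [e] at hZ1)).1 h3.symm))
      exact Subtype.ext (mul_inv_eq_iff_eq_mul.1 (mul_inv_eq_one.1 this))))
    (Cfsg.IsCharacter.restrict hΨ _) hZ1
  have hW := Cfsg.IsCharacter.mul hΨ (isCharacter_of_hom (D.comp P)⁻¹)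
  obtain ⟨W, h1, h2⟩ := Cfsg.IsCharacter.exists_descend hW π hπ fun γ hγ => by
    obtain ⟨c, h1, -⟩ := hk γ hγ
    have h3 : γ ∈ j.range.comap π := ⟨1, (map_one j).trans hγ.symm⟩
    have h4 : D (P γ) = c := by
      rw [show P γ = _ from hP2 ⟨γ, h3⟩]; exact hD _ c fun g => h1 g
    have h5 := h1 1
    rw [mul_one] at h5
    rw [Cfsg.IsCharacter.mem_charKer hW]
    simp [h4, h5, mul_comm]
  refine ⟨W, h1, fun n => ?_⟩
  rw [← hπι, h2, ← hΨι]
  simp [hP3 _ ⟨n, rfl⟩]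

end

variable {L : Type*} [Group L] [Finite L] {ε : L →* ℤˣ}

theorem tw_ne_of_dihedral {z t : L} (hz : ε z = 1) (ht : ε t = -1) (h2 : t * t = 1)
    (h : t * z * t⁻¹ = z⁻¹) {W : ε.ker → ℂ} (hW : IsIrrCharacter ε.ker W) (h1 : ‖W ⟨z, hz⟩‖ = 1) :
    tw ε W ≠ -1 := by
  have hti : t⁻¹ = t := inv_eq_of_mul_eq_one_right h2
  have hc : ∀ g ∈ Subgroup.zpowers z, t * g * t = g⁻¹ := by
    rintro _ ⟨i, rfl⟩
    conv_lhs => rw [← hti, hti]
    simp only []
    rw [← inv_zpow, ← h, conj_zpow, hti]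
  have hc' : ∀ g ∈ Subgroup.zpowers z, t * g * t ∈ Subgroup.zpowers z := fun g hg =>
    hc g hg ▸ inv_mem hg
  let B : Subgroup L :=
    { carrier := {g | g ∈ Subgroup.zpowers z ∨ g * t ∈ Subgroup.zpowers z}
      one_mem' := Or.inl (one_mem _)
      mul_mem' := by
        rintro a b (ha | ha) (hb | hb)
        · exact Or.inl (mul_mem ha hb)
        · exact Or.inr (mul_assoc a b t ▸ mul_mem ha hb)
        · exact Or.inr (by simpa [mul_assoc, ← mul_assoc t t, h2] using mul_mem ha (hc' _ hb))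
        · exact Or.inl (by simpa [mul_assoc, ← mul_assoc t t, h2] using mul_mem ha (hc' _ hb))
      inv_mem' := by
        rintro a (ha | ha)
        · exact Or.inl (inv_mem ha)
        · exact Or.inr (by simpa [mul_assoc, ← mul_assoc t t, h2, hti] using hc' _ (inv_mem ha)) }
  have hB : ∀ u : (ε.comp B.subtype).ker, (u.1 : L) ∈ Subgroup.zpowers z := fun u =>
    u.1.2.resolve_right fun ⟨i, hi⟩ => by
      have h3 : ε u.1 = 1 := u.2
      have := congrArg ε hi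
      simp [hz, ht, h3] at this
  have htB : t ∈ B := Or.inr (h2 ▸ one_mem _)
  have hN : NQ (ε.comp B.subtype) := fun θ hθ e => by
    have := Fintype.ofFinite (ε.comp B.subtype).ker
    obtain ⟨n, hn⟩ := Cfsg.IsCharacter.exists_degree (Cfsg.IsIrrCharacter.isCharacter hθ)
    rw [tw_eq' θ (t := ⟨t, htB⟩) ht, Finset.sum_congr rfl (g := fun _ => (n : ℂ)) fun u _ => by
      rw [← hn]; refine congrArg θ (Subtype.ext (Subtype.ext ?_))
      change (u.1 : L) * t * (u.1 * t) = 1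
      rw [mul_assoc, ← mul_assoc t, hc _ (hB u), mul_inv_cancel], Finset.sum_const, Finset.card_univ,
      nsmul_eq_mul, Nat.card_eq_fintype_card,
      inv_mul_cancel_left₀ (Nat.cast_ne_zero.2 Fintype.card_ne_zero)] at e
    have : (n : ℤ) = -1 := by exact_mod_cast e
    omega
  intro e
  obtain ⟨δ, hδ, hs⟩ := spl hN B.subtype (fun _ => rfl) (t := ⟨t, htB⟩) ht hW e
  have := hs ⟨⟨z, Or.inl (Subgroup.mem_zpowers z)⟩, hz⟩
  rw [tst_eq_io hδ, show io (⟨t, htB⟩ : B) (⟨⟨z, Or.inl (Subgroup.mem_zpowers z)⟩, hz⟩ :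
    (ε.comp B.subtype).ker) = ⟨⟨z, Or.inl (Subgroup.mem_zpowers z)⟩, hz⟩ from Subtype.ext (Subtype.ext (by
      change t * z⁻¹ * t⁻¹ = z
      rw [← conj_inv, h, inv_inv])), ← two_mul] at this
  exact absurd (eq_one_of_norm (d := 2) (Cfsg.IsCharacter.isIntegral hδ _) (by
    rw [← h1]; exact congrArg _ this.symm)) (by decide)

variable {H : Type*} [Group H] [Finite H] {R : Subgroup L} [hn : R.Normal] {j : H →* L}

theorem weil_red [Fintype R] (hR : R ≤ ε.ker) (hs : Split R j) {ν : R → ℂ} (hν : IsIrrCharacter R ν)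
    (hinv : ∀ (g : L) (n : R), ν ⟨g * n * g⁻¹, hn.conj_mem _ n.2 g⟩ = ν n)
    (hr : ∀ r, conj (ν r) = ν r) {z t : H} (hz : ε (j z) = 1)
    (hzc : ∀ h, ε (j h) = 1 → h * z = z * h) (ht : ε (j t) = -1) (h2 : t * t = 1)
    (htz : t * z * t⁻¹ = z⁻¹)
    (hf : ∀ r, ∃ s r0, r0 ∈ charCenter ν ∧ r = s * r0 * (MulAut.conjNormal (j z) s)⁻¹)
    {θ : ε.ker → ℂ} (hθ : IsIrrCharacter ε.ker θ) (h0 : tw ε θ = -1)
    (hc : classInner (fun r : R => θ ⟨r, hR r.2⟩) ν ≠ 0) : ¬ NQ (ε.comp j) := by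
  have := Fintype.ofFinite (R.subgroupOf ε.ker)
  obtain ⟨π, h1, h3, h4⟩ := hs.exists_retr
  have hπ : ∀ g, (ε.comp j) (π g) = ε g := fun g => by
    have : ε (g * (j (π g))⁻¹) = 1 := hR (h1 g)
    rw [map_mul, map_inv, mul_inv_eq_one] at this
    exact this.symm
  let j0 : (ε.comp j).ker →* ε.ker := kerMap j fun _ => rfl
  have hν' := isIrrCharacter_subgroupOf hR hν
  have hz0 : (⟨z, hz⟩ : (ε.comp j).ker) ∈ Subgroup.center _ :=
    Subgroup.mem_center_iff.2 fun h => Subtype.ext (hzc h h.2)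
  have hf' : ∀ r : R.subgroupOf ε.ker, ∃ s r0, r0 ∈ charCenter (fun x : R.subgroupOf ε.ker =>
      ν ⟨(x : ε.ker), x.2⟩) ∧ r = s * r0 * (MulAut.conjNormal (j0 ⟨z, hz⟩) s)⁻¹ := fun r => by
    obtain ⟨s, r0, ⟨c, hc⟩, e⟩ := hf ⟨_, r.2⟩
    exact ⟨⟨⟨s, hR s.2⟩, s.2⟩, ⟨⟨r0, hR r0.2⟩, r0.2⟩, ⟨c, fun x => hc ⟨_, x.2⟩⟩,
      Subtype.ext (Subtype.ext (show ((⟨_, r.2⟩ : R) : L) = _ from congrArg Subtype.val e))⟩
  obtain ⟨W0, hW0, e0⟩ := exists_weil (N := R.subgroupOf ε.ker) (j := j0)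
    ⟨fun u => ⟨kerMap π hπ u, h1 u⟩, fun h hh => Subtype.ext (hs.eq_one h hh)⟩ hν'
    (fun g n => hinv g ⟨_, n.2⟩) hz0 hf'
  have e1 : (fun n : R.subgroupOf ε.ker => W0 n) = _ := funext e0
  have hz1 : ‖W0 (j0 ⟨z, hz⟩)‖ = 1 := norm_one (R.subgroupOf ε.ker).subtype Subtype.val_injective
    (by rw [Subgroup.range_subtype]; infer_instance) hW0 (e1 ▸ hν') _ (fun _ => rfl) (e1 ▸ hf')
  obtain ⟨μ, hμ1, hμ⟩ := exists_hom_of_ext_of_ext hW0 (e1 ▸ hν') (tst_char hW0 (j t)) fun n => by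
    rw [e0, ← hr, ← hinv (j t)]
    exact congrArg conj (e0 ⟨⟨_, hR (hn.conj_mem _ n.2 (j t))⟩, hn.conj_mem _ n.2 (j t)⟩)
  obtain ⟨D, -, hD⟩ := exists_D hz0 (Cfsg.IsCharacter.comp hW0 j0) hz1
  have hD' := hD (MulAut.conjNormal (H := (ε.comp j).ker) t).toMonoidHom (μ.comp j0) (Subtype.ext htz) fun g => by
    rw [MonoidHom.comp_apply, ← congrFun hμ (j0 g)]
    exact congrArg conj (congrArg W0 (Subtype.ext (by simp [j0])))
  let γ := (D.comp (kerMap π hπ))⁻¹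
  have hW := Cfsg.IsCharacter.mul hW0 (isCharacter_of_hom γ)
  set W := W0 * fun g => (γ g : ℂ) with hWd
  have e2 : (fun n : R.subgroupOf ε.ker => W n) = fun x : R.subgroupOf ε.ker => ν ⟨(x : ε.ker), x.2⟩ :=
    funext fun n => by
    have : kerMap π hπ n = 1 := Subtype.ext (h4 _ n.2)
    simp [hWd, γ, this, e0]
  have hWi := Cfsg.IsCharacter.irr_of_comp hW (R.subgroupOf ε.ker).subtype (e2 ▸ hν')
  have hWs : tst (j t) W = W := funext fun u => by
    have k1 := hD' (kerMap π hπ u)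
    have k2 : μ (j0 (kerMap π hπ u)) = μ u := by
      have := hμ1 (u * (j0 (kerMap π hπ u))⁻¹) (h1 u)
      rw [map_mul, map_inv, mul_inv_eq_one] at this
      exact this.symm
    have k3 : kerMap π hπ ⟨j t * u * (j t)⁻¹, Subgroup.Normal.conj_mem inferInstance _ u.2 _⟩ =
        MulAut.conjNormal t (kerMap π hπ u) := Subtype.ext (by simp [h3])
    have k4 := congrFun hμ u
    simp only [tst, cj_apply, hWd, Pi.mul_apply, map_mul, γ, MonoidHom.inv_apply, MonoidHom.comp_apply,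
      Units.val_inv_eq_inv_val, map_inv₀, k2, k3, MulEquiv.coe_toMonoidHom] at k1 k4 ⊢
    rw [k1, k4]
    field_simp
  have hWT := TR_of_tst (Cfsg.IsCharacter.isClassFunction hW) ht hWs
  have hW1 : tw ε W = 1 := by
    refine ((tw_cases hWi).resolve_left (tw_ne_of_TR hWi hWT ht)).resolve_right
      (tw_ne_of_dihedral hz ht (by rw [← map_mul, h2, map_one])
        (by rw [← map_inv, ← map_mul, ← map_mul, htz, map_inv]) hWi ?_)
    rw [hWd, Pi.mul_apply, norm_mul, H40.norm_eq_one_of_degree_one (isCharacter_of_hom γ) (by simp), mul_one]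
    exact hz1
  rw [← classInner_res_subgroupOf hR, ← e2] at hc
  obtain ⟨β, hβ, hk, rfl⟩ := gallagher_surj hW (e2 ▸ hν') hθ hc
  have hβT := TR_of_tst (Cfsg.IsIrrCharacter.isClassFunction hβ) ht (gallagher_inj hW (e2 ▸ hν')
    (tst_irr hβ (j t)) hβ (fun x hx => by
      rw [Cfsg.IsIrrCharacter.mem_charKer (tst_irr hβ (j t)), tst, tst, cj_apply_one]
      exact congrArg conj (apply_of_mem_charKer (hk (hn.conj_mem _ hx (j t))))) hk (by
      rw [← (TR_of_tw_ne hθ (by rw [h0]; norm_num)).tst_eq ht]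
      conv_lhs => rw [← hWs]
      funext u; simp [tst, cj]))
  rw [tw_mul hβ hWi hβT hWT hθ ht, hW1, mul_one] at h0
  exact tw_eq_of_ker hR hs hβ h0 fun r hr => apply_of_mem_charKer (hk hr)

/-- Heisenberg type normal subgroup with a complement -/
theorem NQ.of_heis (hR : R ≤ ε.ker) (hs : Split R j) {R0 : Subgroup L} (hle : R0 ≤ R)
    (hcen : ∀ r ∈ R0, ∀ g, g * r * g⁻¹ = r) (hsq0 : ∀ r ∈ R0, r * r = 1)
    (hcm : ∀ r ∈ R, ∀ s ∈ R, r * s * r⁻¹ * s⁻¹ ∈ R0) (hsq : ∀ r ∈ R, r * r ∈ R0)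
    (hnd : ∀ r ∈ R, r ∉ R0 → ∀ r0 ∈ R0, ∃ s ∈ R, s * r * s⁻¹ * r⁻¹ = r0)
    {z t : H} (hz : ε (j z) = 1) (hzc : ∀ h, ε (j h) = 1 → h * z = z * h) (ht : ε (j t) = -1)
    (h2 : t * t = 1) (htz : t * z * t⁻¹ = z⁻¹)
    (hf : ∀ r ∈ R, ∃ s ∈ R, ∃ r0 ∈ R0, r = s * r0 * (j z * s * (j z)⁻¹)⁻¹) (hH : NQ (ε.comp j))
    (hlin : ∀ lam : R →* ℂˣ, (∀ r : R, r.1 ∈ R0 → lam r = 1) →
      NQ ((ε.comp j).comp ((inertia fun r : R => (lam r : ℂ)).comap j).subtype)) : NQ ε := by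
  intro θ hθ h0
  have := Fintype.ofFinite R
  obtain ⟨ν, hν, hc⟩ := Cfsg.IsCharacter.exists_constituent
    (isCharacter_res_le hR (Cfsg.IsIrrCharacter.isCharacter hθ))
    fun e => Cfsg.IsIrrCharacter.apply_one_ne_zero hθ (congrFun e 1)
  have hν' := Cfsg.IsIrrCharacter.isCharacter hν
  have hZ : ∀ r : R, r.1 ∈ R0 → r ∈ Subgroup.center R := fun r hr =>
    Subgroup.mem_center_iff.2 fun g => Subtype.ext (mul_inv_eq_iff_eq_mul.1 (hcen r hr g))
  by_cases hk : ∀ r : R, r.1 ∈ R0 → r ∈ charKer ν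
  · obtain ⟨lam, rfl⟩ := Cfsg.IsCharacter.exists_hom hν' ((Cfsg.IsIrrCharacter.degree_one_iff hν).2
      (Subgroup.commutator_le.2 fun a _ b _ => hk _ (hcm a a.2 b b.2)))
    have h3 : ∀ r : R, r.1 ∈ R0 → lam r = 1 := fun r hr =>
      Units.ext (by simpa using apply_of_mem_charKer (hk r hr))
    exact clif_lin hR hs lam (fun r => by rw [← map_mul, h3 _ (hsq r r.2)]) hθ h0 hc (hlin lam h3)
  push Not at hk
  obtain ⟨r0, hr0, hk⟩ := hk
  have hv : ∀ r : R, r.1 ∉ R0 → ν r = 0 := fun r hr => by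
    obtain ⟨s, hs, e⟩ := hnd r r.2 hr r0 hr0
    have e' : (⟨s, hs⟩ : R) * r * (⟨s, hs⟩ : R)⁻¹ * r⁻¹ = r0 := Subtype.ext e
    exact Cfsg.IsClassFunction.eq_zero_of_commutator (Cfsg.IsCharacter.isClassFunction hν')
      (x := ⟨s, hs⟩) (e' ▸ Cfsg.IsIrrCharacter.center_le_charCenter hν (hZ r0 hr0)) (e' ▸ hk)
  refine weil_red hR hs hν (fun g n => ?_) (fun r => ?_) hz hzc ht h2 htz (fun r => ?_) hθ h0 hc hH
  · by_cases h : n.1 ∈ R0
    · exact congrArg ν (Subtype.ext (hcen _ h g))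
    · rw [hv n h, hv _ fun h' => h ?_]
      have := hcen _ h' g⁻¹
      simp only [inv_inv, ← mul_assoc, inv_mul_cancel, one_mul, inv_mul_cancel_right] at this
      exact this ▸ h'
  · by_cases h : r.1 ∈ R0
    · rw [← Cfsg.IsCharacter.apply_inv hν', inv_eq_of_mul_eq_one_right (Subtype.ext (hsq0 _ h) : r * r = 1)]
    · rw [hv r h, map_zero]
  · obtain ⟨s, hs, r1, h1, e⟩ := hf r r.2
    exact ⟨⟨s, hs⟩, ⟨r1, hle h1⟩, Cfsg.IsIrrCharacter.center_le_charCenter hν (hZ _ h1), Subtype.ext e⟩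

end H93.FS
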