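import Cfsg.Agent.H93.FS4

/-! Hermitian data in characteristic two: the twisted groups, splitting, generated rings. -/

set_option autoImplicit false

namespace H93.FS

universe u

section NQs
variable {G : Type*} [Group G]

/-- `NQ` for a subgroup of `G × ℤˣ` -/
def NQs (L : Subgroup (G × ℤˣ)) : Prop := NQ ((MonoidHom.snd G ℤˣ).comp L.subtype)

theorem NQs.of_map [Finite G] {L : Subgroup (G × ℤˣ)} {L' : Type*} [Group L'] [Finite L']
    {ε' : L' →* ℤˣ} (hN : NQ ε') (f : L' →* G × ℤˣ) (h : ∀ g, (f g).2 = ε' g) (hm : ∀ g, f g ∈ L)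
    (hs : ∀ l ∈ L, ∃ g, f g = l) : NQs L :=
  hN.of_surj (f.codRestrict L hm) h fun l => (hs l l.2).imp fun _ e => Subtype.ext e

theorem NQs.sub [Finite G] {L L' : Subgroup (G × ℤˣ)} (hN : NQs L') (hle : L' ≤ L) {ε : L →* ℤˣ}
    (hε : ∀ g, ε g = g.1.2) {M : Subgroup L} (hM : ∀ g : L, g ∈ M ↔ g.1 ∈ L') :
    NQ (ε.comp M.subtype) :=
  NQ.of_surj hN ((Subgroup.inclusion hle).codRestrict M fun g => (hM _).2 g.2) (fun _ => hε _)
    fun m => ⟨⟨_, (hM _).1 m.2⟩, rfl⟩

end NQs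

theorem exists_rep {V : Type*} [AddCommGroup V] [Finite V] (B : V →+ V →+ ZMod 2)
    (hB : ∀ x, (∀ y, B x y = 0) → x = 0) (φ : V →+ ZMod 2) : ∃ x, ∀ y, B x y = φ y := by
  letI : Module (ZMod 2) V := AddCommGroup.zmodModule fun x => hB _ fun y => by
    rw [map_nsmul, AddMonoidHom.nsmul_apply, two_nsmul, CharTwo.add_self_eq_zero]
  let T : V →ₗ[ZMod 2] Module.Dual (ZMod 2) V :=
    ((AddMonoidHom.toZModLinearMapEquiv 2).toAddMonoidHom.comp B).toZModLinearMap 2
  have hT : Function.Injective T := (injective_iff_map_eq_zero T).2 fun x hx =>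
    hB x fun y => LinearMap.congr_fun hx y
  obtain ⟨x, hx⟩ := (LinearMap.injective_iff_surjective_of_finrank_eq_finrank
    Subspace.dual_finrank_eq.symm).1 hT (φ.toZModLinearMap 2)
  exact ⟨x, fun y => LinearMap.congr_fun hx y⟩

theorem exists_dual {V X : Type*} [AddCommGroup V] [Finite V] [AddCommGroup X] (B : V →+ V →+ ZMod 2)
    (hB : ∀ x, (∀ y, B x y = 0) → x = 0) (i : X →+ V) (hi : Function.Injective i)
    (χ : Multiplicative X →* ℂˣ) : ∃ x0, ∀ x y, χ (Multiplicative.ofAdd x) = χ (Multiplicative.ofAdd y) ↔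
      B x0 (i x) = B x0 (i y) := by
  classical
  have h2 : ∀ x : V, 2 • x = 0 := fun x => hB _ fun y => by
    rw [map_nsmul, AddMonoidHom.nsmul_apply, two_nsmul, CharTwo.add_self_eq_zero]
  have h2' : ∀ x : X, 2 • x = 0 := fun x => hi (by rw [map_nsmul, h2, map_zero])
  letI : Module (ZMod 2) V := AddCommGroup.zmodModule h2
  letI : Module (ZMod 2) X := AddCommGroup.zmodModule h2'
  have hχ : ∀ x : X, χ (Multiplicative.ofAdd x) = 1 ∨ χ (Multiplicative.ofAdd x) = -1 := fun x => by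
    have : (χ (Multiplicative.ofAdd x) : ℂ) * χ (Multiplicative.ofAdd x) = 1 := by
      rw [← Units.val_mul, ← map_mul, ← ofAdd_add, ← two_nsmul, h2']; simp
    exact (mul_self_eq_one_iff.1 this).imp (fun h => Units.ext h) fun h => Units.ext h
  have hne : (-1 : ℂˣ) ≠ 1 := fun h => by
    have := congrArg Units.val h; norm_num at this
  let φ : X →+ ZMod 2 := AddMonoidHom.mk' (fun x => if χ (Multiplicative.ofAdd x) = 1 then 0 else 1)
    fun x y => by
      rw [ofAdd_add, map_mul]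
      rcases hχ x with a | a <;> rcases hχ y with b | b <;> simp [a, b, hne]
      rfl
  obtain ⟨p, hp⟩ := (i.toZModLinearMap 2).exists_leftInverse_of_injective (LinearMap.ker_eq_bot.2 hi)
  obtain ⟨x0, h⟩ := exists_rep B hB (φ.comp p.toAddMonoidHom)
  have h3 : ∀ x, B x0 (i x) = φ x := fun x => (h _).trans (congrArg φ (LinearMap.congr_fun hp x))
  refine ⟨x0, fun x y => ?_⟩
  rw [h3, h3]
  rcases hχ x with a | a <;> rcases hχ y with b | b <;> simp [φ, a, b, hne, hne.symm]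

/-- the identity or `σ` -/
def sg {A : Type*} [CommRing A] (σ : A →+* A) (e : ℤˣ) : A →+* A :=
  if e = 1 then RingHom.id A else σ

section
variable {A : Type*} [CommRing A] (σ : A →+* A)
@[simp] theorem sg_one (a : A) : sg σ 1 a = a := rfl
@[simp] theorem sg_neg (a : A) : sg σ (-1) a = σ a := rfl
variable {σ}
theorem sg_mul (h : ∀ a, σ (σ a) = a) (e e' : ℤˣ) (a : A) : sg σ (e * e') a = sg σ e (sg σ e' a) := by
  rcases Int.units_eq_one_or e with rfl | rfl <;> rcases Int.units_eq_one_or e' with rfl | rfl <;>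
    simp [h]
theorem sg_sg (h : ∀ a, σ (σ a) = a) (e : ℤˣ) (a : A) : sg σ e (sg σ e a) = a := by
  rw [← sg_mul h, Int.units_mul_self, sg_one]
theorem sg_σ (e : ℤˣ) (a : A) : sg σ e (σ a) = σ (sg σ e a) := by
  rcases Int.units_eq_one_or e with rfl | rfl <;> rfl
theorem sg_of_fix {a : A} (h : σ a = a) (e : ℤˣ) : sg σ e a = a := by
  rcases Int.units_eq_one_or e with rfl | rfl
  exacts [rfl, h]
end

/-- hermitian data -/
structure HD (A V : Type u) [CommRing A] [AddCommGroup V] [Module A V] where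
  σ : A →+* A
  β : V →+ V →+ ZMod 2
  z : A
  σσ : ∀ a, σ (σ a) = a
  alt : ∀ x, β x x = 0
  nd : ∀ x, (∀ y, β x y = 0) → x = 0
  adj : ∀ a x y, β (a • x) y = β x (σ a • y)
  ss : ∀ a : A, ∃ k, 0 < k ∧ ∀ x : V, a ^ 2 ^ k • x = a • x
  zz : ∀ x y : V, β (z • x) (z • y) = β x y
  z1 : ∀ x : V, z • x = x → x = 0

section Form
variable {V : Type*} [AddCommGroup V] {β : V →+ V →+ ZMod 2}

theorem sym_of_alt (h : ∀ x, β x x = 0) (x y : V) : β x y = β y x := by
  have := h (x + y)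
  simp only [map_add, AddMonoidHom.add_apply, h, zero_add, add_zero] at this
  rw [eq_neg_of_add_eq_zero_left this, ZMod.neg_eq_self_mod_two]

theorem ext_of_nd (h : ∀ x, (∀ y, β x y = 0) → x = 0) {x x' : V} (e : ∀ y, β x y = β x' y) : x = x' :=
  sub_eq_zero.1 (h _ fun y => by simp [e])

theorem perm_add (h : ∀ x, (∀ y, β x y = 0) → x = 0) {g : Equiv.Perm V}
    (hg : ∀ x y, β (g x) (g y) = β x y) (x y : V) : g (x + y) = g x + g y :=
  ext_of_nd h fun v => by
    obtain ⟨v, rfl⟩ := g.surjective v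
    simp [hg]

/-- a permutation from a form preserving map -/
noncomputable def mkP [Finite V] (h : ∀ x, (∀ y, β x y = 0) → x = 0) (f : V → V)
    (hf : ∀ x y, β (f x) (f y) = β x y) : Equiv.Perm V :=
  Equiv.ofBijective f (Finite.injective_iff_bijective.1 fun x y e =>
    ext_of_nd h fun v => by rw [← hf, e, hf])

@[simp] theorem mkP_apply [Finite V] (h : ∀ x, (∀ y, β x y = 0) → x = 0) (f : V → V)
    (hf : ∀ x y, β (f x) (f y) = β x y) (x : V) : mkP h f hf x = f x := rfl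

end Form

namespace HD
variable {A V : Type u} [CommRing A] [AddCommGroup V] [Module A V] (D : HD A V)

/-- the twisted unitary group, stabiliser of `w` -/
def L (w : V) : Subgroup (Equiv.Perm V × ℤˣ) where
  carrier := {g | (∀ x y, D.β (g.1 x) (g.1 y) = D.β x y) ∧
    (∀ a x, g.1 (a • x) = sg D.σ g.2 a • g.1 x) ∧ g.1 w = w}
  one_mem' := ⟨fun _ _ => rfl, fun _ _ => rfl, rfl⟩
  mul_mem' := fun {a b} ha hb => ⟨fun x y => by simp [ha.1, hb.1],
    fun c x => by simp [ha.2.1, hb.2.1, sg_mul D.σσ], by simp [ha.2.2, hb.2.2]⟩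
  inv_mem' := fun {a} ha => ⟨fun x y => by rw [← ha.1]; simp, fun c x => a.1.injective (by
    simp [ha.2.1, sg_sg D.σσ, Int.units_inv_eq_self]), a.1.injective (by simp [ha.2.2])⟩

variable {D}
theorem mem_L {w : V} {g : Equiv.Perm V × ℤˣ} : g ∈ D.L w ↔ (∀ x y, D.β (g.1 x) (g.1 y) = D.β x y) ∧
    (∀ a x, g.1 (a • x) = sg D.σ g.2 a • g.1 x) ∧ g.1 w = w := Iff.rfl

theorem L_add {w : V} {g : Equiv.Perm V × ℤˣ} (h : g ∈ D.L w) (x y : V) :
    g.1 (x + y) = g.1 x + g.1 y := perm_add D.nd h.1 x y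

theorem L_zero {w : V} {g : Equiv.Perm V × ℤˣ} (h : g ∈ D.L w) : g.1 0 = 0 := by
  simpa using h.2.1 0 0

theorem L_le (w : V) : D.L w ≤ D.L 0 := fun _ h => ⟨h.1, h.2.1, L_zero h⟩

variable (D)
include D in
theorem add_self (x : V) : x + x = 0 := D.nd _ fun y => by simp [CharTwo.add_self_eq_zero]

/-- restriction to a nondegenerate submodule -/
def res (W : Submodule A V) (h : ∀ x ∈ W, (∀ y ∈ W, D.β x y = 0) → x = 0) : HD A W where
  σ := D.σ
  β := (D.β.comp W.subtype.toAddMonoidHom).compl₂ W.subtype.toAddMonoidHom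
  z := D.z
  σσ := D.σσ
  alt x := D.alt x
  nd x hx := Subtype.ext (h x x.2 fun y hy => hx ⟨y, hy⟩)
  adj a x y := D.adj a x y
  ss a := (D.ss a).imp fun _ hk => ⟨hk.1, fun x => Subtype.ext (hk.2 x)⟩
  zz x y := D.zz x y
  z1 x hx := Subtype.ext (D.z1 x (congrArg Subtype.val hx))

@[simp] theorem res_β (W : Submodule A V) (h) (x y : W) : (D.res W h).β x y = D.β x y := rfl
@[simp] theorem res_σ (W : Submodule A V) (h) : (D.res W h).σ = D.σ := rfl

theorem nd_left {W W' : Submodule A V} (hc : IsCompl W W') (ho : ∀ x ∈ W, ∀ y ∈ W', D.β x y = 0) :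
    ∀ x ∈ W, (∀ y ∈ W, D.β x y = 0) → x = 0 := fun x hx h => D.nd x fun y => by
  obtain ⟨a, b, rfl, -⟩ := Submodule.existsUnique_add_of_isCompl hc y
  rw [map_add, h a a.2, ho x hx b b.2, add_zero]

theorem nd_right {W W' : Submodule A V} (hc : IsCompl W W') (ho : ∀ x ∈ W, ∀ y ∈ W', D.β x y = 0) :
    ∀ x ∈ W', (∀ y ∈ W', D.β x y = 0) → x = 0 :=
  D.nd_left hc.symm fun x hx y hy => by rw [sym_of_alt D.alt, ho y hy x hx]

theorem split [Finite V] {W W' : Submodule A V} (hc : IsCompl W W')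
    (ho : ∀ x ∈ W, ∀ y ∈ W', D.β x y = 0) (x : W) (x' : W')
    (hp : ∀ g ∈ D.L (x + x'), (∀ v ∈ W, g.1 v ∈ W) ∧ ∀ v ∈ W', g.1 v ∈ W')
    (h1 : NQs ((D.res W (D.nd_left hc ho)).L x)) (h2 : NQs ((D.res W' (D.nd_right hc ho)).L x')) :
    NQs (D.L (x + x')) := by
  obtain ⟨e, he⟩ : ∃ e : W × W' ≃ V, ∀ y : W × W', e y = y.1 + y.2 :=
    ⟨(Submodule.prodEquivOfIsCompl W W' hc).toEquiv, fun _ => rfl⟩
  have hb : ∀ (a c : W) (b d : W'), D.β (a + b) (c + d) = D.β a c + D.β b d := fun a c b d => by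
    rw [map_add, map_add D.β, AddMonoidHom.add_apply, AddMonoidHom.add_apply, ho a a.2 d d.2,
      sym_of_alt D.alt b, ho c c.2 b b.2, add_zero, zero_add]
  refine NQs.of_map (NQ.fp h1 h2) (MonoidHom.mk' (fun g => (e.permCongr
    (g.1.1.1.1.prodCongr g.1.2.1.1), g.1.1.1.2)) fun a b => Prod.ext (Equiv.ext fun v => by simp [Prod.map]) rfl)
    (fun _ => rfl) (fun g => ?_) fun g hg => ?_
  · obtain ⟨⟨⟨⟨g, ε⟩, hg⟩, ⟨⟨g', ε'⟩, hg'⟩⟩, h⟩ := g
    obtain rfl : ε = ε' := h
    have k : ∀ y : W × W', e.permCongr (g.prodCongr g') (e y) = g y.1 + g' y.2 := fun y => by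
      rw [Equiv.permCongr_apply, e.symm_apply_apply, he]; rfl
    change (e.permCongr (g.prodCongr g'), ε) ∈ _
    generalize e.permCongr (g.prodCongr g') = p at k
    refine ⟨fun u v => ?_, fun a u => ?_, (congrArg p (he (x, x')).symm).trans ((k (x, x')).trans
      (congrArg₂ (fun (a : W) (b : W') => (a : V) + b) hg.2.2 hg'.2.2))⟩
    · obtain ⟨u, rfl⟩ := e.surjective u
      obtain ⟨v, rfl⟩ := e.surjective v
      have a1 : D.β (g u.1) (g v.1) = D.β u.1 v.1 := hg.1 u.1 v.1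
      have a2 : D.β (g' u.2) (g' v.2) = D.β u.2 v.2 := hg'.1 u.2 v.2
      rw [k u, k v, he u, he v, hb (g u.1) (g v.1), hb u.1 v.1, a1, a2]
    · obtain ⟨u, rfl⟩ := e.surjective u
      have a1 : g (a • u.1) = sg D.σ ε a • g u.1 := hg.2.1 a u.1
      have a2 : g' (a • u.2) = sg D.σ ε a • g' u.2 := hg'.2.1 a u.2
      rw [show a • e u = e (a • u) by rw [he, he, smul_add]; rfl, k, k, Prod.smul_fst, Prod.smul_snd,
        a1, a2, smul_add]
      rfl
  · obtain ⟨p1, p2⟩ := hp g hg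
    have h3 := hg.2.2
    rw [L_add hg] at h3
    have h4 : (⟨g.1 x, p1 x x.2⟩, ⟨g.1 x', p2 x' x'.2⟩) = (x, x') :=
      e.injective (by rw [he, he]; exact h3)
    refine ⟨⟨(⟨(mkP (D.res W (D.nd_left hc ho)).nd (fun v => ⟨g.1 v, p1 v v.2⟩) fun u v => hg.1 u v, g.2),
      fun u v => hg.1 u v, fun a u => Subtype.ext (hg.2.1 a u), congrArg Prod.fst h4⟩,
      ⟨(mkP (D.res W' (D.nd_right hc ho)).nd (fun v => ⟨g.1 v, p2 v v.2⟩) fun u v => hg.1 u v, g.2),
      fun u v => hg.1 u v, fun a u => Subtype.ext (hg.2.1 a u), congrArg Prod.snd h4⟩), rfl⟩,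
      Prod.ext (Equiv.ext fun v => ?_) rfl⟩
    obtain ⟨v, rfl⟩ := e.surjective v
    simp only [MonoidHom.mk'_apply, Equiv.permCongr_apply, e.symm_apply_apply]
    rw [he, he, L_add hg v.1]; rfl

end HD

/-- compatibility of a signed permutation with an endomorphism -/
def Cmp {V : Type*} [AddCommGroup V] (β : V →+ V →+ ZMod 2) (g : Equiv.Perm V × ℤˣ) (a : V → V) :
    Prop := ∀ x y, β (g.1 (a x)) y = if g.2 = 1 then β (a (g.1 x)) y else β (g.1 x) (a y)

theorem HD.cmp_iff {A V : Type u} [CommRing A] [AddCommGroup V] [Module A V] (D : HD A V)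
    (g : Equiv.Perm V × ℤˣ) (a : A) :
    Cmp D.β g (a • ·) ↔ ∀ x, g.1 (a • x) = sg D.σ g.2 a • g.1 x := by
  refine forall_congr' fun x => ?_
  have : ∀ y, (if g.2 = 1 then D.β (a • g.1 x) y else D.β (g.1 x) (a • y)) =
      D.β (sg D.σ g.2 a • g.1 x) y := fun y => by
    rcases Int.units_eq_one_or g.2 with h | h <;> simp [h, D.adj, D.σσ]
  simp only [this]
  exact ⟨ext_of_nd D.nd, fun h y => by rw [h]⟩

theorem add_pow_two_pow {A : Type*} [CommRing A] (h : (2 : A) = 0) (a b : A) (k : ℕ) :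
    (a + b) ^ 2 ^ k = a ^ 2 ^ k + b ^ 2 ^ k := by
  induction k with
  | zero => simp
  | succ k ih => rw [pow_succ, pow_mul, pow_mul, pow_mul, ih, add_sq, h]; ring

theorem pow_two_pow_mul {M : Type*} [Monoid M] {a : M} {k : ℕ} (h : a ^ 2 ^ k = a) (l : ℕ) :
    a ^ 2 ^ (k * l) = a := by
  induction l with
  | zero => simp
  | succ l ih => rw [mul_add, mul_one, pow_add, pow_mul, ih, h]

/-- the ring generated by commuting semisimple endomorphisms -/
theorem exists_HD {V : Type u} [AddCommGroup V] [Finite V] (β : V →+ V →+ ZMod 2)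
    (alt : ∀ x, β x x = 0) (nd : ∀ x, (∀ y, β x y = 0) → x = 0) (S : Set (AddMonoid.End V))
    (hc : ∀ a ∈ S, ∀ b ∈ S, a * b = b * a)
    (ha : ∀ a ∈ S, ∃ b ∈ S, ∀ x y, β (a x) y = β x (b y))
    (hs : ∀ a ∈ S, ∃ k, 0 < k ∧ a ^ 2 ^ k = a) {z : AddMonoid.End V} (hz : z ∈ S)
    (zz : ∀ x y, β (z x) (z y) = β x y) (z1 : ∀ x, z x = x → x = 0) :
    ∃ (A : Type u) (_ : CommRing A) (_ : Module A V) (D : HD A V), Finite A ∧
      (∀ a : A, (∀ x : V, a • x = 0) → a = 0) ∧ ∀ w g, g ∈ D.L w ↔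
        (∀ x y, β (g.1 x) (g.1 y) = β x y) ∧ (∀ a ∈ S, Cmp β g a) ∧ g.1 w = w := by
  let A := Subring.closure S
  letI : CommRing A := { (inferInstance : Ring A) with
    mul_comm := (Subring.isMulCommutative_closure hc).is_comm.comm }
  have hf : ∀ a b : A, (∀ x : V, a • x = b • x) → a = b := fun a b h => Subtype.ext (AddMonoidHom.ext h)
  have hf' : ∀ a b : A, (∀ x y : V, β x (a • y) = β x (b • y)) → a = b := fun a b h =>
    hf a b fun y => ext_of_nd nd fun x => by rw [sym_of_alt alt, h, sym_of_alt alt]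
  have h1 : ∀ a : A, ∃ b : A, ∀ x y, β (a • x) y = β x (b • y) := by
    rintro ⟨a, h⟩
    induction h using Subring.closure_induction with
    | mem a h =>
      obtain ⟨b, hb, e⟩ := ha a h
      exact ⟨⟨b, Subring.subset_closure hb⟩, e⟩
    | zero => exact ⟨0, fun x y => by change β 0 y = β x 0; simp⟩
    | one => exact ⟨1, fun x y => rfl⟩
    | add a b h h' ih ih' =>
      obtain ⟨c, hc⟩ := ih
      obtain ⟨d, hd⟩ := ih'
      exact ⟨c + d, fun x y => by
        rw [add_smul, map_add, ← hc, ← hd, ← AddMonoidHom.add_apply, ← map_add]; rfl⟩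
    | neg a h ih =>
      obtain ⟨c, hc⟩ := ih
      exact ⟨-c, fun x y => by rw [neg_smul, map_neg, ← hc, ← AddMonoidHom.neg_apply, ← map_neg]; rfl⟩
    | mul a b h h' ih ih' =>
      obtain ⟨c, hc⟩ := ih
      obtain ⟨d, hd⟩ := ih'
      exact ⟨d * c, fun x y => by rw [mul_smul, ← hd, ← hc]; rfl⟩
  choose s hs' using h1
  have h2 : (2 : A) = 0 := hf _ _ fun x => by
    rw [two_smul, zero_smul]; exact nd _ fun y => by simp [CharTwo.add_self_eq_zero]
  let σ : A →+* A :=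
    { toFun := s
      map_one' := hf' _ _ fun x y => by rw [← hs', one_smul, one_smul]
      map_mul' := fun a b => hf' _ _ fun x y => by
        rw [← hs', mul_comm (s a), mul_smul, mul_smul, ← hs', ← hs']
      map_zero' := hf' _ _ fun x y => by rw [← hs']; simp
      map_add' := fun a b => hf' _ _ fun x y => by rw [← hs']; simp [add_smul, hs'] }
  have h3 : ∀ a : A, ∃ k, 0 < k ∧ a ^ 2 ^ k = a := by
    rintro ⟨a, h⟩
    induction h using Subring.closure_induction with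
    | mem a h => exact (hs a h).imp fun k hk => ⟨hk.1, Subtype.ext hk.2⟩
    | zero => exact ⟨1, one_pos, Subtype.ext (by simp)⟩
    | one => exact ⟨1, one_pos, Subtype.ext (by simp)⟩
    | add a b h h' ih ih' =>
      obtain ⟨k, hk, e⟩ := ih
      obtain ⟨l, hl, e'⟩ := ih'
      exact ⟨k * l, mul_pos hk hl, (add_pow_two_pow h2 ⟨a, h⟩ ⟨b, h'⟩ _).trans (by
        rw [pow_two_pow_mul e, mul_comm k, pow_two_pow_mul e']; rfl)⟩
    | neg a h ih =>
      have : (⟨-a, neg_mem h⟩ : A) = ⟨a, h⟩ := by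
        change -(⟨a, h⟩ : A) = _
        linear_combination (-(⟨a, h⟩ : A)) * h2
      rwa [this]
    | mul a b h h' ih ih' =>
      obtain ⟨k, hk, e⟩ := ih
      obtain ⟨l, hl, e'⟩ := ih'
      exact ⟨k * l, mul_pos hk hl, (mul_pow (⟨a, h⟩ : A) ⟨b, h'⟩ _).trans (by
        rw [pow_two_pow_mul e, mul_comm k, pow_two_pow_mul e']; rfl)⟩
  let D : HD A V :=
    { σ := σ, β := β, z := ⟨z, Subring.subset_closure hz⟩, alt := alt, nd := nd, adj := hs'
      σσ := fun a => hf' _ _ fun x y => by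
        rw [show σ (σ a) = s (s a) from rfl, ← hs', sym_of_alt alt, ← hs', sym_of_alt alt]
      ss := fun a => (h3 a).imp fun k hk => ⟨hk.1, fun x => by rw [hk.2]⟩
      zz := zz, z1 := z1 }
  have : Finite (AddMonoid.End V) := Finite.of_injective _ DFunLike.coe_injective
  refine ⟨A, inferInstance, inferInstance, D, inferInstance, fun a h => hf _ _ (by simpa using h),
    fun w g => and_congr_right fun hg => and_congr_left fun _ => ⟨fun h a ha =>
      (D.cmp_iff g ⟨a, Subring.subset_closure ha⟩).2 (h _), fun h => ?_⟩⟩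
  rintro ⟨a, ha⟩
  have hadd := perm_add nd hg
  induction ha using Subring.closure_induction with
  | mem a ha => exact (D.cmp_iff g ⟨a, Subring.subset_closure ha⟩).1 (h a ha)
  | zero =>
    intro x
    have := hadd 0 0
    rw [add_zero, left_eq_add] at this
    exact this.trans (by rw [show (⟨0, _⟩ : A) = 0 from rfl, map_zero, zero_smul])
  | one => exact fun x => by rw [show (⟨1, _⟩ : A) = 1 from rfl, map_one, one_smul, one_smul]
  | add a b h h' ih ih' =>
    exact fun x => by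
      rw [show (⟨a + b, _⟩ : A) = ⟨a, h⟩ + ⟨b, h'⟩ from rfl, map_add, add_smul, add_smul, hadd, ih, ih']
  | neg a h ih =>
    have : (⟨-a, neg_mem h⟩ : A) = ⟨a, h⟩ := by
      change -(⟨a, h⟩ : A) = _
      linear_combination (-(⟨a, h⟩ : A)) * h2
    rwa [this]
  | mul a b h h' ih ih' =>
    exact fun x => by
      rw [show (⟨a * b, _⟩ : A) = ⟨a, h⟩ * ⟨b, h'⟩ from rfl, map_mul, mul_smul, mul_smul, ih, ih']

end H93.FS
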