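import Cfsg.Agent.H93.FS5

/-! Hermitian forms over a simple ring with involution in characteristic two. -/

set_option autoImplicit false

namespace H93.FS

universe u

variable {A V : Type u} [CommRing A] [AddCommGroup V] [Module A V]

/-- hermitian form attached to simple data -/
structure HF (D : HD A V) where
  h : V →ₗ[A] V →ₛₗ[D.σ] A
  l : A →+ ZMod 2
  c0 : A
  hc0 : c0 + D.σ c0 = 1
  two : (2 : A) = 0
  smp : ∀ a : A, a ≠ 0 → ∃ b c, b * a + c * D.σ a = 1
  zz : D.z * D.σ D.z = 1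
  z1 : D.z ≠ 1
  lσ : ∀ a, l (D.σ a) = l a
  lnd : ∀ a, (∀ b, l (b * a) = 0) → a = 0
  spec : ∀ x y, D.β x y = l (h x y)

theorem exists_HF [Finite A] [Nontrivial V] (D : HD A V) (hf : ∀ a : A, (∀ x : V, a • x = 0) → a = 0)
    (hs : ∀ a : A, a ≠ 0 → ∃ b c, b * a + c * D.σ a = 1) : Nonempty (HF D) := by
  have two : (2 : A) = 0 := hf _ fun x => by rw [two_smul, D.add_self]
  have zz : D.z * D.σ D.z = 1 := sub_eq_zero.1 (hf _ fun y => D.nd _ fun x => by
    rw [sym_of_alt D.alt, sub_smul, map_sub, mul_comm, mul_smul, ← D.adj, D.zz, one_smul, sub_self])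
  obtain ⟨x0, hx0⟩ := exists_ne (0 : V)
  have z1 : D.z ≠ 1 := fun h => hx0 (D.z1 _ (by rw [h, one_smul]))
  have hu : D.z + D.σ D.z ≠ 0 := fun h => by
    have k : ∀ x : V, (D.z - 1) • x = 0 → x = 0 := fun x hx =>
      D.z1 x (by rwa [sub_smul, one_smul, sub_eq_zero] at hx)
    refine hx0 (k _ (k _ ?_))
    rw [← mul_smul, show (D.z - 1) * (D.z - 1) = 0 by linear_combination D.z * h - zz + (-D.z) * two,
      zero_smul]
  obtain ⟨b, c, hbc⟩ := hs _ hu
  rw [map_add, D.σσ, add_comm (D.σ _), ← add_mul] at hbc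
  have hbc' := congrArg D.σ hbc
  rw [map_mul, map_add D.σ D.z, D.σσ, map_one] at hbc'
  have hc0 : D.z * (b + c) + D.σ (D.z * (b + c)) = 1 := by
    rw [map_mul]
    linear_combination (1 - D.σ D.z * D.σ (b + c)) * hbc + D.σ D.z * (b + c) * hbc'
  letI : Module (ZMod 2) A := AddCommGroup.zmodModule fun x => by rw [two_nsmul, ← two_mul, two, zero_mul]
  have h1 : (1 : A) ≠ 0 := fun h => hx0 (by rw [← one_smul A x0, h, zero_smul])
  obtain ⟨l0, hl0⟩ := not_forall.1 ((Module.forall_dual_apply_eq_zero_iff (ZMod 2) (1 : A)).not.2 h1)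
  let l : A →+ ZMod 2 := l0.toAddMonoidHom.comp (AddMonoidHom.id A + D.σ.toAddMonoidHom)
  have hl : ∀ a, l a = l0 (a + D.σ a) := fun _ => rfl
  have lσ : ∀ a, l (D.σ a) = l a := fun a => by rw [hl, hl, D.σσ, add_comm]
  have lnd : ∀ a, (∀ b, l (b * a) = 0) → a = 0 := fun a ha => by
    by_contra h
    obtain ⟨p, q, e⟩ := hs a h
    refine hl0 ?_
    rw [← hc0, ← hl, ← mul_one (D.z * (b + c)), ← e, mul_add, map_add, ← mul_assoc, ha, ← lσ, ← mul_assoc,
      map_mul, D.σσ, ha, add_zero]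
  have hext : ∀ a a', (∀ b, l (b * a) = l (b * a')) → a = a' := fun a a' h =>
    sub_eq_zero.1 (lnd _ fun b => by rw [mul_sub, map_sub, h, sub_self])
  have hex : ∀ x y : V, ∃ c, ∀ a, l (a * c) = D.β (a • x) y := fun x y =>
    exists_rep ((AddMonoidHom.mul (R := A)).flip.compr₂ l) lnd
      ((D.β.flip y).comp ((smulAddHom A V).flip x))
  choose h hh using hex
  exact ⟨{
    h := LinearMap.mk₂'ₛₗ (RingHom.id A) D.σ h
      (fun x x' y => hext _ _ fun b => by simp [hh, mul_add])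
      (fun a x y => hext _ _ fun b => by simp [hh, ← mul_assoc, mul_smul])
      (fun x y y' => hext _ _ fun b => by simp [hh, mul_add])
      (fun a x y => hext _ _ fun b => by
        rw [smul_eq_mul, ← mul_assoc, hh, hh, mul_comm, mul_smul, D.adj (D.σ a), D.σσ])
    l := l, c0 := _, hc0 := hc0, two := two, smp := hs, zz := zz, z1 := z1, lσ := lσ, lnd := lnd
    spec := fun x y => by rw [LinearMap.mk₂'ₛₗ_apply, ← one_mul (h x y), hh, one_smul] }⟩

namespace HF
variable {D : HD A V} (F : HF D)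

theorem hext {a a' : A} (h : ∀ b, F.l (b * a) = F.l (b * a')) : a = a' :=
  sub_eq_zero.1 (F.lnd _ fun b => by rw [mul_sub, map_sub, h, sub_self])

theorem spec' (a : A) (x y : V) : F.l (a * F.h x y) = D.β (a • x) y := by
  rw [F.spec, map_smul]; rfl

theorem symm (x y : V) : D.σ (F.h x y) = F.h y x := F.hext fun b => by
  rw [← F.lσ, map_mul, D.σσ, F.spec', F.spec', D.adj, D.σσ, sym_of_alt D.alt]

theorem nd {x : V} (h : ∀ y, F.h x y = 0) : x = 0 := D.nd x fun y => by rw [F.spec, h, map_zero]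

theorem lsg (e : ℤˣ) (a : A) : F.l (sg D.σ e a) = F.l a := by
  rcases Int.units_eq_one_or e with rfl | rfl
  exacts [rfl, F.lσ a]

theorem L_h {w : V} {g : Equiv.Perm V × ℤˣ} (hg : g ∈ D.L w) (x y : V) :
    F.h (g.1 x) (g.1 y) = sg D.σ g.2 (F.h x y) := F.hext fun b => by
  rw [F.spec', ← F.lsg g.2, map_mul, sg_sg D.σσ, F.spec', ← hg.1 (_ • x), hg.2.1, sg_sg D.σσ]

theorem pres {f : V → V} {e : ℤˣ} (h : ∀ x y, F.h (f x) (f y) = sg D.σ e (F.h x y)) (x y : V) :
    D.β (f x) (f y) = D.β x y := by rw [F.spec, h, F.lsg, F.spec]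

include F in
theorem unit {a : A} (h0 : a ≠ 0) (h : D.σ a = a) : ∃ d, d * a = 1 ∧ D.σ d = d := by
  obtain ⟨b, c, e⟩ := F.smp a h0
  rw [h, ← add_mul] at e
  have := congrArg D.σ e
  rw [map_mul, h, map_one] at this
  exact ⟨_, e, by linear_combination (b + c) * this - D.σ (b + c) * e⟩

/-- restriction -/
def res (W : Submodule A V) (hW : ∀ x ∈ W, (∀ y ∈ W, D.β x y = 0) → x = 0) : HF (D.res W hW) :=
  { F with h := F.h.domRestrict₁₂ W W, spec := fun x y => F.spec x y }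

theorem aniso {w : V} (hw : F.h w w ≠ 0) : IsCompl (Submodule.span A {w}) (LinearMap.ker (F.h.flip w)) ∧
    ∀ x ∈ Submodule.span A {w}, ∀ y ∈ LinearMap.ker (F.h.flip w), D.β x y = 0 := by
  obtain ⟨d, hd, -⟩ := F.unit hw (F.symm w w)
  refine ⟨⟨Submodule.disjoint_def.2 fun x hx hx' => ?_, codisjoint_iff.2 (eq_top_iff.2 fun v _ => ?_)⟩,
    fun x hx y hy => ?_⟩
  · obtain ⟨a, rfl⟩ := Submodule.mem_span_singleton.1 hx
    have : a * F.h w w = 0 := by simpa using hx'
    rw [show a = 0 by linear_combination d * this - a * hd, zero_smul]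
  · refine Submodule.mem_sup.2 ⟨(F.h v w * d) • w, Submodule.mem_span_singleton.2 ⟨_, rfl⟩,
      v - (F.h v w * d) • w, ?_, by abel⟩
    simp [mul_assoc, hd]
  · obtain ⟨a, rfl⟩ := Submodule.mem_span_singleton.1 hx
    have : F.h y w = 0 := hy
    rw [← F.spec', ← F.symm, this, map_zero, mul_zero, map_zero]

end HF

theorem card_lt_of_notMem [Finite V] {W : Submodule A V} {w : V} (h : w ∉ W) :
    Nat.card W < Nat.card V := Finite.card_subtype_lt h

theorem exists_inv (n : ℕ) : ∀ {V : Type u} [AddCommGroup V] [Module A V] [Finite V] {D : HD A V}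
    (_ : HF D), Nat.card V = n → ∃ t ∈ D.L 0, t.2 = -1 ∧ t * t = 1 := by
  induction n using Nat.strong_induction_on with
  | _ n ih =>
  intro V _ _ _ D F hn
  by_cases h0 : ∀ w, F.h w w = 0
  · have : ∀ x : V, x = 0 := fun x => F.nd fun y => by
      have := h0 (F.c0 • x + y)
      simp only [map_add, map_smul, map_smulₛₗ, LinearMap.add_apply, LinearMap.smul_apply, h0,
        smul_eq_mul, mul_zero, zero_add, add_zero] at this
      have h1 := h0 (x + y)
      simp only [map_add, LinearMap.add_apply, h0, zero_add, add_zero] at h1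
      linear_combination this - D.σ F.c0 * h1 + F.h x y * F.hc0 + (F.h x y - F.h x y * F.c0) * F.two
    exact ⟨(1, -1), ⟨fun _ _ => rfl, fun _ _ => (this _).trans (this _).symm, rfl⟩, rfl, by simp⟩
  push Not at h0
  obtain ⟨w, hw⟩ := h0
  obtain ⟨hc, ho⟩ := F.aniso hw
  obtain ⟨d, hd, -⟩ := F.unit hw (F.symm w w)
  obtain ⟨⟨t, e⟩, ht, rfl, h2⟩ := ih _ (hn ▸ card_lt_of_notMem (w := w) hw)
    (F.res _ (D.nd_right hc ho)) rfl
  have hk : ∀ v : LinearMap.ker (F.h.flip w), F.h v w = 0 ∧ F.h w v = 0 := fun v =>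
    ⟨v.2, by rw [← F.symm, show F.h v w = 0 from v.2, map_zero]⟩
  let f : V → V := fun v => D.σ (F.h v w * d) • w +
    t ⟨v - (F.h v w * d) • w, by simp [mul_assoc, hd]⟩
  have k : ∀ (a : A) (v : LinearMap.ker (F.h.flip w)), f (a • w + v) = D.σ a • w + t v := fun a v => by
    have : F.h (a • w + v) w * d = a := by simp [hk, mul_assoc, mul_comm (F.h w w) d, hd]
    simp only [f, this, add_sub_cancel_left]
  have dec : ∀ v, ∃ (a : A) (v' : LinearMap.ker (F.h.flip w)), v = a • w + v' := fun v =>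
    ⟨F.h v w * d, ⟨v - (F.h v w * d) • w, by simp [mul_assoc, hd]⟩, by simp⟩
  refine ⟨(mkP D.nd f (F.pres (e := -1) fun x y => ?_), -1), ⟨F.pres (e := -1) fun x y => ?_,
    fun a x => ?_, ?_⟩, rfl, Prod.ext (Equiv.ext fun x => ?_) (by simp)⟩
  iterate 2
    obtain ⟨a, x, rfl⟩ := dec x
    obtain ⟨b, y, rfl⟩ := dec y
    have : F.h (t x) (t y) = D.σ (F.h x y) := (F.res _ _).L_h ht x y
    simp [k, hk, this, F.symm, D.σσ]
  · obtain ⟨b, x, rfl⟩ := dec x
    have h3 : t (a • x) = D.σ a • t x := ht.2.1 a x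
    have := k (a * b) (a • x)
    simp only [h3, Submodule.coe_smul, mul_smul, map_mul, ← smul_add] at this
    rw [mkP_apply, mkP_apply, this, k, sg_neg]
  · have := k 0 0
    have h3 : t 0 = 0 := ht.2.2
    simpa [h3] using this
  · obtain ⟨b, x, rfl⟩ := dec x
    have h3 : t (t x) = x := congrArg (fun g : Equiv.Perm _ × ℤˣ => g.1 x) h2
    simp [k, h3, D.σσ]

theorem HF.nq_aniso [Finite V] {D : HD A V} (F : HF D) {w : V} (hw : F.h w w ≠ 0)
    (ih : ∀ (W : Submodule A V) (hW), Nat.card W < Nat.card V → NQs ((D.res W hW).L 0)) :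
    NQs (D.L w) := by
  obtain ⟨hc, ho⟩ := F.aniso hw
  have := D.split hc ho ⟨w, Submodule.mem_span_singleton_self w⟩ 0 (fun g hg => ?_)
    (NQ.of_triv fun u hu => Subtype.ext (Prod.ext (Equiv.ext fun v => ?_) hu))
    (ih _ _ (card_lt_of_notMem (w := w) hw))
  · simpa using this
  · simp only [ZeroMemClass.coe_zero, add_zero] at hg
    refine ⟨fun v hv => ?_, fun v hv => ?_⟩
    · obtain ⟨a, rfl⟩ := Submodule.mem_span_singleton.1 hv
      rw [hg.2.1, hg.2.2]
      exact Submodule.mem_span_singleton.2 ⟨_, rfl⟩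
    · change F.h _ _ = 0
      rw [← hg.2.2, F.L_h hg, show F.h v w = 0 from hv, map_zero]
  · obtain ⟨v, hv⟩ := v
    obtain ⟨a, rfl⟩ := Submodule.mem_span_singleton.1 hv
    have h1 : u.1.2 = 1 := hu
    have := u.2.2.1 a ⟨w, Submodule.mem_span_singleton_self w⟩
    rw [u.2.2.2, h1] at this
    exact this

theorem HF.exists_partner {D : HD A V} (F : HF D) {w : V} (h0 : w ≠ 0) (hw : F.h w w = 0)
    {t : Equiv.Perm V × ℤˣ} (ht : t ∈ D.L w) (h1 : t.2 = -1) : ∃ f, F.h w f = 1 ∧ F.h f f = 0 := by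
  obtain ⟨y, hy⟩ := not_forall.1 fun h => h0 (F.nd h)
  obtain ⟨b, c, e⟩ := F.smp _ hy
  have h2 := F.L_h ht w y
  rw [ht.2.2, h1, sg_neg] at h2
  obtain ⟨f, hf⟩ : ∃ f, F.h w f = 1 := ⟨D.σ b • y + D.σ c • t.1 y, by simp [D.σσ, h2, e]⟩
  have hf' : F.h f w = 1 := by rw [← F.symm, hf, map_one]
  refine ⟨f + (F.c0 * F.h f f) • w, by simp [hf, hw], ?_⟩
  simp only [map_add, map_smul, map_smulₛₗ, LinearMap.add_apply, LinearMap.smul_apply, smul_eq_mul, hf,
    hf', hw, map_mul, F.symm]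
  linear_combination F.h f f * F.hc0 + F.h f f * F.two

end H93.FS
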