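import Cfsg.Agent.H93.FS6

/-! The stabiliser of an isotropic vector in a twisted unitary group. -/

set_option autoImplicit false

namespace H93.FS

universe u

variable {A V : Type u} [CommRing A] [AddCommGroup V] [Module A V] {D : HD A V}

/-- a hyperbolic pair -/
structure Fr (F : HF D) where
  w : V
  f : V
  ww : F.h w w = 0
  ff : F.h f f = 0
  wf : F.h w f = 1
  fw : F.h f w = 1

namespace Fr
variable {F : HF D} (P : Fr F)

attribute [simp] ww ff wf fw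

/-- the complement -/
def W : Submodule A V := LinearMap.ker (F.h.flip P.w) ⊓ LinearMap.ker (F.h.flip P.f)

@[simp] theorem W_w (v : P.W) : F.h v P.w = 0 := v.2.1
@[simp] theorem W_f (v : P.W) : F.h v P.f = 0 := v.2.2
@[simp] theorem w_W (v : P.W) : F.h P.w v = 0 := by rw [← F.symm, W_w, map_zero]
@[simp] theorem f_W (v : P.W) : F.h P.f v = 0 := by rw [← F.symm, W_f, map_zero]

/-- projection to the complement -/
def pr : V →ₗ[A] P.W :=
  (LinearMap.id - (F.h.flip P.f).smulRight P.w - (F.h.flip P.w).smulRight P.f).codRestrict _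
    fun v => ⟨by simp, by simp⟩

theorem coe_pr (v : V) : (P.pr v : V) = v - F.h v P.f • P.w - F.h v P.w • P.f := rfl

@[simp] theorem pr_w : P.pr P.w = 0 := Subtype.ext (by simp [coe_pr])
@[simp] theorem pr_f : P.pr P.f = 0 := Subtype.ext (by simp [coe_pr])
@[simp] theorem pr_W (v : P.W) : P.pr v = v := Subtype.ext (by simp [coe_pr])

theorem dec (v : V) : v = F.h v P.f • P.w + F.h v P.w • P.f + P.pr v := by rw [coe_pr]; abel

theorem dec' (v : V) : ∃ (a b : A) (u : P.W), v = a • P.w + b • P.f + u := ⟨_, _, _, P.dec v⟩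

theorem ndW : ∀ x ∈ P.W, (∀ y ∈ P.W, D.β x y = 0) → x = 0 := fun x hx h => D.nd x fun y => by
  obtain ⟨a, b, u, rfl⟩ := P.dec' y
  rw [map_add, h u u.2, F.spec]
  simp [P.W_w ⟨x, hx⟩, P.W_f ⟨x, hx⟩]

/-- data on the complement -/
abbrev D' : HD A P.W := D.res P.W P.ndW

/-- form on the complement -/
abbrev F' : HF P.D' := F.res P.W P.ndW

theorem g_dec {g : Equiv.Perm V × ℤˣ} (hg : g ∈ D.L P.w) (v : P.W) :
    g.1 v = F.h (g.1 v) P.f • P.w + P.pr (g.1 v) := by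
  have : F.h (g.1 v) P.w = 0 := by rw [← hg.2.2, F.L_h hg, W_w, map_zero]
  simpa [this] using P.dec (g.1 v)

theorem h_pr {g : Equiv.Perm V × ℤˣ} (hg : g ∈ D.L P.w) (x y : P.W) :
    P.F'.h (P.pr (g.1 x)) (P.pr (g.1 y)) = sg P.D'.σ g.2 (P.F'.h x y) := by
  have := F.L_h hg x y
  rw [P.g_dec hg x, P.g_dec hg y] at this
  change F.h _ _ = sg D.σ g.2 (F.h x y)
  simpa using this

variable [Finite V]

/-- action on the complement -/
noncomputable def pi : D.L P.w →* P.D'.L 0 := MonoidHom.mk'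
  (fun g => ⟨(mkP P.D'.nd (fun v => P.pr (g.1.1 v)) (P.F'.pres (P.h_pr g.2)), g.1.2),
    P.F'.pres (P.h_pr g.2), fun a x => by simp [g.2.2.1], by simp [HD.L_zero g.2]⟩)
  fun a b => Subtype.ext (Prod.ext (Equiv.ext fun v => by
    change P.pr (a.1.1 (b.1.1 v)) = P.pr (a.1.1 (P.pr (b.1.1 v)))
    conv_lhs => rw [P.g_dec b.2 v, HD.L_add a.2, a.2.2.1, a.2.2.2]
    simp) rfl)

theorem pi_apply (g : D.L P.w) (v : P.W) : (P.pi g).1.1 v = P.pr (g.1.1 v) := rfl

/-- extension from the complement -/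
def jf (g : Equiv.Perm P.W × ℤˣ) (v : V) : V :=
  sg D.σ g.2 (F.h v P.f) • P.w + sg D.σ g.2 (F.h v P.w) • P.f + g.1 (P.pr v)

omit [Finite V] in
theorem jf_comb (g : Equiv.Perm P.W × ℤˣ) (a b : A) (u : P.W) :
    P.jf g (a • P.w + b • P.f + u) = sg D.σ g.2 a • P.w + sg D.σ g.2 b • P.f + g.1 u := by
  simp [jf]

omit [Finite V] in
theorem h_jf {g : Equiv.Perm P.W × ℤˣ} (hg : g ∈ P.D'.L 0) (x y : V) :
    F.h (P.jf g x) (P.jf g y) = sg D.σ g.2 (F.h x y) := by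
  obtain ⟨a, b, x, rfl⟩ := P.dec' x
  obtain ⟨c, d, y, rfl⟩ := P.dec' y
  have : F.h (g.1 x) (g.1 y) = sg D.σ g.2 (F.h x y) := P.F'.L_h hg x y
  rw [jf_comb, jf_comb]
  simp [this, sg_σ]

/-- the Levi complement -/
noncomputable def j : P.D'.L 0 →* D.L P.w := MonoidHom.mk'
  (fun g => ⟨(mkP D.nd (P.jf g.1) (F.pres (P.h_jf g.2)), g.1.2), F.pres (P.h_jf g.2), fun a x => by
    have : g.1.1 (a • P.pr x) = sg D.σ g.1.2 a • g.1.1 (P.pr x) := g.2.2.1 a _
    simp [jf, this, mul_smul], by simp [jf, HD.L_zero g.2]⟩)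
  fun a b => Subtype.ext (Prod.ext (Equiv.ext fun v => by
    change P.jf (a.1 * b.1) v = P.jf a.1 (P.jf b.1 v)
    rw [jf.eq_def P b.1, jf_comb]
    simp [jf, sg_mul D.σσ]) rfl)

theorem j_apply (g : P.D'.L 0) (v : V) : (P.j g).1.1 v = P.jf g.1 v := rfl

theorem pi_j (g : P.D'.L 0) : P.pi (P.j g) = g := Subtype.ext (Prod.ext (Equiv.ext fun v => by
  rw [pi_apply, j_apply]; simp [jf]) rfl)

theorem split : Split P.pi.ker P.j :=
  ⟨fun g => ⟨P.pi g, by simp [pi_j]⟩, fun h hh => (P.pi_j h).symm.trans hh⟩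

/-- translation part -/
def X (g : D.L P.w) : P.W := P.pr (g.1.1 P.f)

/-- central part -/
def C (g : D.L P.w) : A := F.h (g.1.1 P.f) P.f

variable {P}

theorem sgn {r : D.L P.w} (hr : r ∈ P.pi.ker) : r.1.2 = 1 := congrArg (fun g : P.D'.L 0 => g.1.2) hr

theorem r_f {r : D.L P.w} (hr : r ∈ P.pi.ker) : r.1.1 P.f = P.C r • P.w + P.f + P.X r := by
  have : F.h (r.1.1 P.f) P.w = 1 := by
    have := F.L_h r.2 P.f P.w
    rwa [r.2.2.2, fw, map_one] at this
  simpa [this, C, X] using P.dec (r.1.1 P.f)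

theorem r_W {r : D.L P.w} (hr : r ∈ P.pi.ker) (v : P.W) :
    r.1.1 v = F.h v (P.X r) • P.w + v := by
  have h1 : P.pr (r.1.1 v) = v := congrArg (fun g : P.D'.L 0 => g.1.1 v) hr
  have h2 := P.g_dec r.2 v
  have h3 := F.L_h r.2 v P.f
  rw [h1] at h2
  rw [r_f hr, h2] at h3
  simp only [map_add, map_smul, map_smulₛₗ, LinearMap.add_apply, LinearMap.smul_apply, smul_eq_mul,
    ww, wf, w_W, W_w, W_f, mul_zero, zero_add, add_zero, mul_one, map_zero] at h3
  rw [h2, show F.h (r.1.1 v) P.f = F.h v (P.X r) by linear_combination h3 - F.h v (P.X r) * F.two]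

theorem r_apply {r : D.L P.w} (hr : r ∈ P.pi.ker) (v : V) :
    r.1.1 v = v + F.h v P.w • (P.X r + P.C r • P.w) + F.h v (P.X r) • P.w := by
  obtain ⟨a, b, u, rfl⟩ := P.dec' v
  rw [HD.L_add r.2, HD.L_add r.2, r.2.2.1, r.2.2.1, r.2.2.2, r_f hr, r_W hr, sgn hr]
  simp only [sg_one, map_add, map_smul, LinearMap.add_apply, LinearMap.smul_apply, smul_eq_mul, ww, fw,
    W_w, w_W, f_W, mul_zero, zero_add, add_zero, mul_one]
  module

theorem r_ext {r s : D.L P.w} (hr : r ∈ P.pi.ker) (hs : s ∈ P.pi.ker) (h1 : P.X r = P.X s)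
    (h2 : P.C r = P.C s) : r = s := Subtype.ext (Prod.ext (Equiv.ext fun v => by
  rw [r_apply hr, r_apply hs, h1, h2]) ((sgn hr).trans (sgn hs).symm))

theorem C_add {r : D.L P.w} (hr : r ∈ P.pi.ker) : P.C r + D.σ (P.C r) = F.h (P.X r) (P.X r) := by
  have h3 := F.L_h r.2 P.f P.f
  rw [r_f hr] at h3
  simp only [map_add, map_smul, map_smulₛₗ, LinearMap.add_apply, LinearMap.smul_apply, smul_eq_mul,
    ww, wf, fw, ff, w_W, W_w, W_f, f_W, mul_zero, zero_add, add_zero, mul_one, map_zero] at h3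
  linear_combination h3 - F.h (P.X r) (P.X r) * F.two

theorem exists_r (x : P.W) : ∃ r ∈ P.pi.ker, P.X r = x := by
  have k : ∀ u v : V, F.h (u + F.h u P.w • ((x : V) + (F.c0 * F.h x x) • P.w) + F.h u x • P.w)
      (v + F.h v P.w • ((x : V) + (F.c0 * F.h x x) • P.w) + F.h v x • P.w) = sg D.σ 1 (F.h u v) := by
    intro u v
    simp only [map_add, map_smul, map_smulₛₗ, LinearMap.add_apply, LinearMap.smul_apply, smul_eq_mul,
      ww, w_W, W_w, mul_zero, zero_add, add_zero, sg_one, F.symm, map_mul]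
    linear_combination F.h u P.w * F.h P.w v * F.h x x * F.hc0 + (F.h u P.w * F.h P.w v * F.h x x +
      F.h u P.w * F.h x v + F.h u x * F.h P.w v) * F.two
  refine ⟨⟨(mkP D.nd _ (F.pres k), 1), F.pres k, fun a v => ?_, by simp⟩,
    Subtype.ext (Prod.ext (Equiv.ext fun v => ?_) rfl), by simp [X]⟩
  · simp only [mkP_apply, map_smul, LinearMap.smul_apply, smul_eq_mul, sg_one]; module
  · rw [pi_apply]; simp

theorem XC_mul {r s : D.L P.w} (hr : r ∈ P.pi.ker) (hs : s ∈ P.pi.ker) :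
    P.X (r * s) = P.X r + P.X s ∧ P.C (r * s) = P.C r + P.C s + F.h (P.X s) (P.X r) := by
  have : (r * s).1.1 P.f = (P.C r + P.C s + F.h (P.X s) (P.X r)) • P.w + P.f + (P.X r + P.X s : P.W) := by
    change r.1.1 (s.1.1 P.f) = _
    rw [r_f hs, r_apply hr]
    simp only [map_add, map_smul, LinearMap.add_apply, LinearMap.smul_apply, smul_eq_mul, ww, fw,
      W_w, w_W, f_W, mul_zero, zero_add, add_zero, Submodule.coe_add]
    module
  constructor
  · rw [X, this]; simp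
  · rw [C, this]; simp

theorem X_conj {r : D.L P.w} (hr : r ∈ P.pi.ker) (g : P.D'.L 0) :
    P.X (P.j g * r * (P.j g)⁻¹) = g.1.1 (P.X r) := by
  have h1 : (P.j g)⁻¹.1.1 P.f = P.f := by
    rw [← map_inv, j_apply, jf, pr_f, HD.L_zero g⁻¹.2]; simp
  change P.pr ((P.j g).1.1 (r.1.1 ((P.j g)⁻¹.1.1 P.f))) = _
  rw [h1, r_f hr, j_apply]
  simp [jf]

variable (P)

/-- translation part as a homomorphism -/
noncomputable def XH : P.pi.ker →* Multiplicative P.W :=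
  MonoidHom.mk' (fun r => Multiplicative.ofAdd (P.X r)) fun a b => congrArg _ (XC_mul a.2 b.2).1

theorem XH_surj : Function.Surjective P.XH := fun x => by
  obtain ⟨r, hr, e⟩ := exists_r x.toAdd
  exact ⟨⟨r, hr⟩, congrArg Multiplicative.ofAdd e⟩

theorem nq (ih : ∀ x, NQs (P.D'.L x)) : NQs (D.L P.w) := by
  obtain ⟨t, ht, ht1, ht2⟩ := exists_inv _ P.F' rfl
  have h0 : ∀ r, r ∈ P.XH.ker.map P.pi.ker.subtype ↔ r ∈ P.pi.ker ∧ P.X r = 0 := fun r =>
    ⟨by rintro ⟨s, hs, rfl⟩; exact ⟨s.2, hs⟩, fun h => ⟨⟨r, h.1⟩, h.2, rfl⟩⟩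
  have h1 : P.X 1 = 0 := by simp [X]
  have hi : ∀ r ∈ P.pi.ker, P.X r⁻¹ = P.X r := fun r hr => by
    have := (XC_mul hr (inv_mem hr)).1
    rw [mul_inv_cancel, h1, ← P.D'.add_self (P.X r)] at this
    exact (add_left_cancel this).symm
  have hz : ∀ x y, P.F'.h (D.z • x) (D.z • y) = sg P.D'.σ 1 (P.F'.h x y) := fun x y => by
    change F.h (D.z • (x : V)) (D.z • (y : V)) = F.h x y
    simp only [map_smul, map_smulₛₗ, LinearMap.smul_apply, smul_eq_mul]
    linear_combination F.h x y * F.zz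
  let z : P.D'.L 0 := ⟨(mkP P.D'.nd _ (P.F'.pres hz), 1), P.F'.pres hz, fun a x => smul_comm D.z a x,
    smul_zero D.z⟩
  have hz' : ∀ x, z.1.1 x = D.z • x := fun _ => rfl
  refine NQ.of_heis (fun r hr => sgn hr) P.split (R0 := P.XH.ker.map P.pi.ker.subtype)
    (fun r hr => ((h0 r).1 hr).1) (fun r hr g => ?_) (fun r hr => ?_) (fun r hr s hs => ?_)
    (fun r hr => ?_) (fun r hr hr' r0 hr0 => ?_) (z := z) (t := ⟨t, ht⟩) rfl (fun h hh => ?_) ht1
    (Subtype.ext ht2) ?_ (fun r hr => ?_)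
    (NQ.of_surj (ih 0) (MonoidHom.id _) (fun _ => rfl) Function.surjective_id) fun lam hl => ?_
  · obtain ⟨a1, a2⟩ := (h0 r).1 hr
    have a3 := C_add a1
    rw [a2, ZeroMemClass.coe_zero, map_zero] at a3
    rw [mul_inv_eq_iff_eq_mul]
    refine Subtype.ext (Prod.ext (Equiv.ext fun v => ?_) (mul_comm _ _))
    change g.1.1 (r.1.1 v) = r.1.1 (g.1.1 v)
    have a4 : F.h (g.1.1 v) P.w = sg D.σ g.1.2 (F.h v P.w) := by rw [← F.L_h g.2, g.2.2.2]
    simp only [r_apply a1, a2, ZeroMemClass.coe_zero, zero_add, map_zero, zero_smul, add_zero,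
      HD.L_add g.2, g.2.2.1, g.2.2.2, a4]
    rw [sg_of_fix (a := P.C r) (by linear_combination a3 - P.C r * F.two)]
  · obtain ⟨a1, a2⟩ := (h0 r).1 hr
    refine r_ext (mul_mem a1 a1) (one_mem _) (by rw [(XC_mul a1 a1).1, a2, h1, add_zero]) ?_
    rw [(XC_mul a1 a1).2, a2]
    simp [C, ← two_mul, F.two]
  · refine (h0 _).2 ⟨mul_mem (mul_mem (mul_mem hr hs) (inv_mem hr)) (inv_mem hs), ?_⟩
    rw [(XC_mul (mul_mem (mul_mem hr hs) (inv_mem hr)) (inv_mem hs)).1,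
      (XC_mul (mul_mem hr hs) (inv_mem hr)).1, (XC_mul hr hs).1, hi r hr, hi s hs, add_assoc,
      P.D'.add_self]
  · exact (h0 _).2 ⟨mul_mem hr hr, by rw [(XC_mul hr hr).1, P.D'.add_self]⟩
  · obtain ⟨a1, a2⟩ := (h0 r0).1 hr0
    have a3 := C_add a1
    rw [a2, ZeroMemClass.coe_zero, map_zero] at a3
    obtain ⟨y, hy⟩ := not_forall.1 fun h => hr' ((h0 r).2 ⟨hr, P.F'.nd h⟩)
    obtain ⟨b, c, e⟩ := F.smp _ hy
    replace e : b * F.h (P.X r) y + c * D.σ (F.h (P.X r) y) = 1 := e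
    have e' := congrArg D.σ e
    obtain ⟨s, hs, hx⟩ := exists_r (D.σ (P.C r0 * F.c0 * b + D.σ (P.C r0 * F.c0 * c)) • y)
    refine ⟨s, hs, ?_⟩
    rw [mul_assoc, ← mul_inv_rev, mul_inv_eq_iff_eq_mul]
    refine r_ext (mul_mem hs hr) (mul_mem a1 (mul_mem hr hs)) ?_ ?_
    · rw [(XC_mul hs hr).1, (XC_mul a1 (mul_mem hr hs)).1, (XC_mul hr hs).1, a2, zero_add, add_comm]
    · have a4 : D.σ (P.C r0) = P.C r0 := by linear_combination a3 - P.C r0 * F.two
      rw [(XC_mul hs hr).2, (XC_mul a1 (mul_mem hr hs)).2, (XC_mul hr hs).2, a2, hx, ← F.symm (P.X r)]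
      simp only [Submodule.coe_smul, map_smulₛₗ, D.σσ, smul_eq_mul, map_mul, map_add, a4,
        ZeroMemClass.coe_zero, map_zero, map_one] at e' ⊢
      linear_combination P.C r0 * F.c0 * e + P.C r0 * D.σ F.c0 * e' + P.C r0 * F.hc0 -
        (P.C r0 * D.σ F.c0 * D.σ b + P.C r0 * F.c0 * c) * D.σ (F.h (P.X r) y) * F.two
  · refine Subtype.ext (Prod.ext (Equiv.ext fun v => ?_) (mul_comm _ _))
    have a1 : h.1.2 = 1 := hh
    exact (h.2.2.1 D.z v).trans (by rw [a1]; rfl)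
  · rw [eq_inv_iff_mul_eq_one, mul_assoc, mul_assoc, mul_eq_one_iff_eq_inv', ← mul_assoc,
      inv_eq_of_mul_eq_one_right (Subtype.ext ht2 : (⟨t, ht⟩ : P.D'.L 0) * ⟨t, ht⟩ = 1)]
    refine Subtype.ext (Prod.ext (Equiv.ext fun v => ?_) (by simp [z]))
    change D.z • t.1 (D.z • v) = t.1 v
    rw [ht.2.1, ht1, ← mul_smul]
    exact (congrArg (· • _) F.zz).trans (one_smul _ _)
  · obtain ⟨b, c, e⟩ := F.smp _ (sub_ne_zero.2 F.z1)
    obtain ⟨s, hs, hx⟩ := exists_r ((b - c * D.σ D.z) • P.X r)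
    have a1 := (inferInstance : P.pi.ker.Normal).conj_mem s hs (P.j z)
    refine ⟨s, hs, s⁻¹ * r * (P.j z * s * (P.j z)⁻¹), (h0 _).2 ⟨mul_mem (mul_mem (inv_mem hs) hr) a1, ?_⟩,
      by group⟩
    rw [(XC_mul (mul_mem (inv_mem hs) hr) a1).1, (XC_mul (inv_mem hs) hr).1, hi s hs, X_conj hs, hz', hx,
      ← mul_smul]
    nth_rw 2 [← one_smul A (P.X r)]
    rw [← add_smul, ← add_smul]
    convert zero_smul A (P.X r)
    rw [map_sub, map_one] at e
    linear_combination e - c * F.zz + (1 + b - c * D.σ D.z) * F.two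
  · obtain ⟨x0, hx⟩ := exists_dual P.D'.β P.D'.nd (AddMonoidHom.id _) Function.injective_id
      (P.XH.liftOfSurjective P.XH_surj ⟨lam, fun r hr => hl r ⟨r, hr, rfl⟩⟩)
    have hx' : ∀ r s : P.pi.ker, lam r = lam s ↔ P.D'.β x0 (P.X r) = P.D'.β x0 (P.X s) := fun r s => by
      rw [← show _ = lam r from P.XH.liftOfRightInverse_comp_apply _
        (Function.rightInverse_surjInv P.XH_surj) ⟨lam, fun r hr => hl r ⟨r, hr, rfl⟩⟩ r,
        ← show _ = lam s from P.XH.liftOfRightInverse_comp_apply _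
        (Function.rightInverse_surjInv P.XH_surj) ⟨lam, fun r hr => hl r ⟨r, hr, rfl⟩⟩ s]
      exact hx _ _
    refine (ih x0).sub (HD.L_le x0) (fun _ => rfl) fun g => ?_
    rw [Subgroup.mem_comap, H32.mem_inertia_iff]
    simp only [Units.val_inj, hx', X_conj (Subtype.prop _)]
    refine ⟨fun h => ⟨g.2.1, g.2.2.1, ext_of_nd P.D'.nd fun y => ?_⟩, fun h r => ?_⟩
    · obtain ⟨y, rfl⟩ := g.1.1.surjective y
      obtain ⟨r, hr, rfl⟩ := exists_r y
      rw [h ⟨r, hr⟩, g.2.1]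
    · conv_lhs => rw [← h.2.2, g.2.1]

end Fr

end H93.FS
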