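import Cfsg.Agent.H93.FS7
import Cfsg.Agent.H56.OmegaFin

/-! No twisted indicator of a twisted unitary group in characteristic two is `-1`. -/

set_option autoImplicit false

namespace H93.FS

universe u

theorem pow_two_pow_of_odd {M : Type*} [Group M] {y : M} (h : Odd (orderOf y)) :
    ∃ k, 0 < k ∧ y ^ 2 ^ k = y :=
  ⟨_, Nat.totient_pos.2 h.pos, by
    rw [pow_eq_pow_iff_modEq.2 (Nat.ModEq.pow_totient (Nat.coprime_two_left.2 h)), pow_one]⟩

theorem cmp_perm {V : Type*} [AddCommGroup V] {β : V →+ V →+ ZMod 2}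
    (nd : ∀ x, (∀ y, β x y = 0) → x = 0) {y : Equiv.Perm V} (hy : ∀ a b, β (y a) (y b) = β a b)
    (g : Equiv.Perm V × ℤˣ) : Cmp β g y ↔ g.1 * y * g.1⁻¹ = y ^ (g.2 : ℤ) := by
  rw [mul_inv_eq_iff_eq_mul, Equiv.ext_iff]
  refine forall_congr' fun x => ?_
  have : ∀ v, (if g.2 = 1 then β (y (g.1 x)) v else β (g.1 x) (y v)) = β ((y ^ (g.2 : ℤ)) (g.1 x)) v :=
    fun v => by
      rcases Int.units_eq_one_or g.2 with h | h
      · simp [h]
      · simp [h, ← hy (y.symm _)]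
  simp only [this]
  exact ⟨ext_of_nd nd, fun h v => congrArg (β · v) h⟩

variable {A V : Type u} [CommRing A] [AddCommGroup V] [Module A V]

theorem HD.adjoin [Finite V] (D : HD A V) (Y : Set (AddMonoid.End V))
    (h1 : ∀ y ∈ Y, ∀ (a : A) x, y (a • x) = a • y x) (h2 : ∀ a ∈ Y, ∀ b ∈ Y, a * b = b * a)
    (h3 : ∀ a ∈ Y, ∃ b ∈ Y, ∀ x y, D.β (a x) y = D.β x (b y)) (h4 : ∀ a ∈ Y, ∃ k, 0 < k ∧ a ^ 2 ^ k = a) :
    ∃ (A' : Type u) (_ : CommRing A') (_ : Module A' V) (D' : HD A' V), Finite A' ∧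
      (∀ a : A', (∀ x : V, a • x = 0) → a = 0) ∧
      ∀ w g, g ∈ D'.L w ↔ g ∈ D.L w ∧ ∀ y ∈ Y, Cmp D.β g y := by
  obtain ⟨A', i1, i2, D', a1, a2, a3⟩ := exists_HD D.β D.alt D.nd
    (Set.range (Module.toAddMonoidEnd A V) ∪ Y) (by
      rintro _ (⟨a, rfl⟩ | ha) _ (⟨b, rfl⟩ | hb)
      · rw [← map_mul, mul_comm, map_mul]
      · exact AddMonoidHom.ext fun x => (h1 _ hb a x).symm
      · exact AddMonoidHom.ext fun x => h1 _ ha b x
      · exact h2 _ ha _ hb) (by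
      rintro _ (⟨a, rfl⟩ | ha)
      · exact ⟨_, Or.inl ⟨D.σ a, rfl⟩, D.adj a⟩
      · exact (h3 _ ha).imp fun b hb => ⟨Or.inr hb.1, hb.2⟩) (by
      rintro _ (⟨a, rfl⟩ | ha)
      · exact (D.ss a).imp fun k hk => ⟨hk.1, by rw [← map_pow]; exact AddMonoidHom.ext hk.2⟩
      · exact h4 _ ha) (Or.inl ⟨D.z, rfl⟩) D.zz D.z1
  refine ⟨A', i1, i2, D', a1, a2, fun w g => (a3 w g).trans ⟨fun h => ⟨⟨h.1, fun a =>
    (D.cmp_iff g a).1 (h.2.1 _ (Or.inl ⟨a, rfl⟩)), h.2.2⟩, fun y hy => h.2.1 y (Or.inr hy)⟩,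
    fun h => ⟨h.1.1, ?_, h.1.2.2⟩⟩⟩
  rintro _ (⟨a, rfl⟩ | ha)
  exacts [(D.cmp_iff g a).2 (h.1.2.1 a), h.2 _ ha]

theorem HD.nq_idem [Finite V] (D : HD A V) (hf : ∀ a : A, (∀ x : V, a • x = 0) → a = 0) {a : A}
    (h0 : a ≠ 0) (ha : ∀ b c, b * a + c * D.σ a ≠ 1)
    (ih : ∀ (W : Submodule A V) (hW), Nat.card W < Nat.card V → ∀ x, NQs ((D.res W hW).L x)) (x : V) :
    NQs (D.L x) := by
  obtain ⟨k, hk, h⟩ := D.ss a
  replace h : a ^ 2 ^ k = a := sub_eq_zero.1 (hf _ fun x => by rw [sub_smul, h, sub_self])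
  obtain ⟨m, hm⟩ : ∃ m, 2 ^ k = m + 2 :=
    ⟨2 ^ k - 2, (Nat.sub_add_cancel (Nat.le_self_pow hk.ne' 2)).symm⟩
  rw [hm] at h
  obtain ⟨p, hp⟩ : ∃ p, p = a ^ m * a := ⟨_, rfl⟩
  have p1 : p * a = a := by rw [hp]; linear_combination h
  have p2 : p * p = p := by linear_combination a ^ m * p1 + (p - 1) * hp
  have p3 : D.σ p * D.σ p = D.σ p := by rw [← map_mul, p2]
  obtain ⟨e, he⟩ : ∃ e, e = p + D.σ p - p * D.σ p := ⟨_, rfl⟩
  have e1 : D.σ e = e := by rw [he, map_sub, map_add, map_mul, D.σσ]; ring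
  have e2 : e * e = e := by
    rw [he]; linear_combination (1 - D.σ p) ^ 2 * p2 + (1 - p) * p3
  have e3 : e ≠ 0 := fun h => h0 (by linear_combination a * h - a * he + (D.σ p - 1) * p1)
  have e4 : 1 - e ≠ 0 := fun h => ha (a ^ m * (1 - D.σ p)) (D.σ (a ^ m)) (by
    rw [← map_mul, ← hp]; linear_combination -h - he - (1 - D.σ p) * hp)
  have k1 : ∀ v : V, e • v ∈ LinearMap.ker (LinearMap.lsmul A V (1 - e)) := fun v => by
    change (1 - e) • e • v = 0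
    rw [← mul_smul, sub_mul, e2, one_mul, sub_self, zero_smul]
  have k2 : ∀ v : V, (1 - e) • v ∈ LinearMap.ker (LinearMap.lsmul A V e) := fun v => by
    change e • (1 - e) • v = 0
    rw [← mul_smul, mul_sub, e2, mul_one, sub_self, zero_smul]
  have k3 : ∀ v : V, e • v + (1 - e) • v = v := fun v => by rw [← add_smul]; simp
  have hc : IsCompl (LinearMap.ker (LinearMap.lsmul A V (1 - e))) (LinearMap.ker (LinearMap.lsmul A V e)) :=
    ⟨Submodule.disjoint_def.2 fun v h1 h2 => by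
      rw [← k3 v, show e • v = 0 from h2, show (1 - e) • v = 0 from h1, add_zero],
    codisjoint_iff.2 (eq_top_iff.2 fun v _ => Submodule.mem_sup.2 ⟨_, k1 v, _, k2 v, k3 v⟩)⟩
  obtain ⟨v1, hv1⟩ := not_forall.1 fun h => e4 (hf _ h)
  obtain ⟨v2, hv2⟩ := not_forall.1 fun h => e3 (hf _ h)
  rw [← k3 x]
  refine D.split hc (fun u hu v hv => ?_) ⟨_, k1 x⟩ ⟨_, k2 x⟩ (fun g hg => ⟨fun v hv => ?_, fun v hv => ?_⟩)
    (ih _ _ (card_lt_of_notMem (w := v1) hv1) _) (ih _ _ (card_lt_of_notMem (w := v2) hv2) _)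
  · rw [← k3 u, show (1 - e) • u = 0 from hu, add_zero, D.adj, e1, show e • v = 0 from hv, map_zero]
  · change (1 - e) • g.1 v = 0
    rw [← sg_of_fix (σ := D.σ) (a := 1 - e) (by simp [e1]) g.2, ← hg.2.1, show (1 - e) • v = 0 from hv,
      HD.L_zero hg]
  · change e • g.1 v = 0
    rw [← sg_of_fix e1 g.2, ← hg.2.1, show e • v = 0 from hv, HD.L_zero hg]

theorem HF.nq_ne [Finite V] {D : HD A V} (F : HF D)
    (ih : ∀ (W : Submodule A V) (hW), Nat.card W < Nat.card V → ∀ x, NQs ((D.res W hW).L x)) {w : V}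
    (h0 : w ≠ 0) : NQs (D.L w) := by
  by_cases hw : F.h w w = 0
  swap
  · exact F.nq_aniso hw fun W hW h => ih W hW h 0
  by_cases ht : ∃ t ∈ D.L w, t.2 = -1
  swap
  · exact NQ.of_no fun t h => ht ⟨t.1, t.2, h⟩
  obtain ⟨t, ht, h1⟩ := ht
  obtain ⟨f, hf, hff⟩ := F.exists_partner h0 hw ht h1
  let P : Fr F := ⟨w, f, hw, hff, hf, by rw [← F.symm, hf, map_one]⟩
  exact P.nq (ih _ _ (card_lt_of_notMem (w := w) fun h => F.z1 (by
    rw [← mul_one D.z, ← hf, show F.h w f = 0 from h.2, mul_zero])))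

theorem exists_fixed {T X : Type*} [Group T] (hT : IsPGroup 2 T) [AddCommGroup X] [Finite X]
    [Nontrivial X] (h2 : ∀ x : X, x + x = 0) (f : T →* Equiv.Perm X) (h0 : ∀ t, f t 0 = 0) :
    ∃ x, x ≠ 0 ∧ ∀ t, f t x = x := by
  letI : MulAction T X := MulAction.compHom X f
  obtain ⟨x, hx⟩ := exists_ne (0 : X)
  obtain ⟨b, hb, e⟩ := hT.exists_fixed_point_of_prime_dvd_card_of_fixed_point X (a := 0) (by
    rw [← addOrderOf_eq_prime (p := 2) (by rw [two_nsmul, h2]) hx]; exact addOrderOf_dvd_natCard x) h0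
  exact ⟨b, e.symm, hb⟩

theorem nq_HD (n : ℕ) : ∀ (V : Type u) [AddCommGroup V] [Finite V], Nat.card V = n →
    ∀ (K : Subgroup (Equiv.Perm V × ℤˣ)) (A : Type u) [CommRing A] [Module A V] (D : HD A V),
      D.L 0 = K → ∀ x, NQs (D.L x) := by
  induction n using Nat.strong_induction_on with
  | _ n ih =>
  intro V _ _ hn K
  induction K using WellFoundedLT.induction with
  | _ K ih2 =>
  intro A0 _ _ D0 hK x
  rcases subsingleton_or_nontrivial V with hV | hV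
  · exact NQ.of_triv fun u hu => Subtype.ext (Prod.ext (Subsingleton.elim _ _) hu)
  obtain ⟨A, _, _, D, _, hf, hL⟩ := D0.adjoin ∅ (by simp) (by simp) (by simp) (by simp)
  have hL' : ∀ w, D0.L w = D.L w := fun w => Subgroup.ext fun g => by simp [hL]
  rw [hL'] at hK ⊢
  have ih' : ∀ (W : Submodule A V) (hW), Nat.card W < Nat.card V → ∀ x, NQs ((D.res W hW).L x) :=
    fun W hW h => ih _ (hn ▸ h) W rfl _ A _ rfl
  by_cases hs : ∀ a : A, a ≠ 0 → ∃ b c, b * a + c * D.σ a = 1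
  swap
  · push Not at hs
    obtain ⟨a, h0, ha⟩ := hs
    exact D.nq_idem hf h0 ha ih' x
  obtain ⟨F⟩ := exists_HF D hf hs
  by_cases hx : x = 0
  swap
  · exact F.nq_ne ih' hx
  subst hx
  refine tbw (fun y hy ho ⟨u, hu, hne⟩ => ?_) fun T hT => ?_
  · let φ : D.L 0 →* AddMonoid.End V := 
      { toFun := fun g => AddMonoidHom.mk' g.1.1 (HD.L_add g.2), map_one' := rfl, map_mul' := fun _ _ => rfl }
    have hφ : ∀ g : D.L 0, ⇑(φ g) = g.1.1 := fun _ => rfl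
    have hy1 : y.1.2 = 1 := hy
    obtain ⟨A', _, _, D', -, -, hL2⟩ := D.adjoin {φ y, φ y⁻¹} (by
      rintro _ (rfl | rfl) a x
      · exact (y.2.2.1 a x).trans (by rw [hy1]; rfl)
      · exact (y⁻¹.2.2.1 a x).trans (by simp [hy1, hφ])) (by
      rintro _ (rfl | rfl) _ (rfl | rfl) <;> simp [← map_mul]) (by
      rintro _ (rfl | rfl)
      · exact ⟨φ y⁻¹, by simp, fun a b => by rw [← y.2.1 a]; simp [hφ]⟩
      · exact ⟨φ y, by simp, fun a b => by rw [← y.2.1 _ b]; simp [hφ]⟩) (by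
      obtain ⟨k, hk, e⟩ := pow_two_pow_of_odd ho
      rintro _ (rfl | rfl)
      · exact ⟨k, hk, by rw [← map_pow, e]⟩
      · exact ⟨k, hk, by rw [← map_pow, inv_pow, e]⟩)
    have hM : ∀ g : D.L 0, g ∈ Ctw ((MonoidHom.snd _ _).comp (D.L 0).subtype) y ↔ g.1 ∈ D'.L 0 := by
      intro g
      rw [hL2, mem_Ctw, Subtype.ext_iff, Prod.ext_iff]
      simp only [Set.mem_insert_iff, Set.mem_singleton_iff, forall_eq_or_imp, forall_eq, hφ,
        cmp_perm D.nd y.2.1, cmp_perm D.nd y⁻¹.2.1, g.2, true_and]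
      refine ⟨fun h => ⟨h.1, ?_⟩, fun h => ⟨h.1, by simp [hy1]⟩⟩
      have : g.1.1 * y.1.1 * g.1.1⁻¹ = y.1.1 ^ (g.1.2 : ℤ) := h.1
      change g.1.1 * y.1.1⁻¹ * g.1.1⁻¹ = y.1.1⁻¹ ^ (g.1.2 : ℤ)
      rw [inv_zpow, ← this]; group
    have hle : D'.L 0 ≤ D.L 0 := fun g hg => ((hL2 _ _).1 hg).1
    refine (ih2 _ (hK ▸ lt_of_le_of_ne hle fun e => hne ?_) A' D' rfl 0).sub hle (fun _ => rfl) hM
    have := mem_Ctw.1 ((hM u).2 (by rw [e]; exact u.2))
    rwa [hu, Units.val_one, zpow_one, mul_inv_eq_iff_eq_mul] at this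
  · obtain ⟨w, hw, h⟩ := exists_fixed hT D.add_self
      ((MonoidHom.fst _ _).comp ((D.L 0).subtype.comp T.subtype)) fun t => t.1.2.2.2
    exact ⟨(D.L w).subgroupOf _, fun t ht => ⟨t.2.1, t.2.2.1, h ⟨t, ht⟩⟩,
      (F.nq_ne ih' hw).sub (HD.L_le w) (fun _ => rfl) fun _ => Iff.rfl⟩

theorem exists_trace (F : Type*) [Field F] [CharP F 2] :
    ∃ l : F →+ ZMod 2, ∀ a, (∀ c, l (c * a) = 0) → a = 0 := by
  letI := ZMod.algebra F 2
  obtain ⟨l, hl⟩ := not_forall.1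
    ((Module.forall_dual_apply_eq_zero_iff (ZMod 2) (1 : F)).not.2 one_ne_zero)
  exact ⟨l.toAddMonoidHom, fun a h => by_contra fun h0 => hl (by simpa [h0] using h a⁻¹)⟩

open H56 QuadraticMap in
/-- twisted centraliser of a fixed point free element of odd order -/
theorem nq_Ctw {F V : Type*} [Field F] [Finite F] [CharP F 2] [AddCommGroup V] [Module F V]
    [FiniteDimensional F V] {Q : QuadraticForm F V} (hQ : Q.polarBilin.Nondegenerate) {y : O Q}
    (ho : Odd (orderOf y)) (h1 : ∀ x, y x = x → x = 0) :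
    NQs (Ctw (MonoidHom.snd (O Q) ℤˣ) (y, 1)) := by
  have : Finite V := Module.finite_of_finite F
  obtain ⟨l, hl⟩ := exists_trace F
  let β : V →+ V →+ ZMod 2 := (LinearMap.toAddMonoidHom'.comp Q.polarBilin.toAddMonoidHom).compr₂ l
  have hβ : ∀ x y, β x y = l (polar Q x y) := fun _ _ => rfl
  have nd : ∀ x, (∀ y, β x y = 0) → x = 0 := fun x h => eq_zero_of_polar hQ fun y =>
    hl _ fun c => by rw [← h (c • y), hβ, polar_smul_right]; rfl
  have hsm : ∀ (a : F) x y, β (a • x) y = β x (a • y) := fun a x y => by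
    rw [hβ, hβ, polar_smul_left, polar_smul_right]
  let φ : O Q →* AddMonoid.End V :=
    { toFun := fun g => g.lin.toAddMonoidHom, map_one' := rfl, map_mul' := fun _ _ => rfl }
  have hφ : ∀ g x, φ g x = g x := fun _ _ => rfl
  let ψ : O Q →* Equiv.Perm V := MulAction.toPermHom _ _
  have hψ : ∀ g x, ψ g x = g x := fun _ _ => rfl
  obtain ⟨A, _, _, D, -, -, hL⟩ := exists_HD β (fun x => by
      rw [hβ, polar_self', show (2 : F) = 0 from CharTwo.two_eq_zero, zero_mul, map_zero]) nd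
    (Set.range (Module.toAddMonoidEnd F V) ∪ {φ y, φ y⁻¹}) (by
      have k : ∀ (g : O Q) a, φ g * Module.toAddMonoidEnd F V a = Module.toAddMonoidEnd F V a * φ g :=
        fun g a => AddMonoidHom.ext fun x => map_smul g.lin a x
      rintro _ (⟨a, rfl⟩ | rfl | rfl) _ (⟨b, rfl⟩ | rfl | rfl)
      exacts [by rw [← map_mul, mul_comm, map_mul], (k _ _).symm, (k _ _).symm, k _ _, rfl,
        by simp [← map_mul], k _ _, by simp [← map_mul], rfl]) (by
      rintro _ (⟨a, rfl⟩ | rfl | rfl)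
      · exact ⟨_, Or.inl ⟨a, rfl⟩, hsm a⟩
      · exact ⟨φ y⁻¹, by simp, fun a b => by rw [hβ, hβ, hφ, O.polar_apply_left, hφ]⟩
      · exact ⟨φ y, by simp, fun a b => by rw [hβ, hβ, hφ, O.polar_apply_left, hφ, inv_inv]⟩) (by
      obtain ⟨k, hk, e⟩ := pow_two_pow_of_odd ho
      rintro _ (⟨a, rfl⟩ | rfl | rfl)
      · have := Fintype.ofFinite F
        obtain ⟨n, -, hn⟩ := FiniteField.card F 2
        exact ⟨n, n.2, by rw [← map_pow, ← hn, FiniteField.pow_card]⟩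
      · exact ⟨k, hk, by rw [← map_pow, e]⟩
      · exact ⟨k, hk, by rw [← map_pow, inv_pow, e]⟩) (z := φ y) (by simp)
    (fun a b => by simp [hβ, hφ]) h1
  have hy : ∀ g : O Q, ∀ a b, β (ψ g a) (ψ g b) = β a b := fun g a b => by simp [hβ, hψ]
  have hL' : ∀ g, g ∈ D.L 0 ↔ (∀ x y, β (g.1 x) (g.1 y) = β x y) ∧
      (∀ (a : F) x, g.1 (a • x) = a • g.1 x) ∧ g.1 * ψ y * g.1⁻¹ = ψ y ^ (g.2 : ℤ) := fun g => by
    rw [hL]
    refine and_congr_right fun hg => ?_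
    have k : ∀ a : F, Cmp β g (Module.toAddMonoidEnd F V a) ↔ ∀ x, g.1 (a • x) = a • g.1 x := fun a =>
      forall_congr' fun x => by
        have : ∀ v, (if g.2 = 1 then β (a • g.1 x) v else β (g.1 x) (a • v)) = β (a • g.1 x) v :=
          fun v => by rw [← hsm, ite_self]
        exact ⟨fun h => ext_of_nd nd fun v => (h v).trans (this v), fun h v =>
          (congrArg (β · v) h).trans (this v).symm⟩
    refine ⟨fun h => ⟨fun a => (k a).1 (h.1 _ (Or.inl ⟨a, rfl⟩)), (cmp_perm nd (hy y) g).1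
      (h.1 (φ y) (by simp))⟩, fun h => ⟨?_, by simpa using h.1 0 0⟩⟩
    rintro _ (⟨a, rfl⟩ | rfl | rfl)
    · exact (k a).2 (h.1 a)
    · exact (cmp_perm nd (hy y) g).2 h.2
    · exact (cmp_perm nd (hy y⁻¹) g).2 (by rw [map_inv, inv_zpow, ← h.2]; group)
  have hs : ∀ v, ∃ u, y u - u = v := fun v =>
    (LinearMap.injective_iff_surjective (f := y.lin - LinearMap.id)).1
      ((injective_iff_map_eq_zero _).2 fun x (hx : y x - x = 0) => h1 x (sub_eq_zero.1 hx)) v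
  have hQ' : ∀ (k : O Q) x, Q (k x - x) = polar Q (k x) x := fun k x => by
    rw [Q_sub, O.map_Q, CharTwo.add_self_eq_zero, zero_sub, CharTwo.neg_eq]
  have hP : ∀ g ∈ D.L 0, ∀ v, Q (g.1 v) = Q v := fun g hg v => by
    obtain ⟨a1, a2, a3⟩ := (hL' g).1 hg
    obtain ⟨u, rfl⟩ := hs v
    have a4 : ∀ a b, polar Q (g.1 a) (g.1 b) = polar Q a b := fun a b => sub_eq_zero.1 (hl _ fun c => by
      have := a1 a (c • b)
      rw [a2, hβ, hβ, polar_smul_right, polar_smul_right] at this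
      rw [mul_sub, map_sub]; exact sub_eq_zero.2 this)
    have a5 : g.1 (y u) = (y ^ (g.2 : ℤ)) (g.1 u) := by
      rw [mul_inv_eq_iff_eq_mul, ← map_zpow] at a3
      exact congrArg (· u) a3
    rw [hQ', ← a4, a5, ← hQ', ← a5, sub_eq_add_neg, HD.L_add hg, ← neg_one_smul F, a2, neg_one_smul,
      sub_eq_add_neg]
  refine NQs.of_map (nq_HD _ V rfl _ A D rfl 0) (MonoidHom.mk' (fun g => (⟨{ g.1.1 with
    map_add' := HD.L_add g.2, map_smul' := ((hL' _).1 g.2).2.1 }, hP _ g.2⟩, g.1.2)) fun _ _ => rfl)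
    (fun _ => rfl) (fun g => Prod.ext (O.ext fun v => ?_) (by simp)) fun g hg =>
      ⟨⟨(ψ g.1, g.2), (hL' _).2 ⟨hy _, fun a x => by simp [hψ], ?_⟩⟩, rfl⟩
  · have := ((hL' _).1 g.2).2.2
    rw [← map_zpow] at this
    exact congrArg (· v) this
  · rw [← map_inv, ← map_mul, ← map_mul, ← map_zpow]
    exact congrArg (fun x => ψ x.1) (mem_Ctw.1 hg)

end H93.FS
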