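import Cfsg.Agent.H93.FS8
import Cfsg.Agent.H56.OrthCard
import Cfsg.Agent.H55.OSum
import Cfsg.Agent.H60.Ext
import Cfsg.Agent.H60.Types

/-! No irreducible character of an orthogonal group in characteristic two has indicator `-1`. -/

set_option autoImplicit false

namespace H93.FS

open H56 H60 QuadraticMap Module

universe u

theorem NQ.of_inv {L H : Type*} [Group L] [Group H] [Finite L] [Finite H] {ε : L →* ℤˣ} {ρ : L}
    (hρ : ε ρ = 1) (h2 : ρ * ρ = 1) (hc : ∀ g, ρ * g = g * ρ) {j : H →* L}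
    (hj : ∀ g, ∃ h, g = j h ∨ g = ρ * j h) (hN : NQ (ε.comp j)) : NQ ε := by
  have hc' : ∀ (a : Subgroup.zpowers ρ) g, Commute (a : L) g := by
    rintro ⟨_, k, rfl⟩ g
    exact Commute.zpow_left (hc g) k
  refine NQ.of_surj (ε' := (ε.comp j).comp (MonoidHom.snd _ _)) ?_
    ((Subgroup.zpowers ρ).subtype.noncommCoprod j fun a h => hc' a _) ?_ fun g => ?_
  · refine NQ.of_elab (R := (MonoidHom.snd (Subgroup.zpowers ρ) H).ker) (j := MonoidHom.inr _ _)
      (fun r (hr : r.2 = 1) => by simp [hr]) ⟨fun g => ⟨g.2, mul_inv_cancel g.2⟩, fun h hh => hh⟩ ?_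
      fun lam => ?_
    · rintro ⟨⟨⟨_, k, rfl⟩, b⟩, rfl : b = 1⟩
      refine Subtype.ext (Prod.ext (Subtype.ext ?_) (one_mul _))
      change ρ ^ k * ρ ^ k = 1
      rw [← (Commute.refl ρ).mul_zpow, h2, one_zpow]
    · refine hN.of_surj ((MonoidHom.id H).codRestrict _ fun h => ?_) (fun _ => rfl) fun h => ⟨h.1, rfl⟩
      rw [Subgroup.mem_comap, H32.mem_inertia_iff]
      rintro ⟨⟨a, b⟩, rfl : b = 1⟩
      congr 3
      simp
  · rintro ⟨⟨_, k, rfl⟩, b⟩
    change ε (ρ ^ k * j b) = ε (j b)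
    simp [hρ]
  · obtain ⟨h, rfl | rfl⟩ := hj g
    exacts [⟨(1, h), one_mul _⟩, ⟨(⟨ρ, Subgroup.mem_zpowers ρ⟩, h), rfl⟩]

variable {F V : Type*} [Field F] [AddCommGroup V] [Module F V] {Q : QuadraticForm F V}

/-- stabiliser of `u` and of the coset `x + F u` -/
def OS (Q : QuadraticForm F V) (u x : V) : Subgroup (O Q × ℤˣ) where
  carrier := {g | g.1 u = u ∧ ∃ c : F, g.1 x = x + c • u}
  one_mem' := ⟨rfl, 0, by simp⟩
  mul_mem' := by
    rintro a b ⟨ha, c, hc⟩ ⟨hb, d, hd⟩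
    exact ⟨by simp [ha, hb], c + d, by simp [ha, hc, hd, add_smul, add_assoc]⟩
  inv_mem' := by
    rintro a ⟨ha, c, hc⟩
    exact ⟨O.inv_apply_eq _ |>.2 ha.symm, -c, O.inv_apply_eq _ |>.2 (by simp [ha, hc])⟩

theorem OS_add (u x : V) (c : F) : OS Q u (x + c • u) = OS Q u x := Subgroup.ext fun g =>
  and_congr_right fun h => exists_congr fun d => by
    rw [map_add, map_smul, h, add_right_comm, add_left_inj]

theorem mem_OS_zero {u : V} {g : O Q × ℤˣ} : g ∈ OS Q u 0 ↔ g.1 u = u :=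
  ⟨fun h => h.1, fun h => ⟨h, 0, by simp⟩⟩

theorem pfix {g : O Q} {a : V} (h : g a = a) (x : V) : polar Q a (g x) = polar Q a x := by
  conv_lhs => rw [← h, O.map_polar]

variable [FiniteDimensional F V] (hQ : Q.polarBilin.Nondegenerate)

/-- orthogonal sum of isometries -/
noncomputable def sO {U : Submodule F V} (hU : Nondeg Q U) :
    O (Q.restrict U) × O (Q.restrict (perp Q U)) →* O Q :=
  H55.sumHom (Submodule.prodEquivOfIsCompl _ _ (hU.isCompl hQ)) fun x =>
    (Q_add Q x.1 x.2).trans (by rw [mem_perp.1 x.2.2 _ x.1.2, add_zero]; rfl)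

theorem sO_apply {U : Submodule F V} (hU : Nondeg Q U) (g) (a : U) (b : perp Q U) :
    sO hQ hU g (a + b) = g.1 a + g.2 b := H55.sumHom_apply _ _ g (a, b)

theorem sO_left {U : Submodule F V} (hU : Nondeg Q U) (g) (a : U) : sO hQ hU g a = g.1 a := by
  simpa using sO_apply hQ hU g a 0

theorem sO_right {U : Submodule F V} (hU : Nondeg Q U) (g) (b : perp Q U) :
    sO hQ hU g b = g.2 b := by
  simpa using sO_apply hQ hU g 0 b

theorem sO_inj {U : Submodule F V} (hU : Nondeg Q U) : Function.Injective (sO hQ hU) :=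
  H55.sumHom_injective _ _

/-- restriction to an invariant subspace -/
noncomputable def rO {U : Submodule F V} (g : O Q) (h : ∀ x ∈ U, g x ∈ U) : O (Q.restrict U) :=
  O.ofInj (g.lin.restrict h) (fun x => g.map_Q x) fun _ _ e =>
    Subtype.ext (g.injective (congrArg Subtype.val e))

theorem coe_rO {U : Submodule F V} (g : O Q) (h : ∀ x ∈ U, g x ∈ U) (x : U) :
    (rO g h x : V) = g x := rfl

theorem perp_inv {U : Submodule F V} {g : O Q} (h : ∀ x ∈ U, g x ∈ U) :
    ∀ x ∈ perp Q U, g x ∈ perp Q U := fun _ hx =>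
  apply_mem_of_sstab (sstab_perp_of (mem_sstab_of_le h)) hx

theorem sO_rO {U : Submodule F V} (hU : Nondeg Q U) {g : O Q} (h : ∀ x ∈ U, g x ∈ U) :
    sO hQ hU (rO g h, rO g (perp_inv h)) = g :=
  hU.ext hQ (fun x hx => sO_left hQ hU _ ⟨x, hx⟩) fun x hx => sO_right hQ hU _ ⟨x, hx⟩

/-- extension by the identity -/
noncomputable def jO {U : Submodule F V} (hU : Nondeg Q U) {L' : Subgroup (O (Q.restrict U) × ℤˣ)}
    {L : Subgroup (O Q × ℤˣ)} (h : ∀ g ∈ L', (extO hQ hU g.1, g.2) ∈ L) : L' →* L :=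
  MonoidHom.mk' (fun g => ⟨_, h g.1 g.2⟩) fun _ _ => Subtype.ext (Prod.ext (map_mul (extO hQ hU) _ _) rfl)

variable [Finite F] [CharP F 2]

omit [FiniteDimensional F V] [Finite F] in
include F in
theorem vadd_self (x : V) : x + x = 0 := by
  rw [← two_smul F, show (2 : F) = 0 from CharTwo.two_eq_zero, zero_smul]

omit [FiniteDimensional F V] [Finite F] in
theorem pself2 (x : V) : polar Q x x = 0 := by
  rw [polar_self', show (2 : F) = 0 from CharTwo.two_eq_zero, zero_mul]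

include hQ

theorem nq_sing {u v : V} (hv : Q v = 0) (huv : polar Q u v = 0) (hi : ∀ c : F, v ≠ c • u)
    (hu : u = 0 ∨ Q u ≠ 0) (ih : ∀ U : Submodule F V, Nondeg Q U → finrank F U < finrank F V →
      ∀ (hu : u ∈ U) x, NQs (OS (Q.restrict U) ⟨u, hu⟩ x)) : NQs (OS Q u v) := by
  obtain ⟨f, hf, hvf, huf⟩ := exists_sing_partner_orth hQ hv huv hi
  have hy : IsHyp Q v f := ⟨hv, hf, hvf⟩
  have hW := hy.nondeg_hperp hQ
  have huW : u ∈ hperp Q v f := mem_hperp.2 ⟨pc huv, pc huf⟩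
  have hvW : v ∈ perp Q (hperp Q v f) := mem_perp'.2 fun w hw => (mem_hperp.1 hw).1
  have hfW : f ∈ perp Q (hperp Q v f) := mem_perp'.2 fun w hw => (mem_hperp.1 hw).2
  have hg : ∀ g ∈ OS Q u v, g.1 v = v := by
    rintro g ⟨-, c, hc⟩
    rcases hu with rfl | hu
    · simpa using hc
    · have := g.1.map_Q v
      rw [hc, Q_add, Q_smul, hv, polar_smul_right, pc huv] at this
      simpa [show c = 0 by simpa [hu] using this] using hc
  let X := ort (Q.restrict (hperp Q v f)) ⟨u, huW⟩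
  have hX : ∀ x : X, polar Q u x.1 = 0 := fun x => (polar_restrict' ⟨u, huW⟩ x.1).symm.trans x.2
  have hX' : ∀ x : X, polar Q v x.1 = 0 := fun x => (mem_hperp.1 x.1.2).1
  let E : Multiplicative X →* OS Q u v := MonoidHom.mk' (fun x => ⟨(eich Q v x.toAdd.1, 1),
    eich_apply_of_orth_orth (pc huv) (pc (hX _)), 0, by simp [eich_apply_self hv (hX' _)]⟩) fun a b =>
      Subtype.ext (Prod.ext (eich_add hv (hX' _) (hX' _)) (mul_one _).symm)
  have hE : ∀ w, polar Q v w = 0 → polar Q u w = 0 → (⟨eich Q v w, 1⟩ : O Q × ℤˣ) ∈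
      E.range.map (OS Q u v).subtype := fun w h1 h2 =>
    ⟨_, ⟨Multiplicative.ofAdd ⟨⟨w + (-polar Q f w) • v, mem_hperp.2 ⟨by simp [h1, hy.ee], by
      simp [hy.fe]⟩⟩, (polar_restrict' _ _).trans (by simp [h2, huv])⟩, rfl⟩,
      Prod.ext (eich_add_smul_self _ hv h1) rfl⟩
  have hE' : ∀ g : OS Q u v, g.1 ∈ E.range.map (OS Q u v).subtype → g ∈ E.range := fun g =>
    (Subgroup.mem_map_iff_mem (OS Q u v).subtype_injective).1
  have : E.range.Normal := ⟨by
    rintro _ ⟨x, rfl⟩ g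
    refine hE' _ ?_
    convert hE (g.1.1 x.toAdd.1) (by rw [pfix (hg _ g.2), hX']) (by rw [pfix g.2.1, hX]) using 1
    exact Prod.ext ((conj_eich _ _ _).trans (by rw [hg _ g.2])) (by simp [E])⟩
  let j : OS (Q.restrict (hperp Q v f)) ⟨u, huW⟩ 0 →* OS Q u v :=
    jO hQ hW fun h hh => ⟨(extO_mem h.1 ⟨u, huW⟩).trans (congrArg Subtype.val hh.1), 0, by
      simpa using extO_perp h.1 hvW⟩
  have hj : ∀ h, (j h).1 = (extO hQ hW h.1.1, h.1.2) := fun _ => rfl
  refine NQ.of_elab (R := E.range) (j := j) (by rintro _ ⟨x, rfl⟩; rfl) ⟨fun g => ?_, ?_⟩ ?_ fun lam => ?_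
  · have a1 : polar Q v (g.1.1 f) = 1 := by rw [pfix (hg _ g.2), hvf]
    have a2 := eich_apply_eq hv (hf.trans ((g.1.1.map_Q f).trans hf).symm) (hvf.trans a1.symm)
      (hvf.trans_ne one_ne_zero)
    rw [hvf, inv_one, one_smul] at a2
    have a3 : polar Q v (f - g.1.1 f) = 0 := by simp [hvf, a1]
    have a4 : polar Q u (f - g.1.1 f) = 0 := by
      rw [polar_sub_right, pfix g.2.1, sub_self]
    obtain ⟨k, hk⟩ := exists_extO hQ hW (g := (eich Q v (f - g.1.1 f))⁻¹ * g.1.1) fun x hx => by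
      have b := hy.polar_proj x
      have : x - polar Q f x • v - polar Q v x • f = 0 :=
        hW.eq_zero (mem_hperp.2 b) (sub_mem (sub_mem hx (Submodule.smul_mem _ _ hvW))
          (Submodule.smul_mem _ _ hfW))
      rw [sub_sub, sub_eq_zero] at this
      rw [O.mul_apply, O.inv_apply_eq, this]
      simp only [map_add, map_smul, a2, hg _ g.2, eich_apply_self hv a3]
    refine ⟨⟨(k, g.1.2), mem_OS_zero.2 (Subtype.ext ?_)⟩, hE' _ ?_⟩
    · rw [← extO_mem (hQ := hQ) (hU := hW), hk, O.mul_apply, g.2.1, O.inv_apply_eq,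
        eich_apply_of_orth_orth (pc huv) (pc a4)]
    · convert hE _ a3 a4 using 1
      exact Prod.ext (by simp [hj, hk]) (by simp [hj])
  · rintro h ⟨x, hx⟩
    have a1 : eich Q v x.toAdd.1 = extO hQ hW h.1.1 := congrArg (·.1.1) hx
    have a2 : eich Q v x.toAdd.1 f = f := by rw [a1, extO_perp _ hfW]
    have a3 := (mem_hperp.1 x.toAdd.1.2).2
    rw [eich_apply hv (hX' _), hvf, pc a3, zero_smul, add_zero, one_smul, mul_one, sub_sub,
      sub_eq_self] at a2
    have a4 : Q x.toAdd.1 = 0 := by simpa [a3, hy.fe] using congrArg (polar Q f) a2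
    rw [a4, zero_smul, add_zero] at a2
    rw [a2, eich_zero] at a1
    exact Subtype.ext (Prod.ext (O.ext fun w => Subtype.ext (by
      rw [← extO_mem (hQ := hQ) (hU := hW), ← a1]; rfl)) (congrArg (·.1.2) hx).symm)
  · rintro ⟨_, x, rfl⟩
    refine Subtype.ext ((map_mul E x x).symm.trans ?_)
    rw [show x * x = 1 from vadd_self (F := F) x.toAdd, map_one]; rfl
  · have : Finite V := Module.finite_of_finite F
    obtain ⟨l, hl⟩ := exists_trace F
    obtain ⟨x0, hx⟩ := exists_dual ((LinearMap.toAddMonoidHom'.comp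
      (Q.restrict (hperp Q v f)).polarBilin.toAddMonoidHom).compr₂ l) (fun x h =>
        eq_zero_of_polar hW.restrict fun y => hl _ fun c => by
          rw [← h (c • y), ← smul_eq_mul, ← polar_smul_right]; rfl) X.subtype.toAddMonoidHom
      Subtype.val_injective (lam.comp E.rangeRestrict)
    replace hx : ∀ x y : X, lam ⟨E (.ofAdd x), _, rfl⟩ = lam ⟨E (.ofAdd y), _, rfl⟩ ↔
      l (polar (Q.restrict _) x0 x) = l (polar (Q.restrict _) x0 y) := hx
    refine (ih _ hW (by rw [← hy.finrank_hperp]; omega) huW x0).sub (fun g hg => mem_OS_zero.2 hg.1)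
      (fun _ => rfl) fun g => ?_
    have k1 : ∀ x : X, g.1.1 x ∈ X := fun x => (pfix g.2.1 _).trans x.2
    have k2 : ∀ x : X, j g * E (.ofAdd x) * (j g)⁻¹ = E (.ofAdd ⟨_, k1 x⟩) := fun x =>
      Subtype.ext (Prod.ext ((conj_eich _ _ _).trans (by
        rw [hg _ (j g).2, hj, extO_mem]; rfl)) (by simp [E]))
    rw [Subgroup.mem_comap, H32.mem_inertia_iff, ← inv_mem_iff (H := OS _ _ x0)]
    refine ⟨fun h => ⟨g⁻¹.2.1, ?_⟩, ?_⟩
    · obtain ⟨c, hc⟩ := exists_smul_of_orth hW.restrict (z := g.1.1⁻¹ x0 - x0) fun w hw =>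
        hl _ fun c => by
          have := h ⟨E (.ofAdd (c • ⟨w, hw⟩)), _, rfl⟩
          simp only [k2, Units.val_inj, hx] at this
          rw [← smul_eq_mul, ← polar_smul_right, polar_sub_left, map_sub, ← O.polar_apply_right]
          exact sub_eq_zero.2 this
      exact ⟨c, sub_eq_iff_eq_add'.1 hc⟩
    · rintro ⟨-, c, hc⟩ ⟨_, x, rfl⟩
      refine congrArg Units.val ((congrArg lam (Subtype.ext (k2 x.toAdd))).trans ((hx _ _).2 ?_))
      rw [O.polar_apply_right, show g.1.1⁻¹ x0 = _ from hc, polar_add_left, polar_smul_left,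
        mem_ort.1 x.toAdd.2, smul_zero, add_zero]
      rfl

theorem nq_plane {u x : V} (hux : polar Q u x ≠ 0) (hu : Q u ≠ 0)
    (ih : ∀ U : Submodule F V, Nondeg Q U → finrank F U < finrank F V →
      NQs (OS (Q.restrict U) 0 0)) : NQs (OS Q u x) := by
  have hU : Nondeg Q (Submodule.span F {u, x}) := fun y hy h => by
    obtain ⟨a, b, rfl⟩ := Submodule.mem_span_pair.1 hy
    have h1 := h u (Submodule.subset_span (by simp))
    have h2 := h x (Submodule.subset_span (by simp))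
    simp only [polar_add_right, polar_smul_right, pself2, smul_eq_mul, mul_zero, zero_add, add_zero,
      polar_comm Q x u, mul_eq_zero, hux, or_false] at h1 h2
    simp [h1, h2]
  have hW := hU.perp hQ
  have h1 : u ∈ perp Q (perp Q (Submodule.span F {u, x})) := le_perp_perp _ (Submodule.subset_span (by simp))
  have h2 : x ∈ perp Q (perp Q (Submodule.span F {u, x})) := le_perp_perp _ (Submodule.subset_span (by simp))
  let j : OS (Q.restrict (perp Q (Submodule.span F {u, x}))) 0 0 →* OS Q u x :=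
    jO hQ hW fun h _ => ⟨extO_perp h.1 h1, 0, by simpa using extO_perp h.1 h2⟩
  have hr : refl Q u u = u := refl_apply_of_orth (pself2 u)
  have k : ∀ g : O Q, g u = u → g x = x → ∃ k, extO hQ hW k = g := fun g a1 a2 =>
    exists_extO hQ hW fun y hy => by
      rw [SetLike.mem_coe, perp_perp hQ] at hy
      obtain ⟨a, b, rfl⟩ := Submodule.mem_span_pair.1 hy
      simp [a1, a2]
  refine NQ.of_inv (ρ := ⟨(refl Q u, 1), hr, -((Q u)⁻¹ * polar Q u x), by
    rw [refl_apply, neg_smul, sub_eq_add_neg]⟩) rfl (Subtype.ext (Prod.ext (refl_mul_self u) (mul_one _)))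
    (fun g => Subtype.ext (Prod.ext ((mul_refl g.1.1 u).trans (by rw [g.2.1]; rfl)).symm (mul_comm _ _)))
    (j := j) (fun g => ?_) (ih _ hW (Submodule.finrank_lt fun h => hux
      ((mem_perp_span_pair.1 (h ▸ Submodule.mem_top : x ∈ perp Q _)).1)))
  obtain ⟨a1, c, a2⟩ := g.2
  have a3 := g.1.1.map_Q x
  rw [a2, Q_add, Q_smul, polar_smul_right, polar_comm, smul_eq_mul] at a3
  by_cases hc : c = 0
  · obtain ⟨h, hh⟩ := k g.1.1 a1 (by simp [a2, hc])
    exact ⟨⟨(h, g.1.2), mem_OS_zero.2 (map_zero _)⟩, Or.inl (Subtype.ext (Prod.ext hh.symm rfl))⟩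
  · obtain ⟨h, hh⟩ := k (refl Q u * g.1.1) (by simp [a1, hr]) (by
      rw [O.mul_apply, a2, map_add, map_smul, hr, refl_apply, sub_add, sub_eq_self, ← sub_smul,
        show (Q u)⁻¹ * polar Q u x - c = 0 by
          field_simp
          linear_combination c⁻¹ * a3 - (polar Q u x + c * Q u) * mul_inv_cancel₀ hc -
            c * Q u * CharTwo.two_eq_zero (R := F), zero_smul])
    exact ⟨⟨(h, g.1.2), mem_OS_zero.2 (map_zero _)⟩, Or.inr (Subtype.ext (Prod.ext
      (show g.1.1 = refl Q u * extO hQ hW h by rw [hh, ← mul_assoc, refl_mul_self, one_mul])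
      (one_mul _).symm))⟩

theorem nq_stab {u : V} (ih : ∀ U : Submodule F V, Nondeg Q U → finrank F U < finrank F V →
      ∀ hu : u ∈ U, NQs (OS (Q.restrict U) ⟨u, hu⟩ 0))
    (h2 : ∀ x, (∀ c : F, x ≠ c • u) → NQs (OS Q u x)) : NQs (OS Q u 0) := by
  have : Finite V := Module.finite_of_finite F
  refine tbw (fun y hy ho ⟨w, _, hne⟩ => ?_) fun T hT => ?_
  · obtain ⟨⟨y, e⟩, hyu⟩ := y
    obtain rfl : e = 1 := hy
    replace ho : Odd (orderOf y) :=
      ho.of_dvd_nat (orderOf_map_dvd ((MonoidHom.fst _ _).comp (OS Q u 0).subtype) _)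
    obtain ⟨U, hy, hU⟩ : ∃ U : Submodule F V, (∀ {x}, x ∈ U ↔ y x = x) ∧ Nondeg Q U :=
      ⟨y.fix, O.mem_fix, fun x hx h => by
      obtain ⟨z, rfl⟩ := O.mem_mov.1 (O.perp_fix hQ y ▸ h : x ∈ y.mov)
      obtain ⟨k, hk, e⟩ := pow_two_pow_of_odd ho
      have a1 : y ^ 2 ∈ MulAction.stabilizer (O Q) z := by
        have := O.mem_fix.1 hx
        rw [map_sub, sub_eq_iff_eq_add, sub_add_eq_add_sub, vadd_self (F := F), zero_sub,
          neg_eq_of_add_eq_zero_left (vadd_self (F := F) z)] at this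
        rw [pow_two]; exact this
      have a2 := pow_mem a1 (2 ^ (k - 1))
      rw [← pow_mul, ← pow_succ', Nat.sub_add_cancel hk, e] at a2
      exact sub_eq_zero.2 a2⟩
    have hyU : ∀ x ∈ U, y x ∈ U := fun x hx => by rwa [hy.1 hx]
    obtain ⟨z, hz⟩ : ∃ z, sO hQ hU (1, z) = y := ⟨_, (congrArg (fun a => sO hQ hU (a, _))
      (O.ext fun x => Subtype.ext (hy.1 x.2).symm)).trans (sO_rO hQ hU hyU)⟩
    have h3 := nq_Ctw (hU.perp hQ).restrict (y := z) (ho.of_dvd_nat (by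
      rw [← hz, orderOf_injective _ (sO_inj hQ hU)]
      exact orderOf_map_dvd (MonoidHom.snd _ _) ((1 : O (Q.restrict U)), z))) fun x hx => Subtype.ext (hU.eq_zero (by
        rw [hy, ← hz, sO_right, hx]) x.2)
    have h4 := ih _ hU (Submodule.finrank_lt fun h => hne (by
      obtain rfl : y = 1 := O.ext fun x => hy.1 (h ▸ Submodule.mem_top)
      exact (mul_one w).trans (one_mul w).symm)) (hy.2 hyu.1)
    have h5 : ∀ a b (e : ℤˣ), (sO hQ hU (a, b), e) ∈ Ctw (MonoidHom.snd _ _) (y, 1) ↔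
        (b, e) ∈ Ctw (MonoidHom.snd _ _) (z, 1) := fun a b e => by
      rw [mem_Ctw, mem_Ctw, Prod.ext_iff, Prod.ext_iff]
      refine and_congr_left' ?_
      change sO hQ hU (a, b) * y * (sO hQ hU (a, b))⁻¹ = y ^ (e : ℤ) ↔ b * z * b⁻¹ = z ^ (e : ℤ)
      rw [← hz, ← map_inv, ← map_mul, ← map_mul, ← map_zpow, (sO_inj hQ hU).eq_iff]
      simp
    refine NQs.sub (L' := OS Q u 0 ⊓ Ctw (MonoidHom.snd _ _) (y, 1)) (NQs.of_map (NQ.fp h4 h3)
      (MonoidHom.mk' (fun g => (sO hQ hU (g.1.1.1.1, g.1.2.1.1), g.1.1.1.2)) fun a b =>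
        Prod.ext (map_mul (sO hQ hU) (_, _) (_, _)) rfl) (fun _ => rfl) (fun g => ⟨mem_OS_zero.2
          ((sO_left hQ hU _ ⟨u, hy.2 hyu.1⟩).trans (congrArg Subtype.val g.1.1.2.1)), (h5 _ _ _).2 ?_⟩)
      fun g hg => ?_) inf_le_left (fun _ => rfl) fun g => ?_
    · rw [show g.1.1.1.2 = g.1.2.1.2 from g.2]; exact g.1.2.2
    · have a1 : ∀ x ∈ U, g.1 x ∈ U := fun x hx => by
        have a2 : g.1 * y * g.1⁻¹ = y ^ (g.2 : ℤ) := congrArg Prod.fst (mem_Ctw.1 hg.2)
        have a3 : (y ^ (g.2 : ℤ)) (g.1 x) = g.1 x := by simp [← a2, hy.1 hx]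
        rcases Int.units_eq_one_or g.2 with h | h
        · exact hy.2 (by simpa [h] using a3)
        · exact hy.2 ((O.inv_apply_eq _).1 (by simpa [h] using a3)).symm
      have a2 := sO_rO hQ hU a1
      exact ⟨⟨(⟨(rO g.1 a1, g.2), mem_OS_zero.2 (Subtype.ext hg.1.1)⟩, ⟨(rO g.1 (perp_inv a1), g.2),
        (h5 _ _ _).1 (by rw [a2]; exact hg.2)⟩), rfl⟩, Prod.ext a2 rfl⟩
    · rw [mem_Ctw, Subtype.ext_iff]
      exact ⟨fun h => ⟨g.2, h⟩, fun h => h.2⟩
  · by_cases hV : ∀ x, ∃ c : F, x = c • u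
    · refine ⟨⊤, le_top, NQ.of_triv fun g hg => Subtype.ext (Subtype.ext (Prod.ext (O.ext fun x => ?_) hg))⟩
      obtain ⟨c, rfl⟩ := hV x
      rw [map_smul, g.1.2.1]; rfl
    obtain ⟨x, hx⟩ := not_forall.1 hV
    have : Nontrivial (V ⧸ Submodule.span F {u}) := ⟨⟨Submodule.Quotient.mk x, 0, fun h => hx
      ((Submodule.mem_span_singleton.1 ((Submodule.Quotient.mk_eq_zero _).1 h)).imp fun _ => Eq.symm)⟩⟩
    have : Finite (V ⧸ Submodule.span F {u}) := Module.finite_of_finite F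
    let φ : T →* Module.End F (V ⧸ Submodule.span F {u}) :=
      { toFun := fun g => Submodule.mapQ _ _ g.1.1.1.lin (Submodule.span_le.2
          (Set.singleton_subset_iff.2 (g.1.2.1.symm ▸ Submodule.subset_span rfl : g.1.1.1 u ∈ F ∙ u)))
        map_one' := Submodule.linearMap_qext _ rfl
        map_mul' := fun _ _ => Submodule.linearMap_qext _ rfl }
    let _ : MulAction T (V ⧸ Submodule.span F {u}) := MulAction.compHom _ φ
    obtain ⟨w, hw, h⟩ := exists_fixed hT (vadd_self (F := F))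
      (MulAction.toPermHom T (V ⧸ Submodule.span F {u})) fun t => map_zero (φ t)
    obtain ⟨w, rfl⟩ := Submodule.Quotient.mk_surjective _ w
    refine ⟨(OS Q u w).subgroupOf _, fun t ht => ⟨t.2.1, ?_⟩, (h2 w fun c hc => hw ?_).sub
      (fun g hg => mem_OS_zero.2 hg.1) (fun _ => rfl) fun _ => Iff.rfl⟩
    · obtain ⟨c, hc⟩ := Submodule.mem_span_singleton.1 ((Submodule.Quotient.eq _).1 (h ⟨t, ht⟩))
      exact ⟨c, sub_eq_iff_eq_add'.1 hc.symm⟩
    · rw [Submodule.Quotient.mk_eq_zero, hc]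
      exact Submodule.smul_mem _ _ (Submodule.subset_span rfl)

omit hQ in
theorem nq_OS (n : ℕ) : ∀ (V : Type u) [AddCommGroup V] [Module F V] [FiniteDimensional F V]
    (Q : QuadraticForm F V), Q.polarBilin.Nondegenerate → finrank F V = n →
    ∀ u, u = 0 ∨ Q u ≠ 0 → ∀ x, NQs (OS Q u x) := by
  induction n using Nat.strong_induction_on with
  | _ n ih =>
  intro V _ _ _ Q hQ hn
  have ih' : ∀ u, u = 0 ∨ Q u ≠ 0 → ∀ U : Submodule F V, Nondeg Q U → finrank F U < finrank F V →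
      ∀ (hu : u ∈ U) x, NQs (OS (Q.restrict U) ⟨u, hu⟩ x) := fun u hu U hU h hu' =>
    ih _ (hn ▸ h) U _ hU.restrict rfl _ (hu.imp Subtype.ext id)
  have k : ∀ u, u = 0 ∨ Q u ≠ 0 → (∀ x, (∀ c : F, x ≠ c • u) → NQs (OS Q u x)) →
      ∀ x, NQs (OS Q u x) := fun u hu h x => by
    by_cases hx : ∀ c : F, x ≠ c • u
    · exact h x hx
    obtain ⟨c, hc⟩ := not_forall.1 hx
    rw [not_not.1 hc, ← zero_add (c • u), OS_add]
    exact nq_stab hQ (fun U hU h hu' => ih' u hu U hU h hu' 0) h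
  have k2 : ∀ u, Q u ≠ 0 → ∀ x, NQs (OS Q u x) := fun u hu => k u (Or.inr hu) fun x hx => by
    by_cases hux : polar Q u x = 0
    · obtain ⟨c, hc⟩ := FiniteField.isSquare_of_char_two (ringChar.eq F 2) (Q x / Q u)
      rw [← OS_add u x c]
      refine nq_sing hQ ?_ (by rw [polar_add_right, polar_smul_right, pself2, hux, smul_zero, add_zero]) (fun d hd => hx (d - c) ?_) (Or.inr hu) (ih' u (Or.inr hu))
      · rw [Q_add, Q_smul, ← hc, div_mul_cancel₀ _ hu, CharTwo.add_self_eq_zero, polar_smul_right,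
          pc hux, smul_zero, add_zero]
      · rw [sub_smul, ← hd, add_sub_cancel_right]
    · exact nq_plane hQ hux hu fun U hU h => ih' 0 (Or.inl rfl) U hU h (zero_mem _) 0
  rintro u (rfl | hu)
  · refine k 0 (Or.inl rfl) fun x hx => ?_
    by_cases h : Q x = 0
    · exact nq_sing hQ h (by simp) hx (Or.inl rfl) (ih' 0 (Or.inl rfl))
    · convert k2 x h 0 using 1
      exact Subgroup.ext fun g => ⟨fun ⟨_, c, hc⟩ => mem_OS_zero.2 (by simpa using hc),
        fun hg => ⟨map_zero _, 0, by simpa using hg.1⟩⟩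
  · exact k2 u hu

theorem nq_O : NQ (MonoidHom.snd (O Q) ℤˣ) :=
  NQ.of_surj (nq_OS _ V Q hQ rfl 0 (Or.inl rfl) 0) (Subgroup.subtype _) (fun _ => rfl) fun g =>
    ⟨⟨g, mem_OS_zero.2 (map_zero _)⟩, rfl⟩

end H93.FS
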