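import Cfsg.Agent.H16.HN3Spec
import Cfsg.Agent.H26.McM3a

/-! `JobL` of `blueprints/HN3L.md` §3: the normaliser of `J = 3⁴`. -/

set_option autoImplicit false
set_option maxRecDepth 100000
set_option synthInstance.maxSize 2048

namespace H93.HN3

open Cfsg Subgroup H98 H42.L3 H42.MC H16.HN3
open H56.L3 (Nz)
open H47.MC (V Mat Acts Coord)
open H90 (SL5)
open scoped commutatorElement Matrix

universe u

local notation "Ce" => H56.L3.Ce

attribute [local instance high] List.decidableBAll List.decidableBEx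

/-- the determinant of a `4 × 4` matrix -/
def d4 (M : Mat) : ZMod 3 :=
  M 0 0 * (M 1 1 * (M 2 2 * M 3 3 - M 2 3 * M 3 2) - M 1 2 * (M 2 1 * M 3 3 - M 2 3 * M 3 1) +
    M 1 3 * (M 2 1 * M 3 2 - M 2 2 * M 3 1)) -
  M 0 1 * (M 1 0 * (M 2 2 * M 3 3 - M 2 3 * M 3 2) - M 1 2 * (M 2 0 * M 3 3 - M 2 3 * M 3 0) +
    M 1 3 * (M 2 0 * M 3 2 - M 2 2 * M 3 0)) +
  M 0 2 * (M 1 0 * (M 2 1 * M 3 3 - M 2 3 * M 3 1) - M 1 1 * (M 2 0 * M 3 3 - M 2 3 * M 3 0) +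
    M 1 3 * (M 2 0 * M 3 1 - M 2 1 * M 3 0)) -
  M 0 3 * (M 1 0 * (M 2 1 * M 3 2 - M 2 2 * M 3 1) - M 1 1 * (M 2 0 * M 3 2 - M 2 2 * M 3 0) +
    M 1 2 * (M 2 0 * M 3 1 - M 2 1 * M 3 0))

theorem det_eq (M : Mat) : M.det = d4 M := by
  simp [d4, Matrix.det_succ_row_zero, Fin.sum_univ_succ, Fin.succAbove]
  ring

theorem inG_iff {M : Mat} : InG M ↔ Mᵀ * M = d4 M • (1 : Mat) ∧ d4 M ≠ 0 := by
  rw [InG, det_eq]

theorem inG_sieg : ∀ b : V, b ⬝ᵥ wz = 0 → InG (sieg wz b) := by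
  simp only [inG_iff]
  decide +kernel

theorem inG_N : InG mN := by
  rw [inG_iff]; decide +kernel

theorem inG_X : InG (sieg wa ve1) := by
  rw [inG_iff]; decide +kernel

theorem inG_neg : InG (-1) := by
  rw [inG_iff]; decide +kernel

theorem inG_one : InG 1 := by
  rw [inG_iff]; decide +kernel

/-- the matrix with given columns -/
def cols (a b c d : V) : Mat := Matrix.of fun i j => ![a, b, c, d] j i

theorem stab : ∀ a : V, a ⬝ᵥ a ≠ 0 → ∀ b : V, a ⬝ᵥ b = 0 → b ⬝ᵥ b = a ⬝ᵥ a →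
    a ⬝ᵥ (wz - a - b) = 0 → b ⬝ᵥ (wz - a - b) = 0 → ∀ d : V, a ⬝ᵥ d = 0 → b ⬝ᵥ d = 0 →
    (wz - a - b) ⬝ᵥ d = 0 → d4 (cols a b (wz - a - b) d) = a ⬝ᵥ a →
    ∃ i ∈ [0, 1, 2, 3], ∃ x y : ZMod 3, cols a b (wz - a - b) d = sieg wz ![0, x, -x, y] * mN ^ i := by
  decide +kernel

/-- the classes -/
theorem cls0 : ∀ x : V, x ≠ 0 → x ⬝ᵥ x = 0 → x ⬝ᵥ wz = 0 → x = wz ∨ x = -wz ∨
    ∃ i ∈ [0, 1, 2, 3], ∃ a b : ZMod 3, sieg wz ![0, a, -a, b] *ᵥ (mN ^ i *ᵥ wa) = x := by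
  decide +kernel

theorem cls1 : ∀ x : V, x ⬝ᵥ x = 0 → x ⬝ᵥ wz ≠ 0 → 
    ∃ i ∈ [0, 1, 2, 3], ∃ a b : ZMod 3, sieg wz ![0, a, -a, b] *ᵥ (mN ^ i *ᵥ ![0, 1, 1, 1]) = x := by
  decide +kernel

theorem cls2 : ∀ x : V, x ⬝ᵥ x ≠ 0 → x ⬝ᵥ wz ≠ 0 → 
    ∃ i ∈ [0, 1, 2, 3], ∃ a b : ZMod 3, sieg wz ![0, a, -a, b] *ᵥ (mN ^ i *ᵥ ve3) = x ∨
      sieg wz ![0, a, -a, b] *ᵥ (mN ^ i *ᵥ ve3) = -x := by
  decide +kernel


theorem sq_one : ∀ a : ZMod 3, a ≠ 0 → a * a = 1 := by decide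

theorem inG_mul {M N : Mat} (h : InG M) (k : InG N) : InG (M * N) := by
  refine ⟨?_, by rw [Matrix.det_mul]; exact mul_ne_zero h.2 k.2⟩
  rw [Matrix.transpose_mul, Matrix.mul_assoc, ← Matrix.mul_assoc Mᵀ, h.1, Matrix.smul_mul,
    Matrix.one_mul, Matrix.mul_smul, k.1, smul_smul, Matrix.det_mul]

theorem inG_pow {M : Mat} (h : InG M) : ∀ n : ℕ, InG (M ^ n)
  | 0 => by simpa using inG_one
  | n + 1 => by rw [pow_succ]; exact inG_mul (inG_pow h n) h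

theorem sim_inv {M : Mat} {l : ZMod 3} (h : Mᵀ * M = l • (1 : Mat)) (h0 : l ≠ 0) :
    M * (l • Mᵀ) = 1 :=
  mul_eq_one_comm.1 (by rw [Matrix.smul_mul, h, smul_smul, sq_one l h0, one_smul])

theorem sim_dot {M : Mat} {l : ZMod 3} (h : Mᵀ * M = l • (1 : Mat)) (x y : V) :
    (M *ᵥ x) ⬝ᵥ (M *ᵥ y) = l * (x ⬝ᵥ y) := by
  rw [← Matrix.vecMul_transpose, ← Matrix.dotProduct_mulVec, Matrix.mulVec_mulVec, h,
    Matrix.smul_mulVec, Matrix.one_mulVec, dotProduct_smul, smul_eq_mul]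

theorem inG_inv {M : Mat} (h : InG M) : InG (M.det • Mᵀ) := by
  have h1 : (M.det • Mᵀ).det = M.det := by
    rw [Matrix.det_smul, Matrix.det_transpose, Fintype.card_fin]
    exact (by decide : ∀ a : ZMod 3, a ≠ 0 → a ^ 4 * a = a) _ h.2
  refine ⟨?_, h1.symm ▸ h.2⟩
  rw [h1, Matrix.transpose_smul, Matrix.transpose_transpose, Matrix.smul_mul, sim_inv h.1 h.2]

theorem sieg_mulVec (u a x : V) : sieg u a *ᵥ x =
    x + (a ⬝ᵥ x) • u - (u ⬝ᵥ x) • a + ((a ⬝ᵥ a) * (u ⬝ᵥ x)) • u := by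
  ext i
  fin_cases i <;> simp [sieg, Matrix.mulVec, dotProduct, Fin.sum_univ_four] <;> ring

theorem sieg_conj {M : Mat} {l : ZMod 3} (h : Mᵀ * M = l • (1 : Mat)) (h0 : l ≠ 0) (u a x : V) :
    M *ᵥ (sieg u a *ᵥ x) = sieg (M *ᵥ u) (l • M *ᵥ a) *ᵥ (M *ᵥ x) := by
  have e := sq_one l h0
  rw [sieg_mulVec, sieg_mulVec]
  simp only [Matrix.mulVec_add, Matrix.mulVec_sub, Matrix.mulVec_smul, smul_dotProduct,
    dotProduct_smul, sim_dot h, smul_eq_mul, smul_smul]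
  rw [show l * (l * a ⬝ᵥ x) = a ⬝ᵥ x by rw [← mul_assoc, e, one_mul],
    show l * u ⬝ᵥ x * l = u ⬝ᵥ x by rw [mul_comm, ← mul_assoc, e, one_mul],
    show l * (l * (l * a ⬝ᵥ a)) * (l * u ⬝ᵥ x) = a ⬝ᵥ a * u ⬝ᵥ x by
      linear_combination (l * l + 1) * (a ⬝ᵥ a) * (u ⬝ᵥ x) * e]

theorem tri : ∀ d a b c : ZMod 3, d + 2 * (a + b + c) = 0 → d + 2 * (a - b - c) = 0 →
    d + 2 * (-a + b - c) = 0 → d + 2 * (-a - b + c) = 0 → d = 0 ∧ a = 0 ∧ b = 0 ∧ c = 0 := by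
  decide +kernel

theorem tri' : ∀ a b c d : ZMod 3, a + b + c = 0 → a + b + d = 0 → a + c + d = 0 →
    b = a ∧ c = a ∧ d = a := by
  decide +kernel

/-- a quadratic form vanishing on the singular vectors is a multiple of `x ⬝ᵥ x` -/
theorem gram {B : Mat} (hs : Bᵀ = B) (h : ∀ x : V, x ⬝ᵥ x = 0 → x ⬝ᵥ B *ᵥ x = 0) :
    B = B 0 0 • (1 : Mat) := by
  have s : ∀ i j, B j i = B i j := fun i j => congrFun (congrFun hs i) j
  have k : ∀ a b c d : ZMod 3, a * a + b * b + c * c + d * d = 0 →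
      a * a * B 0 0 + b * b * B 1 1 + c * c * B 2 2 + d * d * B 3 3 + 2 * (a * b * B 0 1 +
        a * c * B 0 2 + a * d * B 0 3 + b * c * B 1 2 + b * d * B 1 3 + c * d * B 2 3) = 0 :=
    fun a b c d e => by
      have := h ![a, b, c, d] (by simpa [dotProduct, Fin.sum_univ_four] using e)
      simp only [dotProduct, Matrix.mulVec, Fin.sum_univ_four, Matrix.cons_val_zero,
        Matrix.cons_val_one, Matrix.cons_val, s 0 1, s 0 2, s 0 3, s 1 2, s 1 3, s 2 3] at this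
      linear_combination this
  obtain ⟨d1, a1, a2, a3⟩ := tri (B 0 0 + B 1 1 + B 2 2) (B 0 1) (B 0 2) (B 1 2)
    (by linear_combination k 1 1 1 0 (by decide)) (by linear_combination k 1 1 (-1) 0 (by decide))
    (by linear_combination k 1 (-1) 1 0 (by decide))
    (by linear_combination k 1 (-1) (-1) 0 (by decide))
  obtain ⟨d2, -, a4, a5⟩ := tri (B 0 0 + B 1 1 + B 3 3) (B 0 1) (B 0 3) (B 1 3)
    (by linear_combination k 1 1 0 1 (by decide)) (by linear_combination k 1 1 0 (-1) (by decide))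
    (by linear_combination k 1 (-1) 0 1 (by decide))
    (by linear_combination k 1 (-1) 0 (-1) (by decide))
  obtain ⟨d3, -, -, a6⟩ := tri (B 0 0 + B 2 2 + B 3 3) (B 0 2) (B 0 3) (B 2 3)
    (by linear_combination k 1 0 1 1 (by decide)) (by linear_combination k 1 0 1 (-1) (by decide))
    (by linear_combination k 1 0 (-1) 1 (by decide))
    (by linear_combination k 1 0 (-1) (-1) (by decide))
  obtain ⟨b1, b2, b3⟩ := tri' _ _ _ _ d1 d2 d3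
  ext i j
  fin_cases i <;> fin_cases j <;>
    simp [a1, a2, a3, a4, a5, a6, b1, b2, b3, s 0 1, s 0 2, s 0 3, s 1 2, s 1 3, s 2 3]

theorem eq_cols (M : Mat) : M = cols (M *ᵥ ve1) (M *ᵥ ve2) (M *ᵥ ve3) (M *ᵥ ve4) := by
  ext i j
  fin_cases j <;> simp [cols, ve1, ve2, ve3, ve4, Matrix.mulVec, dotProduct, Fin.sum_univ_four]

/-- the stabiliser of `wz` in `Γ` -/
theorem stab' {M : Mat} (h : InG M) (e : M *ᵥ wz = wz) :
    ∃ i : ℕ, ∃ b : V, b ⬝ᵥ wz = 0 ∧ M = sieg wz b * mN ^ i := by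
  have h3 : M *ᵥ ve3 = wz - M *ᵥ ve1 - M *ᵥ ve2 := by
    conv_rhs => rw [← e]
    rw [← Matrix.mulVec_sub, ← Matrix.mulVec_sub]
    exact congrArg _ (by decide)
  have d := sim_dot h.1
  have h1 : (M *ᵥ ve1) ⬝ᵥ (M *ᵥ ve1) = M.det := by
    rw [d, show ve1 ⬝ᵥ ve1 = 1 by decide, mul_one]
  have z : ∀ x y : V, x ⬝ᵥ y = 0 → (M *ᵥ x) ⬝ᵥ (M *ᵥ y) = 0 := fun x y e => by rw [d, e, mul_zero]
  obtain ⟨i, -, x, y, e'⟩ := stab (M *ᵥ ve1) (h1 ▸ h.2) (M *ᵥ ve2) (z _ _ (by decide))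
    (by rw [h1, d, show ve2 ⬝ᵥ ve2 = 1 by decide, mul_one]) (h3 ▸ z _ _ (by decide))
    (h3 ▸ z _ _ (by decide)) (M *ᵥ ve4) (z _ _ (by decide)) (z _ _ (by decide))
    (h3 ▸ z _ _ (by decide)) (by rw [← h3, ← eq_cols, h1, det_eq])
  rw [← h3, ← eq_cols] at e'
  exact ⟨i, _, by simp [wz, dotProduct, Fin.sum_univ_four], e'⟩

/-- generators of `Γ` -/
def gn : ℕ → Mat
  | 0 => sieg wa ve1
  | 1 => mN
  | _ => sieg wz wa

def ev (w : List ℕ) (x : V) : V := w.foldr (fun i y => gn i *ᵥ y) x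

def w0 : List (List ℕ) := [[], [0], [0, 0], [1, 0], [1, 0, 0], [0, 1, 0], [2, 1, 0], [0, 1, 0, 0],
  [2, 1, 0, 0], [0, 0, 1, 0], [1, 0, 1, 0], [2, 0, 1, 0], [1, 2, 1, 0], [2, 2, 1, 0],
  [0, 0, 1, 0, 0], [1, 0, 1, 0, 0], [1, 2, 1, 0, 0], [2, 2, 1, 0, 0], [1, 0, 0, 1, 0],
  [2, 0, 0, 1, 0], [0, 1, 0, 1, 0], [2, 1, 0, 1, 0], [1, 2, 0, 1, 0], [2, 2, 0, 1, 0],
  [0, 1, 2, 1, 0], [1, 2, 2, 1, 0], [1, 0, 0, 1, 0, 0], [0, 1, 0, 0, 1, 0], [2, 0, 1, 0, 1, 0],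
  [0, 1, 2, 0, 1, 0], [0, 0, 1, 2, 1, 0], [1, 0, 1, 0, 0, 1, 0]]

def w1 : List (List ℕ) := [[], [0], [1], [2], [1, 0], [2, 1], [1, 2], [0, 1, 0], [2, 1, 0],
  [1, 2, 1], [2, 2, 1], [0, 1, 2], [2, 1, 2], [0, 0, 1, 0], [1, 0, 1, 0], [2, 0, 1, 0],
  [1, 2, 1, 0], [2, 2, 1, 0], [0, 1, 2, 1], [1, 2, 2, 1], [0, 0, 1, 2], [1, 0, 1, 2], [2, 0, 1, 2],
  [1, 2, 1, 2], [2, 2, 1, 2], [1, 0, 0, 1, 0], [2, 0, 0, 1, 0], [2, 1, 0, 1, 0], [1, 2, 0, 1, 0],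
  [2, 2, 0, 1, 0], [1, 2, 2, 1, 0], [0, 1, 2, 2, 1], [1, 0, 0, 1, 2], [2, 0, 0, 1, 2],
  [0, 1, 0, 1, 2], [2, 1, 0, 1, 2], [2, 2, 0, 1, 2], [0, 1, 2, 1, 2], [0, 1, 0, 0, 1, 0],
  [2, 2, 0, 0, 1, 0], [1, 2, 1, 0, 1, 0], [0, 1, 2, 0, 1, 0], [1, 1, 2, 0, 1, 0],
  [2, 1, 2, 0, 1, 0], [1, 2, 2, 0, 1, 0], [1, 0, 1, 2, 2, 1], [0, 1, 0, 0, 1, 2],
  [1, 2, 1, 2, 0, 1, 0]]

theorem words0 : ∀ x : V, x ≠ 0 → x ⬝ᵥ x = 0 → x ∈ w0.map (ev · wz) := by decide +kernel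

theorem words1 : ∀ x : V, x ⬝ᵥ x ≠ 0 → x ∈ w1.map (ev · ve1) := by decide +kernel

theorem avg : ∀ x : V, x + mN *ᵥ (x + mN *ᵥ (x + mN *ᵥ x)) = 0 → ∃ y, mN *ᵥ y + x = y := by
  decide +kernel

theorem hyp_sing : ∀ a : V, ∃ x : V, x ≠ 0 ∧ x ⬝ᵥ x = 0 ∧ a ⬝ᵥ x = 0 := by decide +kernel

/-- the possible orbits of `wz` -/
def orb (b c : Bool) (x : V) : Prop := (x ≠ 0 ∧ x ⬝ᵥ x = 0 ∧ x ⬝ᵥ wz = 0) ∨
  (b = true ∧ x ⬝ᵥ x = 0 ∧ x ⬝ᵥ wz ≠ 0) ∨ (c = true ∧ x ⬝ᵥ x ≠ 0 ∧ x ⬝ᵥ wz ≠ 0)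

instance (b c : Bool) : DecidablePred (orb b c) := fun x => by unfold orb; infer_instance

theorem card_orb : ∀ b c : Bool, (Finset.univ.filter (orb b c)).card ∣ 24261120 →
    b = true ∧ c = false := by decide +kernel

section grp

variable {G : Type u} [Group G] {v : V → G}

/-- the realised matrices -/
def HG (v : V → G) : Subgroup (GL (Fin 4) (ZMod 3)) where
  carrier := {M | ∃ g, Acts v g M.1}
  one_mem' := ⟨1, acts_one⟩
  mul_mem' := fun ⟨_, hg⟩ ⟨_, hk⟩ => ⟨_, acts_mul hg hk⟩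
  inv_mem' := fun {M} ⟨_, hg⟩ => ⟨_, acts_inv hg M.mul_inv⟩

/-- the action of a group of matrices on the vectors -/
@[reducible] def act (H : Subgroup (GL (Fin 4) (ZMod 3))) : MulAction H V where
  smul M x := M.1.1 *ᵥ x
  one_smul x := Matrix.one_mulVec x
  mul_smul M N x := (Matrix.mulVec_mulVec x M.1.1 N.1.1).symm

theorem card_dvd (H : Subgroup (GL (Fin 4) (ZMod 3))) (x : V) (s : Finset V)
    (hs : ∀ y, y ∈ s ↔ ∃ M ∈ H, M.1 *ᵥ x = y) : s.card ∣ 24261120 := by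
  letI := act H
  have h1 : (MulAction.orbit H x).ncard = s.card := by
    rw [← Set.ncard_coe_finset]
    refine congrArg _ (Set.ext fun y => ?_)
    rw [Finset.mem_coe, hs]
    exact ⟨fun ⟨M, e⟩ => ⟨M.1, M.2, e⟩, fun ⟨M, hM, e⟩ => ⟨⟨M, hM⟩, e⟩⟩
  have h2 : Nat.card (GL (Fin 4) (ZMod 3)) = 24261120 := by
    rw [Matrix.card_GL_field, ZMod.card]; decide
  rw [← h1, ← h2, ← MulAction.index_stabilizer]
  exact (index_dvd_card _).trans (card_subgroup_dvd_card H)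

variable [Finite G] {S J Q L : Subgroup G} {n g : G} {π : Ce (v wz) →* SL5}
  (h : Pre v S J Q L n π) {M : Mat} {x : V}
include h

theorem cJ : cn J ≤ J := h.bas.cJ h.JS h.Jc h.J81

theorem fus (e : IsConj (v wz) (v x)) : ∃ g ∈ nr J, g * v wz * g⁻¹ = v x := by
  obtain ⟨g, hg⟩ := isConj_iff.1 e
  obtain ⟨k, hk, h1⟩ := wc2 h.toCoord (h.bas.wc h.JS h.Jc h.J81) (g := g) (A := zpowers (v wz))
    (zpowers_le.2 (v_mem h.toCoord _)) (by
      rw [H98.cj, MonoidHom.map_zpowers]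
      exact zpowers_le.2 (show g * v wz * g⁻¹ ∈ J from hg ▸ v_mem h.toCoord _))
  refine ⟨k, hk, ?_⟩
  have h2 := h1 _ (mem_zpowers _)
  calc _ = k * (v wz * (k⁻¹ * g)) * g⁻¹ := by group
    _ = _ := by rw [h2, ← hg]; group

omit [Finite G] in
theorem exists_unit (hg : g ∈ nr J) : ∃ M : GL (Fin 4) (ZMod 3), Acts v g M.1 := by
  obtain ⟨M, hM⟩ := H26.MC.exists_acts h.toCoord hg
  obtain ⟨N, hN⟩ := H26.MC.exists_acts h.toCoord (inv_mem hg)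
  have e : M * N = 1 := H26.MC.acts_unique h.toCoord (by simpa using acts_mul hM hN) acts_one
  exact ⟨⟨M, N, e, mul_eq_one_comm.1 e⟩, hM⟩

omit [Finite G] h in
theorem conj_act (hg : Acts v g M) (e : IsConj (v wz) (v x)) : IsConj (v wz) (v (M *ᵥ x)) :=
  e.trans (isConj_iff.2 ⟨g, hg x⟩)

omit [Finite G] h in
theorem conj_act' (hg : Acts v g M) (e : IsConj (v wz) (v (M *ᵥ x))) : IsConj (v wz) (v x) :=
  e.trans (isConj_iff.2 ⟨g, hg x⟩ : IsConj (v x) _).symm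

omit [Finite G] in
theorem conj_neg (e : IsConj (v wz) (v x)) : IsConj (v wz) (v (-x)) := by
  have k : ∀ {a b : G}, IsConj a b → IsConj a⁻¹ b⁻¹ := fun e => by
    obtain ⟨g, hg⟩ := isConj_iff.1 e
    exact isConj_iff.2 ⟨g, by rw [← hg]; group⟩
  have h1 : IsConj (v wz) (v (-wa)) := by
    have := conj_act (acts_mul h.aN h.aN) h.exA
    rwa [show (mN * mN) *ᵥ wa = -wa by decide] at this
  rw [v_neg h.toCoord] at h1 ⊢
  exact (h1.trans (k h.exA).symm).trans (k e)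

omit [Finite G] in
theorem conj_st (i : ℕ) (a b : ZMod 3) :
    IsConj (v wz) (v (sieg wz ![0, a, -a, b] *ᵥ (mN ^ i *ᵥ x))) ↔ IsConj (v wz) (v x) := by
  obtain ⟨q, -, hq⟩ := h.qreal ![0, a, -a, b] (by simp [wz, dotProduct, Fin.sum_univ_four])
  exact ⟨fun e => conj_act' (acts_pow h.aN i) (conj_act' hq e),
    fun e => conj_act hq (conj_act (acts_pow h.aN i) e)⟩

omit [Finite G] in
theorem ne_zero (e : IsConj (v wz) (v x)) : x ≠ 0 := by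
  rintro rfl
  rw [v_zero h.toCoord, isConj_one_left, v_eq_one h.toCoord] at e
  exact absurd e (by decide)

/-- the vectors conjugate to `wz` are the non-zero singular vectors -/
theorem conj_iff : IsConj (v wz) (v x) ↔ x ≠ 0 ∧ x ⬝ᵥ x = 0 := by
  classical
  have key : ∀ x, IsConj (v wz) (v x) ↔ orb (decide (IsConj (v wz) (v ![0, 1, 1, 1])))
      (decide (IsConj (v wz) (v ve3))) x := fun x => by
    simp only [orb, decide_eq_true_eq]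
    by_cases e : x ⬝ᵥ wz = 0
    · refine ⟨fun c => Or.inl ⟨ne_zero h c, h.singA x e c, e⟩, ?_⟩
      rintro (⟨h1, h2, -⟩ | ⟨-, -, h1⟩ | ⟨-, -, h1⟩)
      · rcases cls0 x h1 h2 e with rfl | rfl | ⟨i, -, a, b, rfl⟩
        exacts [IsConj.refl _, conj_neg h (IsConj.refl _), (conj_st h i a b).2 h.exA]
      exacts [absurd e h1, absurd e h1]
    · by_cases e' : x ⬝ᵥ x = 0
      · obtain ⟨i, -, a, b, e1⟩ := cls1 x e' e
        have := conj_st h (x := ![0, 1, 1, 1]) i a b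
        rw [e1] at this
        simp [-isConj_iff, this, e, e']
      · obtain ⟨i, -, a, b, e1⟩ := cls2 x e' e
        have h1 := conj_st h (x := ve3) i a b
        have h2 : IsConj (v wz) (v x) ↔ IsConj (v wz) (v ve3) := by
          rcases e1 with e1 | e1 <;> rw [e1] at h1
          · exact h1
          · exact ⟨fun c => h1.1 (conj_neg h c), fun c => by simpa using conj_neg h (h1.2 c)⟩
        simp [-isConj_iff, h2, e, e']
  obtain ⟨h1, h2⟩ := card_orb _ _ (card_dvd (HG v) wz _ fun y => by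
    rw [Finset.mem_filter, ← key]
    refine ⟨fun c => ?_, fun ⟨M, ⟨g, hg⟩, e⟩ => ⟨Finset.mem_univ _, isConj_iff.2 ⟨g, e ▸ hg wz⟩⟩⟩
    obtain ⟨g, hg, e⟩ := fus h c.2
    obtain ⟨M, hM⟩ := exists_unit h hg
    exact ⟨M, ⟨g, hM⟩, h.inj ((hM wz).symm.trans e)⟩)
  rw [key, h1, h2]
  revert x
  unfold orb
  decide +kernel

/-- elements of `N(J)` act as similitudes -/
theorem simil (hg : Acts v g M) : ∃ l : ZMod 3, l ≠ 0 ∧ Mᵀ * M = l • (1 : Mat) := by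
  have d : ∀ x, x ⬝ᵥ (Mᵀ * M) *ᵥ x = (M *ᵥ x) ⬝ᵥ (M *ᵥ x) := fun x => by
    rw [← Matrix.mulVec_mulVec, Matrix.dotProduct_mulVec, Matrix.vecMul_transpose]
  have h1 := gram (B := Mᵀ * M) (by rw [Matrix.transpose_mul, Matrix.transpose_transpose])
    fun x e => by
      rw [d]
      by_cases h0 : x = 0
      · simp [h0]
      · exact ((conj_iff h).1 (conj_act hg ((conj_iff h).2 ⟨h0, e⟩))).2
  refine ⟨_, fun e => ?_, h1⟩
  have h2 : (M *ᵥ ve1) ⬝ᵥ (M *ᵥ ve1) = 0 := by rw [sim_dot h1, e, zero_mul]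
  have h3 : M *ᵥ ve1 ≠ 0 := fun e' => by
    have := hg ve1
    rw [e', v_zero h.toCoord, mul_inv_eq_one, mul_eq_left, v_eq_one h.toCoord] at this
    exact absurd this (by decide)
  exact absurd ((conj_iff h).1 (conj_act' hg ((conj_iff h).2 ⟨h3, h2⟩))).2 (by decide)

theorem real_X : ∃ g, Acts v g (sieg wa ve1) := by
  obtain ⟨g, hg, e⟩ := fus h h.exA
  obtain ⟨M, hM⟩ := H26.MC.exists_acts h.toCoord hg
  obtain ⟨l, h0, h1⟩ := simil h hM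
  have h2 : M *ᵥ wz = wa := h.inj ((hM wz).symm.trans e)
  obtain ⟨q, -, hq⟩ := h.qreal (Mᵀ *ᵥ ve1) (by
    rw [Matrix.mulVec_transpose, ← Matrix.dotProduct_mulVec, h2]; decide)
  have h3 := sim_inv h1 h0
  refine ⟨g * q * g⁻¹, fun x => ?_⟩
  rw [acts_mul (acts_mul hM hq) (acts_inv hM h3) x, ← Matrix.mulVec_mulVec, ← Matrix.mulVec_mulVec,
    sieg_conj h1 h0, h2, Matrix.mulVec_mulVec x M, h3, Matrix.one_mulVec, Matrix.mulVec_mulVec ve1,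
    ← Matrix.smul_mulVec, ← Matrix.mul_smul, h3, Matrix.one_mulVec]

theorem real_ev (w : List ℕ) (x : V) : ∃ g W, InG W ∧ Acts v g W ∧ W *ᵥ x = ev w x := by
  induction w with
  | nil => exact ⟨1, 1, inG_one, acts_one, Matrix.one_mulVec x⟩
  | cons i w ih =>
    obtain ⟨g, W, h1, h2, h3⟩ := ih
    obtain ⟨k, h4, h5⟩ : ∃ k, InG (gn i) ∧ Acts v k (gn i) := by
      match i with
      | 0 => exact (real_X h).imp fun _ e => ⟨inG_X, e⟩
      | 1 => exact ⟨n, inG_N, h.aN⟩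
      | _ + 2 => exact (h.qreal wa (by decide)).imp fun _ e => ⟨inG_sieg wa (by decide), e.2⟩
    exact ⟨_, _, inG_mul h4 h1, acts_mul h5 h2, by rw [← Matrix.mulVec_mulVec, h3]; rfl⟩

theorem real0 (h0 : x ≠ 0) (h1 : x ⬝ᵥ x = 0) : ∃ g W, InG W ∧ Acts v g W ∧ W *ᵥ wz = x := by
  obtain ⟨w, -, rfl⟩ := List.mem_map.1 (words0 x h0 h1)
  exact real_ev h w wz

theorem real1 (hM : InG M) : ∃ g, Acts v g M := by
  have h3 := sim_inv hM.1 hM.2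
  obtain ⟨g, W, h1, h2, e⟩ := real0 h (x := M *ᵥ wz) (fun e => by
    have := congrArg ((M.det • Mᵀ) *ᵥ ·) e
    simp only [Matrix.mulVec_mulVec, mul_eq_one_comm.1 h3, Matrix.one_mulVec,
      Matrix.mulVec_zero] at this
    exact absurd this (by decide)) (by rw [sim_dot hM.1, show wz ⬝ᵥ wz = 0 by decide, mul_zero])
  have h4 := sim_inv h1.1 h1.2
  obtain ⟨i, b, hb, e'⟩ := stab' (inG_mul (inG_inv h1) hM) (by
    rw [← Matrix.mulVec_mulVec, ← e, Matrix.mulVec_mulVec, mul_eq_one_comm.1 h4, Matrix.one_mulVec])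
  obtain ⟨q, -, hq⟩ := h.qreal b hb
  have := acts_mul h2 (acts_mul hq (acts_pow h.aN i))
  rw [← e', ← Matrix.mul_assoc, h4, Matrix.one_mul] at this
  exact ⟨_, this⟩

theorem act1 (hg : g ∈ nr J) : ∃ M, InG M ∧ Acts v g M := by
  obtain ⟨M, hM⟩ := H26.MC.exists_acts h.toCoord hg
  have c := (conj_iff h).1 (conj_act hM (IsConj.refl _))
  obtain ⟨k, W, h1, h2, e⟩ := real0 h c.1 c.2
  obtain ⟨q, hq, j, hj, i, e'⟩ := h.NS (k⁻¹ * g) ⟨(nr J).mul_mem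
    ((nr J).inv_mem (acts_nr h.toCoord h2)) hg, mem_Ce'.2 (by
      calc _ = k⁻¹ * (g * v wz * g⁻¹) * k := by group
        _ = _ := by rw [hM, ← e, ← h2]; group)⟩
  obtain ⟨b, hb, h3⟩ := h.qact q hq
  have := acts_mul h2 (acts_mul (acts_mul h3 (acts_J h.toCoord hj)) (acts_pow h.aN i))
  rw [← e', mul_inv_cancel_left] at this
  exact ⟨_, inG_mul h1 (inG_mul (inG_mul (inG_sieg b hb) inG_one) (inG_pow inG_N i)), this⟩

omit [Finite G] in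
theorem eq_one_of_comm {ι : G} (hι : Acts v ι (-1)) (hg : g ∈ J) (c : Commute g ι) : g = 1 := by
  obtain ⟨x, rfl⟩ := (h.mem g).1 hg
  have h1 := hι x
  rw [← c.eq, mul_inv_cancel_right, h.inj.eq_iff] at h1
  rw [v_eq_one h.toCoord]
  exact (by decide +kernel : ∀ x : V, x = (-1 : Mat) *ᵥ x → x = 0) x h1

theorem conj_iota {ι : G} (hι : Acts v ι (-1)) (hg : Acts v g M) (hM : InG M) :
    ∃ x, g * ι * g⁻¹ = v x * ι :=
  H26.MC.exists_eq_mul h.toCoord (cJ h) (M := -1) (by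
    have := acts_mul (acts_mul hg hι) (acts_inv hg (sim_inv hM.1 hM.2))
    rwa [Matrix.mul_neg, Matrix.mul_one, Matrix.neg_mul, sim_inv hM.1 hM.2] at this) hι

theorem exists_iota : ∃ ι, Acts v ι (-1) ∧ Commute n ι := by
  obtain ⟨ι, hι⟩ := real1 h inG_neg
  obtain ⟨x, e⟩ := conj_iota h hι h.aN inG_N
  have k : ∀ y, n * (v y * ι) * n⁻¹ = v (x + mN *ᵥ y) * ι := fun y => by
    rw [add_comm, h.add, ← h.aN, mul_assoc _ (v x), ← e]; group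
  have h1 : n * (n * (n * (n * ι * n⁻¹) * n⁻¹) * n⁻¹) * n⁻¹ = ι := by
    calc _ = n * n * (n * n) * ι * (n * n * (n * n))⁻¹ := by group
      _ = _ := by rw [h.ss]; group
  rw [e, k, k, k, mul_eq_right, v_eq_one h.toCoord] at h1
  obtain ⟨y, hy⟩ := avg x h1
  refine ⟨v y * ι, by simpa using acts_mul (acts_J h.toCoord (v_mem h.toCoord y)) hι, ?_⟩
  exact mul_inv_eq_iff_eq_mul.1 (by rw [k, add_comm, hy])

theorem real2 {ι : G} (hι : Acts v ι (-1)) (hM : InG M) : ∃ g, Commute g ι ∧ Acts v g M := by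
  obtain ⟨g, hg⟩ := real1 h hM
  obtain ⟨x, e⟩ := conj_iota h hι hg hM
  refine ⟨v x * g, mul_inv_eq_iff_eq_mul.1 ?_,
    by simpa using acts_mul (acts_J h.toCoord (v_mem h.toCoord x)) hg⟩
  calc _ = v x * (g * ι * g⁻¹) * (v x)⁻¹ := by group
    _ = v x * v x * (ι * v (-x) * ι⁻¹) * ι := by rw [e, v_neg h.toCoord]; group
    _ = v x ^ 3 * ι := by rw [hι, Matrix.neg_mulVec, Matrix.one_mulVec, neg_neg, pow_three']
    _ = _ := by rw [v_cube h.toCoord, one_mul]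

theorem sig0 {R : Subgroup G} (h3 : (Nat.card R).Coprime 3) (hn : J ≤ nr R) (hg : g ∈ R)
    (hz : g ∈ Ce (v wz)) : g = 1 := by
  have one : ∀ x ∈ R, ∀ k, x ^ 3 ^ k = 1 → x = 1 := fun x hx k e => by
    rw [← orderOf_eq_one_iff]
    exact Nat.eq_one_of_dvd_coprimes (h3.pow_right k) (orderOf_dvd_natCard R hx)
      (orderOf_dvd_of_pow_eq_one e)
  have hQ : v wa ∈ Q := (h.vQ wa).2 (by decide)
  have hZ : v wa ∉ zpowers (v wz) := fun e => by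
    obtain ⟨a, e⟩ := (mem_zp_v h.toCoord).1 e
    exact (by decide : ∀ a : ZMod 3, a • wz ≠ wa) a (h.inj e)
  have h1 : g * v wa * g⁻¹ * (v wa)⁻¹ = 1 := one _ (by
    simpa [mul_assoc] using R.mul_mem hg
      (conj_mem_of_mem_normalizer (hn (v_mem h.toCoord wa)) (R.inv_mem hg))) 1 (by
    rw [pow_one]
    exact h.bas.expQ _ (Q.mul_mem (conj_mem_of_mem_normalizer (h.bas.nQ (h.bas.LN hz)) hQ)
      (Q.inv_mem hQ)))
  obtain ⟨k, hk⟩ := isPGroup_iff_forall.1 (h.bas.St_p hQ hZ) g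
    ⟨hz, h.bas.LN hz, h1 ▸ one_mem _⟩
  exact one g hg k hk

theorem sig {R : Subgroup G} (h3 : (Nat.card R).Coprime 3) (hn : J ≤ nr R) : R = ⊥ := by
  refine eq_bot_iff.2 (H1.le_of_cocyclic_fixed (MulAut.conj.comp (vh h.toCoord)) R
    (fun a x hx => conj_mem_of_mem_normalizer (hn (v_mem h.toCoord _)) hx)
    (by simpa using h3.symm.pow_left 4) _ fun Y hY g hR hg => ?_)
  obtain ⟨c, hc⟩ := hY.exists_zpow_surjective
  obtain ⟨c, rfl⟩ := QuotientGroup.mk'_surjective Y c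
  choose n hn' using fun i : Fin 4 => hc (QuotientGroup.mk' Y (.ofAdd (Pi.single i 1)))
  have key : ∀ x : V, (fun i => (n i : ZMod 3)) ⬝ᵥ x = 0 → g ∈ Ce (v x) := fun x hx => by
    have h2 : ∀ i, Multiplicative.ofAdd (Pi.single i 1 - (n i : ZMod 3) • c.toAdd : V) ∈ Y :=
      fun i => by
        rw [Int.cast_smul_eq_zsmul, ofAdd_sub, ofAdd_zsmul, ofAdd_toAdd,
          ← QuotientGroup.eq_iff_div_mem]
        exact (hn' i).symm
    have h4 : x = ∑ i, (x i).val • (Pi.single i 1 - (n i : ZMod 3) • c.toAdd : V) := by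
      simp only [← Nat.cast_smul_eq_nsmul (ZMod 3), ZMod.natCast_zmod_val, smul_sub, smul_smul,
        Finset.sum_sub_distrib, ← Finset.sum_smul]
      rw [show ∑ i, x i * n i = 0 by rw [← hx, dotProduct_comm]; rfl, zero_smul, sub_zero]
      exact pi_eq_sum_univ' x
    have h5 : Multiplicative.ofAdd x ∈ Y := by
      rw [h4, ofAdd_sum]
      exact Y.prod_mem fun i _ => Y.pow_mem (h2 i) _
    exact mem_Ce.2 (mul_inv_eq_iff_eq_mul.1 (hg _ h5)).symm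
  obtain ⟨x, h0, h1, e⟩ := hyp_sing fun i => (n i : ZMod 3)
  obtain ⟨k, hk, e'⟩ := fus h ((conj_iff h).2 ⟨h0, h1⟩)
  have h6 := sig0 h (R := cj k⁻¹ R) (g := k⁻¹ * g * k) (by rwa [card_cj])
    ((cj_eq_self (inv_mem hk)).ge.trans ((cj_mono _ hn).trans (cj_normalizer _ _).le))
    (mem_cj.2 (by simpa [mul_assoc] using hR)) (mem_Ce'.2 (by
      calc _ = k⁻¹ * (g * (k * v wz * k⁻¹) * g⁻¹) * k := by group
        _ = _ := by rw [e', mem_Ce'.1 (key x e), ← e']; group))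
  rw [mem_bot, ← mul_inv_cancel_left k g, ← mul_inv_cancel_right (k⁻¹ * g) k, h6]
  group

end grp

theorem jobL : JobL.{u} := fun G _ _ v S J Q L n π h => by
  obtain ⟨ι, hι, hn⟩ := exists_iota h
  refine ⟨ι, h, hι, ?_, hn, fun g => act1 h, fun M => real2 h hι, fun g g' M c c' a a' => ?_,
    fun x e => ((conj_iff h).1 e).2, fun x h0 h1 => fus h ((conj_iff h).2 ⟨h0, h1⟩),
    fun x h0 => ?_, fun R => sig h⟩
  · exact eq_one_of_comm h hι (H26.MC.mem_J h.toCoord (cJ h) (by simpa using acts_mul hι hι))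
      ((Commute.refl ι).mul_left (Commute.refl ι))
  · obtain ⟨x, e⟩ := H26.MC.exists_eq_mul h.toCoord (cJ h) a a'
    rw [← mul_inv_eq_iff_eq_mul] at e
    rw [← mul_inv_eq_one]
    exact eq_one_of_comm h hι (e ▸ v_mem h.toCoord x) (c.mul_left c'.inv_left)
  · obtain ⟨w, -, rfl⟩ := List.mem_map.1 (words1 x h0)
    obtain ⟨g, W, -, h2, e⟩ := real_ev h w ve1
    exact ⟨g, acts_nr h.toCoord h2, by rw [h2, e]⟩

end H93.HN3
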