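import Cfsg.Agent.Base

set_option autoImplicit false
open Polynomial Finset UniqueFactorizationMonoid

namespace H93.LSer
variable {F : Type*} [Field F] [Finite F]

theorem fin_le (n : ℕ) : {f : F[X] | f.natDegree ≤ n}.Finite := by
  have : Finite (degreeLT F (n+1)) := Finite.of_equiv _ (degreeLTEquiv F (n+1)).toEquiv.symm
  refine (Set.toFinite (degreeLT F (n+1) : Set F[X])).subset fun f hf => ?_
  have hf' : f.natDegree ≤ n := hf
  simp only [SetLike.mem_coe, mem_degreeLT]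
  exact degree_le_natDegree.trans_lt (by exact_mod_cast Nat.lt_succ_of_le hf')

/-- monic polynomials of degree `n` -/
noncomputable def Mon (F : Type*) [Field F] [Finite F] (n : ℕ) : Finset F[X] :=
  ((fin_le (F := F) n).subset (t := {f : F[X] | f.Monic ∧ f.natDegree = n})
    (fun _ hf => hf.2.le)).toFinset

theorem mem_Mon {n : ℕ} {f : F[X]} : f ∈ Mon F n ↔ f.Monic ∧ f.natDegree = n := by
  simp [Mon]

/-- monic irreducible polynomials of degree dividing `k` -/
noncomputable def Irr (F : Type*) [Field F] [Finite F] (k : ℕ) : Finset F[X] :=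
  ((fin_le (F := F) k).subset
    (t := {f : F[X] | f.Monic ∧ Irreducible f ∧ f.natDegree ∣ k ∧ f.natDegree ≤ k})
    (fun _ hf => hf.2.2.2)).toFinset

theorem mem_Irr {k : ℕ} {f : F[X]} :
    f ∈ Irr F k ↔ f.Monic ∧ Irreducible f ∧ f.natDegree ∣ k ∧ f.natDegree ≤ k := by
  simp [Irr]

omit [Finite F] in
theorem pow_dvd_iff_count [DecidableEq F] {P f : F[X]} (hP : P.Monic) (hi : Irreducible P)
    (hf : f ≠ 0) (j : ℕ) : P ^ j ∣ f ↔ j ≤ (normalizedFactors f).count P := by
  rw [pow_dvd_iff_le_emultiplicity, emultiplicity_eq_count_normalizedFactors hi hf,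
    hP.normalize_eq_self]
  exact_mod_cast Iff.rfl

open Classical in
theorem deg_eq {n : ℕ} {f : F[X]} (hf : f ∈ Mon F n) :
    n = ∑ k ∈ Icc 1 n, ∑ P ∈ Irr F k, if P ^ (k / P.natDegree) ∣ f then P.natDegree else 0 := by
  obtain ⟨hm, hn⟩ := mem_Mon.1 hf
  have h0 : f ≠ 0 := hm.ne_zero
  have hmem : ∀ P, P ∈ (normalizedFactors f).toFinset ↔ Irreducible P ∧ P.Monic ∧ P ∣ f :=
    fun P => by rw [Multiset.mem_toFinset, Polynomial.mem_normalizedFactors_iff h0]
  have h1 : n = ∑ P ∈ (normalizedFactors f).toFinset,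
      (normalizedFactors f).count P * P.natDegree := by
    have e := leadingCoeff_mul_prod_normalizedFactors f
    rw [hm.leadingCoeff, map_one, one_mul] at e
    have e2 := natDegree_multiset_prod_of_monic (normalizedFactors f) fun P hP =>
      ((hmem P).1 (Multiset.mem_toFinset.2 hP)).2.1
    rw [e, hn, Finset.sum_multiset_map_count] at e2
    simpa using e2
  have h2 : ∀ k ∈ Icc 1 n, (∑ P ∈ Irr F k, if P ^ (k / P.natDegree) ∣ f then P.natDegree else 0)
      = ∑ P ∈ (normalizedFactors f).toFinset,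
        if P.natDegree ∣ k ∧ P ^ (k / P.natDegree) ∣ f then P.natDegree else 0 := by
    intro k hk
    have hk1 := (mem_Icc.1 hk).1
    rw [← Finset.sum_filter, ← Finset.sum_filter]
    refine Finset.sum_congr ?_ fun _ _ => rfl
    ext P
    simp only [mem_filter, mem_Irr, hmem]
    constructor
    · rintro ⟨⟨a, b, c, d⟩, e⟩
      refine ⟨⟨b, a, (dvd_pow_self P ?_).trans e⟩, c, e⟩
      exact (Nat.div_pos d b.natDegree_pos).ne'
    · rintro ⟨⟨a, b, _⟩, c, e⟩
      exact ⟨⟨b, a, c, Nat.le_of_dvd hk1 c⟩, e⟩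
  rw [Finset.sum_congr rfl h2, Finset.sum_comm]
  refine h1.trans (Finset.sum_congr rfl fun P hP => ?_)
  obtain ⟨hi, hPm, -⟩ := (hmem P).1 hP
  have hd := hi.natDegree_pos
  rw [← Finset.sum_filter, Finset.sum_const, smul_eq_mul]
  congr 1
  have hc : (normalizedFactors f).count P * P.natDegree ≤ n := by
    have := natDegree_le_of_dvd ((pow_dvd_iff_count hPm hi h0 _).2 le_rfl) h0
    rwa [hPm.natDegree_pow, hn] at this
  have : (filter (fun k => P.natDegree ∣ k ∧ P ^ (k / P.natDegree) ∣ f) (Icc 1 n)) =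
      (Icc 1 ((normalizedFactors f).count P)).image (· * P.natDegree) := by
    ext k
    simp only [mem_filter, mem_Icc, mem_image, pow_dvd_iff_count hPm hi h0]
    constructor
    · rintro ⟨⟨a, _⟩, ⟨j, rfl⟩, e⟩
      rw [Nat.mul_div_cancel_left _ hd] at e
      exact ⟨j, ⟨Nat.pos_of_ne_zero (by rintro rfl; simp at a), e⟩, mul_comm _ _⟩
    · rintro ⟨j, ⟨a, b⟩, rfl⟩
      refine ⟨⟨Nat.mul_pos a hd, (Nat.mul_le_mul_right _ b).trans hc⟩, dvd_mul_left _ _, ?_⟩
      rwa [Nat.mul_div_cancel _ hd]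
  rw [this, card_image_of_injective _ (fun a b h => Nat.eq_of_mul_eq_mul_right hd h)]
  simp

open Classical in
theorem sum_dvd {R : Type*} [CommSemiring R] (L : F[X] → R)
    (hL : ∀ f g : F[X], f.Monic → g.Monic → L (f * g) = L f * L g)
    {Q : F[X]} (hQ : Q.Monic) {n : ℕ} (hn : Q.natDegree ≤ n) :
    (∑ f ∈ Mon F n, if Q ∣ f then L f else 0) = L Q * ∑ g ∈ Mon F (n - Q.natDegree), L g := by
  rw [← Finset.sum_filter, Finset.mul_sum]
  symm
  refine Finset.sum_bij (fun g _ => Q * g) ?_ ?_ ?_ ?_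
  · intro g hg
    obtain ⟨a, b⟩ := mem_Mon.1 hg
    refine mem_filter.2 ⟨mem_Mon.2 ⟨hQ.mul a, ?_⟩, dvd_mul_right _ _⟩
    rw [hQ.natDegree_mul a, b]; omega
  · intro a _ b _ h
    exact mul_left_cancel₀ hQ.ne_zero h
  · intro f hf
    obtain ⟨hf, g, rfl⟩ := mem_filter.1 hf
    obtain ⟨a, b⟩ := mem_Mon.1 hf
    have hg : g.Monic := hQ.of_mul_monic_left a
    refine ⟨g, mem_Mon.2 ⟨hg, ?_⟩, rfl⟩
    rw [hQ.natDegree_mul hg] at b; omega
  · intro g hg
    exact (hL _ _ hQ (mem_Mon.1 hg).1).symm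

theorem map_pow' {R : Type*} [CommSemiring R] (L : F[X] → R) (h1 : L 1 = 1)
    (hL : ∀ f g : F[X], f.Monic → g.Monic → L (f * g) = L f * L g)
    {P : F[X]} (hP : P.Monic) (j : ℕ) : L (P ^ j) = L P ^ j := by
  induction j with
  | zero => simpa using h1
  | succ j ih => rw [pow_succ, hL _ _ (hP.pow j) hP, ih, pow_succ]

/-- Newton recursion of the L-series over monic polynomials -/
theorem newton {R : Type*} [CommSemiring R] (L : F[X] → R) (h1 : L 1 = 1)
    (hL : ∀ f g : F[X], f.Monic → g.Monic → L (f * g) = L f * L g) (n : ℕ) :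
    (n : R) * ∑ f ∈ Mon F n, L f = ∑ k ∈ Icc 1 n,
      (∑ P ∈ Irr F k, (P.natDegree : R) * L P ^ (k / P.natDegree)) * ∑ g ∈ Mon F (n - k), L g := by
  classical
  have e : (n : R) * ∑ f ∈ Mon F n, L f = ∑ f ∈ Mon F n, ∑ k ∈ Icc 1 n, ∑ P ∈ Irr F k,
      (P.natDegree : R) * if P ^ (k / P.natDegree) ∣ f then L f else 0 := by
    rw [Finset.mul_sum]
    refine Finset.sum_congr rfl fun f hf => ?_
    conv_lhs => rw [deg_eq hf]
    push_cast
    rw [Finset.sum_mul]
    refine Finset.sum_congr rfl fun k _ => ?_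
    rw [Finset.sum_mul]
    refine Finset.sum_congr rfl fun P _ => ?_
    split_ifs <;> simp
  rw [e, Finset.sum_comm]
  refine Finset.sum_congr rfl fun k hk => ?_
  rw [Finset.sum_comm, Finset.sum_mul]
  refine Finset.sum_congr rfl fun P hP => ?_
  obtain ⟨a, -, c, -⟩ := mem_Irr.1 hP
  have hd : (P ^ (k / P.natDegree)).natDegree = k := by
    rw [a.natDegree_pow, Nat.div_mul_cancel c]
  rw [← Finset.mul_sum, sum_dvd L hL (a.pow _) (hd.le.trans (mem_Icc.1 hk).2), hd,
    map_pow' L h1 hL a, mul_assoc]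

end H93.LSer
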