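import Cfsg.Agent.H23.NDSpec

/-! Tower ND (S4780), slot Ac3. -/

set_option autoImplicit false

open Subgroup MulAction H23.ND

namespace H93.NDA

universe u

theorem jobAc3 (h2 : JobAc2.{u}) : JobAc3.{u} := by
  intro Γ Λ _ _ _ _ _ _ B _ h D A
  have s1 : ∀ l : Λ, l ≠ 1 → stabilizer Γ l ⊓ B ≤ center Γ := fun l hl b hb => by
    by_contra hc
    exact hl (D.fp b hb.2 hc l hb.1)
  have s2 : ∀ l : Λ, l ≠ 1 → ¬ stabilizer Γ l ≤ B := fun l hl e => D.nf l hl (index_dvd_of_le e)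
  have hne : ∀ (g : Γ) (l : Λ), l ≠ 1 → g • l ≠ 1 := fun g l hl e => hl (by
    rw [← inv_smul_smul g l, e, smul_one])
  have hst : ∀ (b g : Γ) (l : Λ), g ∈ stabilizer Γ (b • l) → b⁻¹ * g * b ∈ stabilizer Γ l :=
    fun b g l e => by
      rw [mem_stabilizer_iff] at e ⊢
      rw [mul_smul, mul_smul, e, inv_smul_smul]
  have s3 : ∀ l : Λ, l ≠ 1 → ∃ b : Γ, stabilizer Γ (b • l) ≤ center Γ ⊔ zpowers h := fun l hl => by
    obtain ⟨b, -, hb⟩ := A.cj _ (s1 l hl)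
    refine ⟨b, fun g hg => ?_⟩
    simpa [mul_assoc] using hb _ (hst b g l hg)
  let Iv : Subgroup Λ → Prop := fun U => U ≠ ⊥ ∧ ∀ g : Γ, ∀ l ∈ U, g • l ∈ U
  have s4 : ∀ U V, Iv U → Iv V → U ⊓ V ≠ ⊥ := by
    intro U V hU hV e
    obtain ⟨⟨l1, hl1⟩, n1⟩ := (ne_bot_iff_exists_ne_one.mp hU.1)
    obtain ⟨⟨l2, hl2⟩, n2⟩ := (ne_bot_iff_exists_ne_one.mp hV.1)
    have n1' : l1 ≠ 1 := fun e => n1 (Subtype.ext e)
    have n2' : l2 ≠ 1 := fun e => n2 (Subtype.ext e)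
    obtain ⟨b1, k1⟩ := s3 l1 n1'
    obtain ⟨b2, k2⟩ := s3 l2 n2'
    obtain ⟨b, hb, hbz⟩ := SetLike.not_le_iff_exists.mp D.ne
    have m1 := hU.2 b1 l1 hl1
    have m2 := hV.2 b _ (hV.2 b2 l2 hl2)
    have hdis : ∀ x ∈ U, x ∈ V → x = 1 := fun x a c => by
      have : x ∈ U ⊓ V := ⟨a, c⟩
      rwa [e, mem_bot] at this
    refine s2 (b1 • l1 * b • b2 • l2) (fun e1 => hne b1 l1 n1' (hdis _ m1 ?_)) fun g hg => A.zb ?_
    · rw [eq_inv_of_mul_eq_one_left e1]; exact inv_mem m2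
    · rw [mem_stabilizer_iff, smul_mul'] at hg
      have e3 : (b1 • l1)⁻¹ * g • b1 • l1 = b • b2 • l2 * (g • b • b2 • l2)⁻¹ := by
        rw [inv_mul_eq_iff_eq_mul, ← mul_assoc, ← hg, mul_inv_cancel_right]
      have e4 := hdis _ (mul_mem (inv_mem m1) (hU.2 g _ m1))
        (e3 ▸ mul_mem m2 (inv_mem (hV.2 g _ m2)))
      have e5 : g • b1 • l1 = b1 • l1 := (inv_mul_eq_one.mp e4).symm
      have e6 : g • b • b2 • l2 = b • b2 • l2 := (mul_inv_eq_one.mp (e3 ▸ e4)).symm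
      refine A.ti b⁻¹ (inv_mem hb) (fun c => hbz (by simpa using inv_mem c)) g (k1 e5) ?_
      rw [inv_inv]
      exact k2 (hst b g _ e6)
  obtain ⟨U, hU, hmin⟩ := wellFounded_lt.has_min {U | Iv U} ⟨⊤, top_ne_bot, fun _ _ _ => mem_top _⟩
  have s5 : ∀ V, Iv V → U ≤ V := fun V hV => by
    by_contra hc
    exact hmin (U ⊓ V) ⟨s4 U V hU hV, fun g l hl => ⟨hU.2 g l hl.1, hV.2 g l hl.2⟩⟩
      (lt_of_le_of_ne inf_le_left fun e => hc (inf_eq_left.mp e))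
  let Z : Subgroup Γ := center Γ ⊓ fixingSubgroup Γ (U : Set Λ)
  have hZ : ∀ z ∈ Z, ∀ l ∈ U, z • l = l := fun z hz l hl =>
    (mem_fixingSubgroup_iff Γ).mp hz.2 l hl
  have s6 : ∀ l : Λ, l ≠ 1 → stabilizer Γ l ⊓ B ≤ Z := by
    intro l hl z hz
    have hc := s1 l hl hz
    let V : Subgroup Λ :=
      { carrier := {m | z • m = m}
        mul_mem' := fun {a b} ha hb => by
          simp only [Set.mem_ofPred_eq] at *
          rw [smul_mul', ha, hb]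
        one_mem' := smul_one z
        inv_mem' := fun {a} ha => by
          simp only [Set.mem_ofPred_eq] at *
          rw [smul_inv', ha] }
    have hV : Iv V := ⟨fun e => hl (by
        have : l ∈ V := hz.1
        rwa [e, mem_bot] at this), fun g m hm => by
      have hm' : z • m = m := hm
      change z • g • m = g • m
      rw [← mul_smul, ← mem_center_iff.mp hc g, mul_smul, hm']⟩
    exact ⟨hc, (mem_fixingSubgroup_iff Γ).mpr fun m hm => s5 V hV hm⟩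
  have sK : ∀ I : Subgroup Γ, I ⊓ B ≤ Z → ∃ μ ∈ U, μ ≠ 1 ∧ I ≤ stabilizer Γ μ := by
    intro I hI
    obtain ⟨g, hg, e⟩ := A.cy I
    obtain ⟨μ, hμ, n, f⟩ := h2 Γ Λ B h D U hU.1 hU.2 g fun k hk => hZ _ (hI ⟨pow_mem hg k, hk⟩)
    exact ⟨μ, hμ, n, e.le.trans (sup_le (fun z hz => hZ z (hI hz) μ hμ) (zpowers_le.mpr f))⟩
  have s7 : ∀ l : Λ, l ≠ 1 → stabilizer Γ l ⊓ B = Z := by
    intro l hl
    refine le_antisymm (s6 l hl) (le_inf ?_ (inf_le_left.trans A.zb))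
    obtain ⟨μ, hμ, n, f⟩ := sK _ (s6 l hl)
    have e1 := D.nd μ l n hl (index_dvd_of_le f)
    have e2 := relIndex_mul_index f
    rw [← e1] at e2
    have e3 : (stabilizer Γ l).relIndex (stabilizer Γ μ) = 1 :=
      Nat.eq_of_mul_eq_mul_right (Nat.pos_of_ne_zero index_ne_zero_of_finite) (e2.trans (one_mul _).symm)
    exact fun z hz => relIndex_eq_one.mp e3 (hZ z hz μ hμ)
  have hix : ∀ l : Λ, l ≠ 1 → Nat.card ((stabilizer Γ l).map (QuotientGroup.mk' B)) *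
      (stabilizer Γ l).index = Z.index := fun l hl => by
    rw [← relIndex_ker, QuotientGroup.ker_mk', ← inf_relIndex_left, relIndex_mul_index inf_le_left,
      s7 l hl]
  have hdv : ∀ l μ : Λ, l ≠ 1 → μ ≠ 1 → Nat.card ((stabilizer Γ l).map (QuotientGroup.mk' B)) ∣
      Nat.card ((stabilizer Γ μ).map (QuotientGroup.mk' B)) →
      (stabilizer Γ μ).index = (stabilizer Γ l).index := by
    rintro l μ hl hμ ⟨c, hc⟩
    refine D.nd μ l hμ hl ⟨c, Nat.eq_of_mul_eq_mul_left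
      (Nat.card_pos (α := (stabilizer Γ l).map (QuotientGroup.mk' B))) ?_⟩
    rw [hix l hl, ← hix μ hμ, hc]
    ring
  have hgen : ∀ l : Λ, ∃ g ∈ stabilizer Γ l, Nat.card ((stabilizer Γ l).map (QuotientGroup.mk' B)) =
      orderOf (QuotientGroup.mk' B g) := fun l => by
    obtain ⟨g, hg, e⟩ := A.cy (stabilizer Γ l)
    refine ⟨g, hg, ?_⟩
    have e0 : (stabilizer Γ l ⊓ B).map (QuotientGroup.mk' B) = ⊥ :=
      (Subgroup.map_eq_bot_iff _).mpr (by rw [QuotientGroup.ker_mk']; exact inf_le_right)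
    rw [e, Subgroup.map_sup, e0, bot_sup_eq, MonoidHom.map_zpowers, Nat.card_zpowers]
  have s8' : ∀ l m : Λ, l ≠ 1 → m ≠ 1 → stabilizer Γ l ≤ center Γ ⊔ zpowers h →
      stabilizer Γ m ≤ center Γ ⊔ zpowers h → (stabilizer Γ l).index = (stabilizer Γ m).index := by
    intro l m hl hm kl km
    obtain ⟨g1, a1, e1⟩ := hgen l
    obtain ⟨g2, a2, e2⟩ := hgen m
    have hc : Commute g1 g2 := A.sc g1 (kl a1) g2 (km a2)
    obtain ⟨a, b, hab⟩ : ∃ a b : ℕ, orderOf (QuotientGroup.mk' B (g1 ^ a * g2 ^ b)) =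
        Nat.lcm (orderOf (QuotientGroup.mk' B g1)) (orderOf (QuotientGroup.mk' B g2)) :=
      ⟨_, _, by
        rw [map_mul, map_pow, map_pow]
        exact (hc.map (QuotientGroup.mk' B)).orderOf_mul_pow_eq_lcm (orderOf_pos _).ne'
          (orderOf_pos _).ne'⟩
    have hB : ∀ (g : Γ) (k : ℕ), g ^ k ∈ B ↔ orderOf (QuotientGroup.mk' B g) ∣ k := fun g k => by
      rw [orderOf_dvd_iff_pow_eq_one, ← map_pow, ← MonoidHom.mem_ker, QuotientGroup.ker_mk']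
    obtain ⟨μ, -, n, f⟩ := h2 Γ Λ B h D U hU.1 hU.2 (g1 ^ a * g2 ^ b) fun k hk => hZ _ (by
      rw [hB, hab] at hk
      rw [(hc.pow_pow a b).mul_pow, ← pow_mul, ← pow_mul]
      exact mul_mem
        (s6 l hl ⟨pow_mem a1 _, (hB _ _).mpr (((Nat.dvd_lcm_left _ _).trans hk).mul_left a)⟩)
        (s6 m hm ⟨pow_mem a2 _, (hB _ _).mpr (((Nat.dvd_lcm_right _ _).trans hk).mul_left b)⟩))
    have hL := hab ▸ Subgroup.orderOf_dvd_natCard _
      (mem_map_of_mem (QuotientGroup.mk' B) (show _ ∈ stabilizer Γ μ from f))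
    rw [← hdv l μ hl n (e1 ▸ (Nat.dvd_lcm_left _ _).trans hL),
      ← hdv m μ hm n (e2 ▸ (Nat.dvd_lcm_right _ _).trans hL)]
  have hcj : ∀ (b : Γ) (l : Λ), (stabilizer Γ (b • l)).index = (stabilizer Γ l).index := fun b l => by
    rw [index_stabilizer, index_stabilizer, orbit_eq_iff.mpr (mem_orbit l b)]
  have s8 : ∀ l m : Λ, l ≠ 1 → m ≠ 1 → (stabilizer Γ l).index = (stabilizer Γ m).index := by
    intro l m hl hm
    obtain ⟨b, kb⟩ := s3 l hl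
    obtain ⟨c, kc⟩ := s3 m hm
    rw [← hcj b l, ← hcj c m]
    exact s8' _ _ (hne b l hl) (hne c m hm) kb kc
  obtain ⟨l0, hl0⟩ := exists_ne (1 : Λ)
  refine ⟨Z, (stabilizer Γ l0).index, fun l hl => s8 l l0 hl hl0, s7, fun I hI => ?_⟩
  obtain ⟨μ, -, n, f⟩ := sK I hI
  rw [s8 l0 μ hl0 n]
  exact index_dvd_of_le f

end H93.NDA
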