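import Cfsg.Agent.H23.NDSpec
import Cfsg.Agent.H30.Counting

/-! Tower ND (S4780), slot Br: Brauer's permutation lemma for a cyclic quotient. -/

set_option autoImplicit false

open Cfsg Subgroup H23.ND

namespace H93.NDA

universe u

theorem count {G X Y : Type u} [Group G] [Finite G] [Finite X] [Finite Y] (N : Subgroup G)
    (hc : ∀ S, N ≤ S → ∃ g, S = N ⊔ zpowers g) (a : X → Subgroup G) (b : Y → Subgroup G)
    (ha : ∀ x, N ≤ a x) (hb : ∀ y, N ≤ b y)
    (h : ∀ g, Nat.card {x // g ∈ a x} = Nat.card {y // g ∈ b y}) (T : Subgroup G) :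
    Nat.card {x // a x ≤ T} = Nat.card {y // b y ≤ T} := by
  classical
  have := Fintype.ofFinite X
  have := Fintype.ofFinite Y
  have := Fintype.ofFinite (Subgroup G)
  have fib : ∀ {Z : Type u} [Fintype Z] (c : Z → Subgroup G) (P : Subgroup G → Prop),
      Nat.card {z // P (c z)} =
        ∑ S ∈ Finset.univ.filter P, (Finset.univ.filter fun z => c z = S).card := by
    intro Z _ c P
    rw [Nat.card_eq_fintype_card, Fintype.card_subtype,
      Finset.card_eq_sum_card_fiberwise (f := c) (t := Finset.univ.filter P) (fun z hz => by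
        simpa using hz)]
    refine Finset.sum_congr rfl fun S hS => congrArg _ ?_
    ext z
    simp only [Finset.mem_filter, Finset.mem_univ, true_and] at hS ⊢
    exact ⟨fun k => k.2, fun k => ⟨k ▸ hS, k⟩⟩
  have key : ∀ S : Subgroup G, (Finset.univ.filter fun x => a x = S).card =
      (Finset.univ.filter fun y => b y = S).card := by
    intro S
    induction S using WellFoundedGT.induction with
    | ind S ih =>
      by_cases hS : N ≤ S
      · obtain ⟨g, hg⟩ := hc S hS
        have e1 : Nat.card {x // S ≤ a x} = Nat.card {y // S ≤ b y} := by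
          have k1 : ∀ x, S ≤ a x ↔ g ∈ a x := fun x => by
            rw [hg, sup_le_iff, zpowers_le, and_iff_right (ha x)]
          have k2 : ∀ y, S ≤ b y ↔ g ∈ b y := fun y => by
            rw [hg, sup_le_iff, zpowers_le, and_iff_right (hb y)]
          simp only [k1, k2, h g]
        have hm : S ∈ Finset.univ.filter fun R => S ≤ R := by simp
        rw [fib a (fun R => S ≤ R), fib b (fun R => S ≤ R), ← Finset.add_sum_erase _ _ hm,
          ← Finset.add_sum_erase _ _ hm, Finset.sum_congr rfl fun R hR => ih R (by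
            simp only [Finset.mem_erase, Finset.mem_filter, Finset.mem_univ, true_and] at hR
            exact lt_of_le_of_ne hR.2 hR.1.symm)] at e1
        exact Nat.add_right_cancel e1
      · rw [Finset.filter_false_of_mem (p := fun x => a x = S) fun x _ e => hS ((ha x).trans e.le),
          Finset.filter_false_of_mem (p := fun y => b y = S) fun y _ e => hS ((hb y).trans e.le)]
        rfl
  rw [fib a (fun R => R ≤ T), fib b (fun R => R ≤ T)]
  exact Finset.sum_congr rfl fun S _ => key S

/-- the stabiliser of a class of `N` -/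
def stC {G : Type*} [Group G] (N : Subgroup G) [N.Normal] (c : ConjClasses N) : Subgroup G where
  carrier := {g | ConjClasses.map (MulAut.conjNormal g : MulAut N).toMonoidHom c = c}
  one_mem' := by
    obtain ⟨x, rfl⟩ := ConjClasses.mk_surjective c
    change ConjClasses.mk (MulAut.conjNormal 1 x) = _
    simp
  mul_mem' := fun {g h} hg hh => by
    obtain ⟨x, rfl⟩ := ConjClasses.mk_surjective c
    have := congrArg (ConjClasses.map (MulAut.conjNormal g : MulAut N).toMonoidHom) hh
    rw [hg] at this
    change ConjClasses.mk (MulAut.conjNormal (g * h) x) = _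
    rw [map_mul]
    exact this
  inv_mem' := fun {g} hg => by
    obtain ⟨x, rfl⟩ := ConjClasses.mk_surjective c
    have := congrArg (ConjClasses.map (MulAut.conjNormal g⁻¹ : MulAut N).toMonoidHom) hg
    refine this.symm.trans ?_
    change ConjClasses.mk (MulAut.conjNormal g⁻¹ (MulAut.conjNormal g x)) = _
    simp

theorem mem_stC {G : Type*} [Group G] {N : Subgroup G} [N.Normal] {x : N} {g : G} :
    g ∈ stC N (ConjClasses.mk x) ↔ IsConj x (MulAut.conjNormal g x) :=
  ConjClasses.mk_eq_mk_iff_isConj.trans isConj_comm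

theorem mem_stC' {G : Type*} [Group G] {N : Subgroup G} [N.Normal] {x : N} {g : G} :
    g ∈ stC N (ConjClasses.mk x) ↔ ∃ a ∈ N, g * x * g⁻¹ = a * x * a⁻¹ := by
  rw [mem_stC, isConj_iff]
  exact ⟨fun ⟨a, e⟩ => ⟨a, a.2, (congrArg Subtype.val e).symm⟩,
    fun ⟨a, ha, e⟩ => ⟨⟨a, ha⟩, Subtype.ext e.symm⟩⟩

theorem jobBr : JobBr.{u} := by
  intro G _ _ N T _ h hgen _
  have : Finite (IrrCharacter N) := H28.instFiniteIrr
  rw [count N (fun S hS => ?_) (fun θ : IrrCharacter N => H32.inertia θ.1) (stC N)
    (fun θ => H32.le_inertia (H28.Cfsg.IsIrrCharacter.isClassFunction θ.2)) (fun c g hg => ?_) (fun g => ?_) T]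
  · refine Nat.card_congr (Equiv.subtypeEquivRight fun c => ⟨fun k x e g hg => k ?_, fun k g hg => ?_⟩)
    · rw [← e]; exact mem_stC'.mpr hg
    · obtain ⟨x, rfl⟩ := ConjClasses.mk_surjective c
      exact k x rfl g (mem_stC'.mp hg)
  · obtain ⟨n, hn⟩ := (le_zpowers_iff h (S ⊓ zpowers h)).mp inf_le_right
    refine ⟨h ^ n, le_antisymm (fun s hs => ?_) (sup_le hS (hn ▸ inf_le_left))⟩
    obtain ⟨x, hx, d, hd, rfl⟩ := dec_gen hgen s
    exact mul_mem_sup hx (hn ▸ ⟨(S.mul_mem_cancel_left (hS hx)).mp hs, hd⟩)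
  · obtain ⟨x, rfl⟩ := ConjClasses.mk_surjective c
    exact mem_stC'.mpr ⟨g, hg, rfl⟩
  · refine (H30.card_fixed_irr_eq (G := N) (fun n => MulAut.conjNormal g n)
      fun χ hχ => H32.isIrrCharacter_cj hχ g).trans
      (Nat.card_congr (Equiv.subtypeEquivRight fun c => ⟨fun k => ?_, fun k x e => ?_⟩))
    · obtain ⟨x, rfl⟩ := ConjClasses.mk_surjective c
      exact mem_stC.mpr (k x rfl)
    · rw [← e] at k
      exact mem_stC.mp k

end H93.NDA
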