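import Cfsg.Agent.H92.P4LocA

/-! Job Sg2 of the blueprint `LOCAL3C.md`: the swapping involution. -/

set_option autoImplicit false
set_option linter.unusedSectionVars false
open Cfsg H56.L3 H47.P4C Subgroup H34.P4 H92.P4L H59.P4
open scoped commutatorElement

namespace H93.Sg2

universe u v

variable {G : Type u} [Group G] {F : Type v} [Field F] {h : F → F → F → G} {ι : SL2 F →* G}
  [Finite G] [Fintype F] {p : ℕ} [hp : Fact p.Prime] {κ : Cen h ι}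

theorem nsq (h4 : Fintype.card F % 4 = 3) : ¬ IsSquare (-1 : F) := fun e =>
  FiniteField.isSquare_neg_one_iff.1 e h4

theorem two_ne (h4 : Fintype.card F % 4 = 3) : (2 : F) ≠ 0 := fun e => by
  have := FiniteField.even_card_of_char_two (F := F) (ringChar.eq_iff.2
    (CharTwo.of_one_ne_zero_of_two_eq_zero one_ne_zero e))
  omega

theorem sq_neg (h4 : Fintype.card F % 4 = 3) {s : F} (h : ¬ IsSquare s) : IsSquare (-s) := by
  classical
  have h1 := quadraticChar_neg_one_iff_not_isSquare.2 h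
  have h2 := quadraticChar_neg_one_iff_not_isSquare.2 (nsq h4)
  refine (quadraticChar_one_iff_isSquare fun e => h ?_).1 ?_
  · rw [neg_eq_zero.1 e]; exact IsSquare.zero
  · rw [← neg_one_mul, map_mul, h1, h2]; norm_num

theorem pm_unit {l : Fˣ} (e : (l : F) ^ 2 = 1) : l = 1 ∨ l = -1 :=
  (sq_eq_one_iff.1 e).imp (fun e => Units.ext e) fun e => Units.ext e

theorem d_neg (l : Fˣ) : dM (-l) = -dM l := by
  refine ext2 ?_ ?_ ?_ ?_ <;> rw [neg_ap] <;> simp [dM]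

theorem d_pm {l : Fˣ} (e : l = 1 ∨ l = -1) : ι (dM l) = 1 ∨ ι (dM l) = ι (-1) :=
  e.imp (fun e => by rw [e, dM_one, map_one]) fun e => by rw [e, d_neg, dM_one]

/-- the hypotheses of the job -/
structure Hy (κ : Cen h ι) (p : ℕ) : Prop where
  l : Loc κ p
  h4 : Fintype.card F % 4 = 3
  hc : TwoCl h
  i2 : (Nr κ.Z).relIndex (Ce (ι (-1)) ⊓ Nr κ.M) = 2

namespace Hy

variable (y : Hy κ p) {n : G}
include y

theorem mul {a b : G} (ha : a ∈ Ce (ι (-1)) ⊓ Nr κ.M) (hb : b ∈ Ce (ι (-1)) ⊓ Nr κ.M) :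
    a * b ∈ Nr κ.Z ↔ (a ∈ Nr κ.Z ↔ b ∈ Nr κ.Z) :=
  mul_mem_iff_of_index_two y.i2 (a := ⟨a, ha⟩) (b := ⟨b, hb⟩)

theorem CZ : κ.C ≤ Nr κ.Z := (C_eq κ one_ne_zero).trans_le (ce_le y.l one_ne_zero)

theorem dT (l : Fˣ) : ι (dM l) ∈ Ce (ι (-1)) ⊓ Nr κ.M := ⟨(dN κ l).1.2, (dN κ l).1.1⟩

theorem cjT (hn : n ∈ Ce (ι (-1)) ⊓ Nr κ.M) {a : G} (ha : a ∈ Ce (ι (-1)) ⊓ Nr κ.M)
    (h1 : a ∈ Nr κ.Z) : n * a * n⁻¹ ∈ Nr κ.Z := by
  rw [y.mul (mul_mem hn ha) (inv_mem hn), y.mul hn ha, inv_mem_iff]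
  exact ⟨fun e => e.2 h1, fun e => iff_of_true e h1⟩

theorem hz (hn : n ∈ Ce (ι (-1)) ⊓ Nr κ.M) (l : Fˣ) : n * ι (dM l) * n⁻¹ ∈ Nr κ.Z :=
  y.cjT hn (y.dT l) (y.CZ (iC κ _))

theorem cj_t (hn : n ∈ Ce (ι (-1)) ⊓ Nr κ.M) {a : G} (e : a = 1 ∨ a = ι (-1)) : n * a * n⁻¹ = a := by
  rcases e with rfl | rfl
  · group
  · exact mul_inv_eq_iff_eq_mul.2 (mem_centralizer_singleton_iff.1 hn.1)

theorem tC {a : G} (e : a = 1 ∨ a = ι (-1)) : a ∈ κ.C := by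
  rcases e with rfl | rfl
  exacts [one_mem _, iC κ _]

variable (hn : n ∈ Ce (ι (-1)) ⊓ Nr κ.M) (hZ : n ∉ Nr κ.Z)
include hn hZ

theorem om : Om κ n := by
  refine ⟨hn.2, hn.1, hZ, zD y.l hn, fun k hk => or_iff_not_imp_left.2 fun hkZ => ?_⟩
  obtain ⟨b, m, hm, hmZ, e⟩ := dec y.l (two_ne y.h4) y.hc hk hkZ
  have := (y.mul (inv_mem hn) hm).2 (iff_of_false (fun h => hZ (inv_mem_iff.1 h)) hmZ)
  exact ⟨b, by simpa [mul_assoc] using mul_mem this e⟩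

theorem ker (l : Fˣ) (e : n * ι (dM l) * n⁻¹ ∈ κ.C) : l = 1 ∨ l = -1 := by
  obtain ⟨c, s, hs, e1⟩ := coordD y.l (inv_mem hn) (fun h => hZ (inv_mem_iff.1 h)) one_ne_zero
  have e2 := dconj κ l 0 c s
  rw [← e1, show ι (dM l) * (n⁻¹ * h 0 0 1 * n⁻¹⁻¹) * (ι (dM l))⁻¹ = n⁻¹ * (n * ι (dM l) * n⁻¹ *
    h 0 0 1) * (n * ι (dM l) * n⁻¹)⁻¹ * n by group, zcomm κ e, mul_assoc n⁻¹, mul_inv_cancel_right,
    ← inv_inv n, inv_inv n⁻¹, e1] at e2
  exact pm_unit (mul_right_cancel₀ hs ((uM_inj (ext κ e2).2.2.2).symm.trans (one_mul s).symm))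

theorem NZ {g : G} (hg : g ∈ Nr κ.Z) : ∃ c ∈ κ.C, ∃ l, g = c * (n * ι (dM l) * n⁻¹) := by
  classical
  by_contra! hne
  let k : Fˣ → G := fun l => n * ι (dM l) * n⁻¹ * if IsSquare (l : F) then 1 else g⁻¹
  have kZ : ∀ l, k l ∈ Nr κ.Z := fun l => mul_mem (y.hz hn l) (by
    split_ifs
    exacts [one_mem _, inv_mem hg])
  have : ∀ l, ∃ x : Fˣ, k l * h 0 0 1 * (k l)⁻¹ = h 0 0 x := fun l => by
    obtain ⟨x, hx⟩ := (kZ l _).1 (⟨1, rfl⟩ : h 0 0 1 ∈ κ.Z)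
    refine ⟨Units.mk0 x fun e => ?_, hx⟩
    rw [e, κ.one, conj_eq_one_iff, ← κ.one] at hx
    exact one_ne_zero (ext0 κ hx).2.2
  choose f hf using this
  have key : ∀ l l', f l = f l' → (k l)⁻¹ * k l' ∈ κ.C := fun l l' e => by
    rw [C_eq κ one_ne_zero, mem_centralizer_singleton_iff]
    calc _ = (k l)⁻¹ * (k l' * h 0 0 1 * (k l')⁻¹) * k l' := by group
      _ = _ := by rw [hf, ← e, ← hf]; group
  have mix : ∀ l l' : Fˣ, f l = f l' → ¬ IsSquare (l : F) → ¬ IsSquare (l' : F) := fun l l' e a b => by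
    have := key l l' e
    simp only [k, if_pos b, if_neg a] at this
    refine hne _ this (l'⁻¹ * l) ?_
    rw [← dM_mul, ← dM_inv, map_mul, map_inv]; group
  have inj : Function.Injective f := fun l l' e => by
    have i : IsSquare (l : F) ↔ IsSquare (l' : F) := not_iff_not.1 ⟨mix l l' e, mix l' l e.symm⟩
    have := key l l' e
    simp only [k, ← i] at this
    have c : n * ι (dM (l⁻¹ * l')) * n⁻¹ ∈ κ.C := by
      rw [← dM_mul, ← dM_inv, map_mul, map_inv]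
      split_ifs at this
      · simpa [mul_assoc] using this
      · simpa [mul_assoc] using (y.l.nC (inv_mem hg) _).1 this
    rcases y.ker hn hZ _ c with c | c
    · exact inv_mul_eq_one.1 c
    · rw [inv_mul_eq_iff_eq_mul, mul_neg, mul_one] at c
      rw [c, Units.val_neg] at i
      by_cases a : IsSquare (l : F)
      · exact (nsq y.h4 (by simpa using (i.1 a).div a)).elim
      · exact (a (i.2 (sq_neg y.h4 a))).elim
  obtain ⟨a, b, ha, hb, e⟩ := y.hc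
  have cj : ∀ a, a ≠ 0 → IsConj (h 0 0 1) (h 0 0 a) := fun a ha => by
    obtain ⟨l, e⟩ := Finite.injective_iff_surjective.1 inj (Units.mk0 a ha)
    exact isConj_iff.2 ⟨k l, by rw [hf, e]; rfl⟩
  exact e ((cj a ha).symm.trans (cj b hb))

theorem RZ {a : Fˣ} (ha : (a : F) ^ 2 ≠ 1) (s : F) : n * ι (uM s) * n⁻¹ ∈ κ.Z := by
  obtain ⟨x, -, e⟩ := fixR y.l (inv_mem hn) (fun h => hZ (inv_mem_iff.1 h)) ha
    (by simpa using y.hz hn a)
  have key : ∀ r : F, IsSquare r → n * ι (uM r) * n⁻¹ ∈ κ.Z := by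
    rintro _ ⟨r, rfl⟩
    by_cases r0 : r = 0
    · rw [r0, mul_zero, uM_zero, map_one, mul_one, mul_inv_cancel]; exact one_mem _
    have e1 := dconj κ (Units.mk0 r r0) 0 0 1
    rw [mul_zero, κ.one, one_mul, one_mul, mul_one, Units.val_mk0, sq] at e1
    have := (y.hz hn (Units.mk0 r r0) _).1 (⟨x, rfl⟩ : h 0 0 x ∈ κ.Z)
    rw [← e1, ← e]
    simpa [mul_assoc] using this
  by_cases hs : IsSquare s
  · exact key s hs
  · have := inv_mem (key _ (sq_neg y.h4 hs))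
    rwa [conj_inv, ← map_inv, uM_inv, neg_neg] at this

theorem ZR {a : Fˣ} (ha : (a : F) ^ 2 ≠ 1) (x : F) : n * h 0 0 x * n⁻¹ ∈ Uψ ι := by
  obtain ⟨c, s, e⟩ := zD y.l hn x
  obtain ⟨z, e1⟩ := y.RZ (inv_mem hn) (fun h => hZ (inv_mem_iff.1 h)) ha s
  refine ⟨s, ?_⟩
  by_contra hx
  refine hZ (y.l.ti n (x + -z) c (fun h0 => hx ?_) ?_)
  · rw [show x = z by linear_combination h0, ← e1]; group
  · rw [← zadd κ, ← neg_zero, ← κ.inv, neg_zero, ← e1, ← conj_mul, e]; group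

theorem cmU {l : Fˣ} (hl : (l : F) ^ 2 ≠ 1) (l' : Fˣ) : ∃ r, ∃ e, (e = 1 ∨ e = ι (-1)) ∧
    ⁅n * ι (dM l') * n⁻¹, ι (dM l)⁆ = ι (uM r) * e := by
  set b := n * ι (dM l') * n⁻¹ with hb
  have bN : b ∈ Ce (ι (-1)) ⊓ Nr κ.M := mul_mem (mul_mem hn (y.dT _)) (inv_mem hn)
  obtain ⟨c, A, e⟩ := y.l.ct (b * ι (dM l) * b⁻¹) ⟨(y.l.nC (y.hz hn l') _).1 (iC κ _),
    (mul_mem (mul_mem bN (y.dT l)) (inv_mem bN)).1⟩
  have pw : ∀ k : ℕ, (h 0 0 c * ι A) ^ k = h 0 0 (k * c) * ι (A ^ k) := fun k => by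
    induction k with
    | zero => simp [κ.one]
    | succ k ih => rw [pow_succ, ih, κ.mul', pow_succ]; simp [add_mul]
  have c0 : c = 0 := by
    have e1 := pw (Fintype.card F - 1)
    have : dM l ^ (Fintype.card F - 1) = 1 := by
      classical
      rw [← Fintype.card_units]
      exact (map_pow (MonoidHom.mk' dM fun a b => (dM_mul a b).symm) l _).symm.trans
        (by rw [pow_card_eq_one, map_one])
    rw [← e, conj_pow, ← map_pow, this, map_one, mul_one, mul_inv_cancel, Nat.cast_sub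
      Fintype.card_pos, FiniteField.cast_card_eq_zero] at e1
    simpa using (κ.inj _ _ _ _ e1.symm).2.2.1
  rw [c0, κ.one, one_mul] at e
  have cb : ∀ s, b * ι (uM s) * b⁻¹ = ι (uM s) := fun s => by
    obtain ⟨z, e1⟩ := y.RZ (inv_mem hn) (fun h => hZ (inv_mem_iff.1 h)) hl s
    calc _ = n * (ι (dM l') * (n⁻¹ * ι (uM s) * n⁻¹⁻¹)) * n⁻¹ * b⁻¹ := by rw [hb]; group
      _ = n * (n⁻¹ * ι (uM s) * n⁻¹⁻¹ * ι (dM l')) * n⁻¹ * b⁻¹ := by rw [e1, zcomm κ (iC κ _)]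
      _ = _ := by rw [hb]; group
  have e2 : ι (dM l) * ι (uM ((l⁻¹ : Fˣ) ^ 2)) * (ι (dM l))⁻¹ = ι (uM 1) := by
    have := dconj κ l 0 0 ((l⁻¹ : Fˣ) ^ 2)
    rwa [mul_zero, κ.one, one_mul, one_mul, ← mul_pow, Units.mul_inv, one_pow] at this
  obtain ⟨r, e3⟩ := cen_u (B := A * (dM l)⁻¹) one_ne_zero (mul_inv_eq_one.1 (ι_inj κ (by
    simp only [map_mul, map_inv, ← e]
    calc _ = b * ι (dM l) * b⁻¹ * ((ι (dM l))⁻¹ * ι (uM 1) * ι (dM l)) * b * (ι (dM l))⁻¹ * b⁻¹ *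
          (ι (uM 1))⁻¹ := by group
      _ = b * (ι (dM l) * (b⁻¹ * (b * ι (uM ((l⁻¹ : Fˣ) ^ 2)) * b⁻¹) * b) * (ι (dM l))⁻¹) * b⁻¹ *
          (ι (uM 1))⁻¹ := by rw [cb, ← e2]; group
      _ = 1 := by rw [show ∀ x : G, b⁻¹ * (b * x * b⁻¹) * b = x from fun x => by group, e2, cb]; group)))
  rw [commutatorElement_def, e, ← map_inv, ← map_mul]
  rcases e3 with e3 | e3
  · exact ⟨r, 1, .inl rfl, by rw [e3, mul_one]⟩
  · exact ⟨r, _, .inr rfl, by rw [e3, ← map_mul, mul_neg, mul_one]⟩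

theorem HH (l l' : Fˣ) : ι (dM l) * (n * ι (dM l') * n⁻¹) = n * ι (dM l') * n⁻¹ * ι (dM l) := by
  have bN : ∀ l, n * ι (dM l) * n⁻¹ ∈ Ce (ι (-1)) ⊓ Nr κ.M := fun l =>
    mul_mem (mul_mem hn (y.dT _)) (inv_mem hn)
  have key : ∀ l : Fˣ, n * ι (dM l') * n⁻¹ * (ι (dM l) * ι (dM l)) * (n * ι (dM l') * n⁻¹)⁻¹ =
      ι (dM l) * ι (dM l) := fun l => by
    by_cases hl : (l : F) ^ 2 = 1
    · rw [← conj_mul, y.cj_t (bN l') (d_pm (pm_unit hl))]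
    by_cases hl' : (l' : F) ^ 2 = 1
    · rw [y.cj_t hn (d_pm (pm_unit hl')), mul_inv_eq_iff_eq_mul, eq_comm, ← mul_inv_eq_iff_eq_mul]
      exact y.cj_t (mul_mem (y.dT l) (y.dT l)) (d_pm (pm_unit hl'))
    obtain ⟨r, e, he, h1⟩ := y.cmU hn hZ hl l'
    obtain ⟨r', e', he', h2⟩ := y.cmU (inv_mem hn) (fun h => hZ (inv_mem_iff.1 h)) hl' l
    obtain ⟨z, hz⟩ := y.RZ hn hZ hl r'
    have h3 : h 0 0 z * (e' * ι (uM r) * e) = 1 := by
      rw [← hz, ← y.cj_t hn he', ← mul_assoc, ← mul_assoc, conj_mul, ← h2, mul_assoc, ← h1]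
      simp only [commutatorElement_def]; group
    have r0 : r = 0 := by
      rcases he with rfl | rfl <;> rcases he' with rfl | rfl <;>
        simp only [mul_one, one_mul, ← map_mul, mul_neg, neg_mul, neg_neg] at h3 <;>
        simpa only [neg_ap, u_ap, one_ap, neg_eq_zero] using (ent (κ.inj _ _ _ _ h3).2.2.2).2.1
    rw [r0, uM_zero, map_one, one_mul, commutatorElement_def, mul_inv_eq_iff_eq_mul] at h1
    rw [← conj_mul, h1]
    rcases he with rfl | rfl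
    · rw [one_mul]
    · rw [← map_mul, ← map_mul, ← map_mul]; simp
  have sq : ∀ l : Fˣ, IsSquare (l : F) → ι (dM l) * (n * ι (dM l') * n⁻¹) =
      n * ι (dM l') * n⁻¹ * ι (dM l) := fun l ⟨r, e⟩ => by
    have r0 : r ≠ 0 := fun h => l.ne_zero (by rw [e, h, mul_zero])
    rw [show l = Units.mk0 r r0 * Units.mk0 r r0 from Units.ext e, ← dM_mul, map_mul]
    exact (mul_inv_eq_iff_eq_mul.1 (key _)).symm
  by_cases hl : IsSquare (l : F)
  · exact sq l hl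
  · have := sq (-l) (sq_neg y.h4 hl)
    rw [d_neg, ← neg_one_mul, map_mul, mul_assoc, ← mul_assoc _ (ι (-1)),
      mem_centralizer_singleton_iff.1 (bN l').1, mul_assoc (ι (-1))] at this
    exact mul_left_cancel this

theorem sqC {s : G} (hs : s ∈ Nr κ.Z) : ∀ k : ℕ, s ^ 2 ^ k ∈ κ.C → s ∈ κ.C
  | 0, e => by simpa using e
  | k + 1, e => by
    refine sqC hs k ?_
    obtain ⟨c, hc, l, e1⟩ := y.NZ hn hZ (pow_mem hs (2 ^ k))
    rw [pow_succ, pow_mul, e1, show ∀ b : G, (c * b) ^ 2 = c * (b * c * b⁻¹) * (b * b) from fun b => by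
      rw [sq]; group, mul_mem_cancel_left (mul_mem hc ((y.l.nC (y.hz hn l) _).1 hc)), conj_mul,
      ← map_mul, dM_mul] at e
    rcases y.ker hn hZ _ e with e | e
    · have := d_pm (ι := ι) (pm_unit (l := l) (by rw [sq]; exact congrArg Units.val e))
      rw [e1, y.cj_t hn this]
      exact mul_mem hc (y.tC this)
    · exact (nsq y.h4 ⟨l, (congrArg Units.val e).symm⟩).elim

theorem twoT {s : G} (hs : s ∈ Ce (ι (-1)) ⊓ Nr κ.M) (h1 : s ∈ Nr κ.Z) :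
    ∀ k : ℕ, s ^ 2 ^ k = 1 ∨ s ^ 2 ^ k = ι (-1) → s = 1 ∨ s = ι (-1)
  | 0, e => by simpa using e
  | k + 1, e => by
    refine twoT hs h1 k ?_
    rw [pow_succ, pow_mul] at e
    have h2 := pow_mem hs (2 ^ k)
    have h3 := y.sqC hn hZ (pow_mem h1 (2 ^ k)) 1 (y.tC e)
    generalize s ^ 2 ^ k = s at e h2 h3
    obtain ⟨u, hu, l, rfl⟩ := y.l.nCM s ⟨h3, h2.2⟩
    obtain ⟨c, r, rfl⟩ := y.l.Pt.le ⟨hu, (mul_mem_cancel_right (mem_inf.1 (y.dT l)).1).1 h2.1⟩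
    have h2' := two_ne y.h4
    rw [mul_assoc, ← map_mul] at e ⊢
    rw [sq, κ.mul'] at e
    have : c + c = 0 ∧ pm (uM r * dM l * (uM r * dM l)) := by
      rcases e with e | e
      · simpa [pm] using And.intro (κ.inj _ _ _ _ e).2.2.1 (Or.inl (κ.inj _ _ _ _ e).2.2.2)
      · rw [one'' κ (-1)] at e
        simpa [pm] using And.intro (ext κ e).2.2.1 (Or.inr (ext κ e).2.2.2)
    obtain ⟨c0, e⟩ := this
    rw [show c = 0 from (mul_eq_zero.1 ((two_mul c).trans c0)).resolve_left h2', κ.one, one_mul]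
    have l2 : (uM r * dM l * (uM r * dM l)) 0 0 = l * l := by simp only [mul_ap]; simp [uM, dM]
    have l1 : (l : F) ^ 2 = 1 := by
      rcases e with e | e
      · rw [sq, ← l2, e, one_ap.1]
      · exact (nsq y.h4 ⟨l, by rw [← l2, e, neg_ap, one_ap.1]⟩).elim
    have r0 : r = 0 := by
      have := e.ap
      rcases pm_unit l1 with rfl | rfl <;>
        simpa only [d_neg, dM_one, mul_neg, neg_mul, neg_neg, mul_one, uM_mul, u_ap, ← two_mul,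
          mul_eq_zero, eq_false h2', false_or] using this
    rw [r0, uM_zero, one_mul]
    exact d_pm (pm_unit l1)

end Hy

theorem jobSg2 : JobSg2.{u, v} := fun G _ _ F _ _ p _ h ι κ g _ h4 l hc o => by
  have h2 := two_ne h4
  have y : Hy κ p := ⟨l, h4, hc, two l h2 h4 hc fun e => o.nZ (e o.nM)⟩
  have hg : g ∈ Ce (ι (-1)) ⊓ Nr κ.M := ⟨o.ct, o.nM⟩
  have t1 : ι (-1) ≠ 1 := fun e => one_ne_neg h2 (ι_inj κ e).symm
  have tN : ι (-1) ∈ Ce (ι (-1)) ⊓ Nr κ.M := by simpa only [d_neg, dM_one] using y.dT (-1)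
  have : Fact (Nat.Prime 2) := ⟨Nat.prime_two⟩
  obtain ⟨S, hS, ht⟩ := H98.exists_isSyl_le (H98.isPGroup_zpowers (p := 2) (k := 1)
    (by rw [pow_one, sq, tt])) (zpowers_le.2 tN)
  have ST : ∀ s ∈ S, s ∈ Nr κ.Z → s = 1 ∨ s = ι (-1) := fun s hs h1 =>
    (H98.isPGroup_iff_forall.1 hS.isPGroup s hs).elim fun k e =>
      y.twoT hg o.nZ (hS.le hs) h1 k (.inl e)
  have inv : ∀ s ∈ Nr κ.Z, s * s = 1 → s ∈ κ.C := fun s hs e =>
    y.sqC hg o.nZ hs 1 (by rw [pow_one, sq, e]; exact one_mem _)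
  have c4 : 4 ∣ Nat.card S := by
    obtain ⟨j, hj⟩ := hS.isPGroup.exists_card_eq
    have c2 : Nat.card (zpowers (ι (-1))) = 2 := by
      rw [Nat.card_zpowers, orderOf_eq_prime (by rw [sq, tt]) t1]
    have : ¬ Nat.card S ≤ _ := fun e => hS.not_dvd_relIndex (y.i2.symm.dvd.trans
      (relIndex_dvd_of_le_left _ (eq_of_le_of_card_ge ht e ▸ zpowers_le.2 (y.CZ (iC κ _)))))
    rw [hj, c2] at *
    rcases j with _ | _ | j
    · omega
    · omega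
    · exact ⟨2 ^ j, by ring⟩
  obtain ⟨n, hn, k, hk, n1, hk', e⟩ : ∃ n ∈ S, ∃ k ∈ Nr κ.M, n ≠ 1 ∧ k⁻¹ * n * k ∈ Nr κ.Z ∧
      ∀ m ∈ Ce (ι (-1)) ⊓ Nr κ.M, m⁻¹ * k ∉ Nr κ.Z := by
    by_contra! hne
    have e1 := count l h2 hc
    have e2 := y.i2
    rw [e2] at e1
    rw [H38.relIndex_eq_ncard] at e1 e2
    have e3 := Set.ncard_sdiff_add_ncard_of_subset (Set.image_mono (f := (QuotientGroup.mk : G → G ⧸ Nr κ.Z))
      (show ((Ce (ι (-1)) ⊓ Nr κ.M : Subgroup G) : Set G) ⊆ Nr κ.M from inf_le_right))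
    have e4 := c4.trans (H11.card_dvd_ncard_of_free (H := S) (QuotientGroup.mk '' (Nr κ.M : Set G) \
      (QuotientGroup.mk : G → G ⧸ Nr κ.Z) '' ((Ce (ι (-1)) ⊓ Nr κ.M : Subgroup G) : Set G)) (by
        rintro s _ ⟨⟨k, hk, rfl⟩, hk'⟩
        refine ⟨⟨s * k, mul_mem (hS.le s.2).2 hk, rfl⟩, fun ⟨m, hm, e⟩ => hk' ⟨(s : G)⁻¹ * m,
          mul_mem (inv_mem (hS.le s.2)) hm, ?_⟩⟩
        exact (congrArg (s⁻¹ • ·) e).trans (inv_smul_smul _ _)) (by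
        rintro s _ ⟨⟨k, hk, rfl⟩, hk'⟩ e
        by_contra s1
        obtain ⟨m, hm, e⟩ := hne s s.2 k hk (fun e => s1 (Subtype.ext e))
          (by rw [mul_assoc]; exact QuotientGroup.eq.1 e.symm)
        exact hk' ⟨m, hm, QuotientGroup.eq.2 e⟩))
    omega
  have nt : ∀ j : ℕ, n ^ j ≠ ι (-1) := fun j e1 => by
    have := pow_mem hk' j
    rw [show k⁻¹ * n * k = k⁻¹ * n * k⁻¹⁻¹ by group, conj_pow, e1, inv_inv] at this
    obtain ⟨u, hu, h1⟩ := toT l h2 (C_eq κ one_ne_zero ▸ inv _ this (by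
      rw [show ∀ t : G, k⁻¹ * t * k * (k⁻¹ * t * k) = k⁻¹ * (t * t) * k from fun t => by group, tt]
      group))
    exact e _ ⟨h1, mul_mem hk (P_le l hu).1⟩ (by simpa using (P_le l hu).2)
  have hZ : n ∉ Nr κ.Z := fun h => (ST n hn h).elim n1 (by simpa using nt 1)
  have hN := hS.le hn
  have nn : n * n = 1 := (ST _ (mul_mem hn hn) ((y.mul hN hN).2 Iff.rfl)).resolve_right
    (by simpa [sq] using nt 2)
  have kk : k⁻¹ * n * k * (k⁻¹ * n * k) = 1 := by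
    rw [show k⁻¹ * n * k * (k⁻¹ * n * k) = k⁻¹ * (n * n) * k by group, nn]; group
  obtain ⟨u, -, hu⟩ := l.invo _ (inv _ hk' kk) kk fun e => n1 (by
    rw [← conj_eq_one_iff (a := k⁻¹), inv_inv, e])
  have ex : 3 < Fintype.card F → ∃ a : Fˣ, (a : F) ^ 2 ≠ 1 := fun h3 => by
    classical
    by_contra! ha
    have := Finset.card_le_card (show (Finset.univ : Finset Fˣ) ⊆ {1, -1} from fun a _ => by
      simpa using pm_unit (ha a))
    have := this.trans Finset.card_le_two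
    rw [Finset.card_univ, Fintype.card_units] at this
    omega
  refine ⟨n, y.om hN hZ, nn, isConj_iff.2 ⟨(k * u)⁻¹, ?_⟩, y.HH hN hZ, y.hz hN, y.ker hN hZ,
    fun _ => y.NZ hN hZ, fun h3 => (ex h3).elim fun a ha => ⟨y.ZR hN hZ ha, y.RZ hN hZ ha⟩⟩
  calc _ = u⁻¹ * (k⁻¹ * n * k) * u := by group
    _ = _ := by rw [hu]; group

end H93.Sg2
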