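/- RIT-Comm: the commutator case for the groups `E(a)`. -/
import Cfsg.Agent.H66.RITSpec

set_option autoImplicit false

namespace H93.RitComm
open Cfsg H70 H66.RST H66.RIT

universe u

section
variable {G : Type u} [Group G] {D : Set G} {a b z a' b' : G}

theorem EE_conj (hD : IsRootInvolutionSet D) (d g : G) :
    EE D (g * d * g⁻¹) = conjBy (EE D d) g := by
  ext x
  constructor
  · intro hx
    have k := H66.RI.conj_mem_E hD hx g⁻¹
    have e : g⁻¹ * (g * d * g⁻¹) * g⁻¹⁻¹ = d := by group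
    rw [e] at k
    exact ⟨_, k, by simp [mul_assoc]⟩
  · rintro ⟨y, hy, rfl⟩
    exact H66.RI.conj_mem_E hD hy g

theorem card_EE (h : HE D) (ha : a ∈ D) (hb : b ∈ D) : Nat.card (EE D a) = Nat.card (EE D b) := by
  obtain ⟨g, rfl⟩ := h.cl a ha b hb
  rw [EE_conj h.ri]
  exact Nat.card_congr (Subgroup.equivMapOfInjective _ _ (MulAut.conj g).injective).toEquiv

theorem xe (hD : IsRootInvolutionSet D) (hz : z ∈ D) (ha : a ∈ D) (c : Commute z a) (hza : z * a ∈ D)
    (ha' : a' ∈ EC D a) : a' ∈ W D z :=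
  ⟨ha'.1, (((mem_E.1 ha').2 z hz).1 c.symm).symm, fun y hy cy o => (col_W hD hz ha c hza).2.2 y hy cy
    (opp_of_comm_subset hD ha'.1 ha (fun y hy => ((mem_E.1 ha').2 y hy).1) hy o)⟩

theorem four_EE (h : HE D) (ha : a ∈ D) (hb : b ∈ D) (f : Four a b) (ha' : a' ∈ EC D a)
    (hb' : b' ∈ EC D b) : Four a' b' :=
  h.four_E hb hb' ha'.1 (h.four_E ha ha' hb f.symm).symm

variable [Finite G]

theorem comm_mem (h : HE D) (ha : a ∈ D) (hb : b ∈ D) (f : Four a b) (ha' : a' ∈ EE D a)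
    (hb' : b' ∈ EE D b) : a' * b' * a'⁻¹ * b'⁻¹ ∈ EE D (a * b * a * b) := by
  have sa := ri_sq h.ri ha
  have sb := ri_sq h.ri hb
  have hz := ri_four_mem h.ri ha hb f
  rcases (h.mem_Z ha).1 ha' with ka | rfl
  swap
  · simp
  rcases (h.mem_Z hb).1 hb' with kb | rfl
  swap
  · simp
  have wa := xe h.ri hz ha (f.comm_left sa sb).symm (four_mul_left h.ri ha hb) ka
  have wb := xe h.ri hz hb (f.comm_right sa sb).symm (four_mul_right h.ri ha hb) kb
  rw [ri_inv h.ri ka.1, ri_inv h.ri kb.1]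
  rcases h.col_of_W hz wa with e | e
  · exact absurd (e ▸ (f.comm_right sa sb))
      ((h.four_E ha ka hb f.symm).not_commute sb (ri_sq h.ri ka.1))
  · exact (h.mem_Z hz).2 (Or.inl (h.tee hz ka.1 wa.2.1 e wb (four_EE h ha hb f ka kb)))

theorem onto (h : HE D) (ha : a ∈ D) (hb : b ∈ D) (f : Four a b) (ha' : a' ∈ EE D a) (hne : a' ≠ 1)
    {c : G} (hc : c ∈ EE D (a * b * a * b)) : ∃ y ∈ EE D b, a' * y * a'⁻¹ * y⁻¹ = c := by
  have ka : a' ∈ EC D a := ((h.mem_Z ha).1 ha').resolve_right hne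
  let φ : EE D b → EE D (a * b * a * b) := fun y => ⟨_, comm_mem h ha hb f ha' y.2⟩
  have inj : Function.Injective φ := by
    intro y w e
    have e' : a' * y * a'⁻¹ * (y : G)⁻¹ = a' * w * a'⁻¹ * (w : G)⁻¹ := congrArg Subtype.val e
    have c : Commute a' ((w : G)⁻¹ * y) := by
      have : a' * ((w : G)⁻¹ * y) * a'⁻¹ * ((y : G)⁻¹ * w) = 1 := by
        calc a' * ((w : G)⁻¹ * y) * a'⁻¹ * ((y : G)⁻¹ * w)
            = a' * (w : G)⁻¹ * a'⁻¹ * (a' * y * a'⁻¹ * (y : G)⁻¹) * w := by group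
          _ = 1 := by rw [e']; group
      calc a' * ((w : G)⁻¹ * y)
          = a' * ((w : G)⁻¹ * y) * a'⁻¹ * ((y : G)⁻¹ * w) * ((w : G)⁻¹ * y * a') := by group
        _ = (w : G)⁻¹ * y * a' := by rw [this, one_mul]
    rcases (h.mem_Z hb).1 (mul_mem (inv_mem w.2) y.2) with k | k
    · exact absurd c ((four_EE h ha hb f ka k).not_commute (ri_sq h.ri ka.1) (ri_sq h.ri k.1))
    · exact Subtype.ext (inv_mul_eq_one.1 k).symm
  have bij := (Nat.bijective_iff_injective_and_card φ).2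
    ⟨inj, card_EE h hb (ri_four_mem h.ri ha hb f)⟩
  obtain ⟨y, hy⟩ := bij.2 ⟨c, hc⟩
  exact ⟨y, y.2, congrArg Subtype.val hy⟩

theorem comm_eq (h : HE D) (ha : a ∈ D) (hb : b ∈ D) (f : Four a b) :
    ⁅EE D a, EE D b⁆ = EE D (a * b * a * b) := by
  refine le_antisymm (Subgroup.commutator_le.2 fun x hx y hy => comm_mem h ha hb f hx hy) fun c hc => ?_
  have hm : a ∈ EE D a := H66.RI.mem_E ha (H66.RI.SE.refl a)
  obtain ⟨y, hy, rfl⟩ := onto h ha hb f hm (ri_ne_one h.ri ha) hc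
  exact Subgroup.commutator_mem_commutator hm hy

end

theorem jobComm : H66.RIT.JobComm.{u} := by
  intro G _ _ D h d hd a ha b hb f
  have sa := ri_sq h.ri ha
  have sb := ri_sq h.ri hb
  have hz := ri_four_mem h.ri ha hb f
  unfold RootCommutatorCase
  rw [comm_eq h ha hb f]
  refine ⟨?_, fun c hc x hx => ?_, fun a' ha' hne => ?_, fun b' hb' hne => ?_⟩
  · obtain ⟨g, e⟩ := h.cl d hd _ hz
    exact ⟨g, by rw [e, EE_conj h.ri]⟩
  · have : EE D a ⊔ EE D b ≤ Subgroup.centralizer {c} := sup_le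
      (fun y hy => Subgroup.mem_centralizer_singleton_iff.2
        (H66.RI.commute_E hz (f.comm_left sa sb).symm hc hy).symm.eq)
      (fun y hy => Subgroup.mem_centralizer_singleton_iff.2
        (H66.RI.commute_E hz (f.comm_right sa sb).symm hc hy).symm.eq)
    exact (Subgroup.mem_centralizer_singleton_iff.1 (this hx)).symm
  · refine le_antisymm ((Subgroup.closure_le _).2 ?_) fun c hc => ?_
    · rintro _ ⟨y, hy, rfl⟩
      exact comm_mem h ha hb f ha' hy
    · obtain ⟨y, hy, e⟩ := onto h ha hb f ha' hne hc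
      exact Subgroup.subset_closure ⟨y, hy, e⟩
  · refine le_antisymm ((Subgroup.closure_le _).2 ?_) fun c hc => ?_
    · rintro _ ⟨y, hy, rfl⟩
      exact comm_mem h ha hb f hy hb'
    · have hc' : c⁻¹ ∈ EE D (b * a * b * a) := by rw [f.swap sa sb]; exact inv_mem hc
      obtain ⟨y, hy, e⟩ := onto h hb ha f.symm hb' hne hc'
      refine Subgroup.subset_closure ⟨y, hy, ?_⟩
      rw [← inv_inv c, ← e]; group

end H93.RitComm
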