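import Cfsg.Agent.H93.S2BE2
import Cfsg.Agent.H93.S2BW2
import Cfsg.Agent.H9.Critical

/-! The automorphism group of a 2-group with three involutions is solvable. -/

set_option autoImplicit false

namespace H93.S2B
open Equiv Subgroup Cfsg
open scoped commutatorElement

theorem solvable_of_hom {A B : Type*} [Group A] [Group B] (f : A →* B)
    (h1 : Group.IsSolvable f.ker) (h2 : Group.IsSolvable f.range) : Group.IsSolvable A := by
  haveI := H2.isSolvable_of_mulEquiv (QuotientGroup.quotientKerEquivRange f).symm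
  exact H2.isSolvable_of_normal_of_quotient f.ker

theorem exists_comm_of_card {D : Type*} [Group D] [Finite D] {U Φ N : Subgroup D} [Φ.Normal] {x : D}
    (hx : x ∉ Φ) (hx2 : x ^ 2 ∈ Φ) (hN : ∀ g ∈ U, ⁅x, g⁆ ∈ N)
    (hc : Nat.card N * (2 * Nat.card Φ) < Nat.card U) :
    ∃ w ∈ U, Commute x w ∧ w ∉ Φ ∧ x * w ∉ Φ := by
  haveI : Fact (Nat.Prime 2) := ⟨by norm_num⟩
  have r1 := H9.relIndex_centralizer_le_card hN
  have r2 := S2W.card_eq_relIndex_mul (centralizer {x}) U
  have r3 := H9.card_sup_zpowers (p := 2) hx hx2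
  obtain ⟨w, hw, w1⟩ : ∃ w ∈ U ⊓ centralizer {x}, w ∉ Φ ⊔ zpowers x := by
    by_contra hh
    push Not at hh
    have := card_le_of_le (show U ⊓ centralizer {x} ≤ Φ ⊔ zpowers x from hh)
    rw [r3] at this
    have := Nat.mul_le_mul r1 this
    omega
  refine ⟨w, hw.1, (mem_centralizer_singleton_iff.mp hw.2).symm, fun e => w1 (mem_sup_left e),
    fun e => w1 ?_⟩
  rw [← inv_mul_cancel_left x w]
  exact mul_mem (mem_sup_right (inv_mem (mem_zpowers x))) (mem_sup_left e)

theorem solvable_range_of_exp_four {D A : Type*} [Group D] [Finite D] [Group A]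
    (hD : IsPGroup 2 D) (h4 : ∀ x : D, x ^ 4 = 1) (hc : ∀ x g : D, g * x ^ 2 = x ^ 2 * g)
    (hI : {x : D | x ^ 2 = 1}.ncard ≤ 4) (h16 : (frattini D).index ≤ 16) (φ : A →* MulAut D)
    (hφ : ∀ (a : A) (x : D), x ^ 2 = 1 → φ a x = x) :
    Group.IsSolvable ((H3.frattiniAut D).comp φ).range := by
  haveI : Fact (Nat.Prime 2) := ⟨by norm_num⟩
  haveI : Fact (Nat.Prime 3) := ⟨by norm_num⟩
  haveI : Fact (Nat.Prime 5) := ⟨by norm_num⟩
  haveI : Fact (Nat.Prime 7) := ⟨by norm_num⟩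
  by_contra hns
  set ψ := (H3.frattiniAut D).comp φ with hψ
  set Φ := frattini D with hΦ
  have sq : ∀ x : D, x ^ 2 ∈ Φ := H9.pow_mem_frattini hD
  have hle : ∀ x ∈ Φ, x ∈ center D ∧ x ^ 2 = 1 := by
    have : Φ ≤ (H9.torsionIn 2 (center D) inferInstance) := H9.frattini_le_of_forall (p := 2)
      (fun x y => comm_mem_of_sq (A := ⊤) (B := H9.torsionIn 2 (center D) inferInstance) (fun z _ => ⟨mem_center_iff.mpr (hc z), by
        rw [← pow_mul]; exact h4 z⟩) trivial trivial)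
      fun z => ⟨mem_center_iff.mpr (hc z), by rw [← pow_mul]; exact h4 z⟩
    exact fun x hx => this hx
  have cΦ : Nat.card Φ ≤ 4 :=
    (Set.ncard_le_ncard (s := (Φ : Set D)) fun x hx => (hle x hx).2).trans hI
  have V2 : ∀ v : D ⧸ Φ, v ^ 2 = 1 := fun v => by
    obtain ⟨x, rfl⟩ := QuotientGroup.mk_surjective v
    exact (QuotientGroup.eq_one_iff _).mpr (sq x)
  let q : D ⧸ Φ → D := fun v => v.out ^ 2
  have hq : ∀ x : D, q x = x ^ 2 := fun x => by
    obtain ⟨c, hc'⟩ := QuotientGroup.mk_out_eq_mul Φ x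
    have : Commute x c := mem_center_iff.mp (hle c c.2).1 x
    change (x : D ⧸ Φ).out ^ 2 = _
    rw [hc', this.mul_pow, (hle c c.2).2, mul_one]
  have act : ∀ (a : A) (x : D), ψ a x = (φ a x : D) := fun _ _ => rfl
  have qinv : ∀ g ∈ ψ.range, ∀ v, q (g v) = q v := by
    rintro _ ⟨a, rfl⟩ v
    obtain ⟨x, rfl⟩ := QuotientGroup.mk_surjective v
    rw [act, hq, hq, ← map_pow, hφ a _ (hle _ (sq x)).2]
  have aniso : ∀ g ∈ ψ.range, ∀ x : D, x ^ 2 = 1 → (x : D ⧸ Φ) ∈ Fx g := by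
    rintro _ ⟨a, rfl⟩ x hx
    rw [mem_Fx, act, hφ a x hx]
  obtain ⟨ι, hι⟩ := aut_emb_A8 V2 h16
  have hd : Nat.card ψ.range ∣ 20160 :=
    (card_subgroup_dvd_card _).trans (card_A8 ▸ card_dvd_of_injective ι hι)
  have elt : ∀ p : ℕ, Fact p.Prime → p ∣ Nat.card ψ.range → ∃ g ∈ ψ.range, g ^ p = 1 ∧ g ≠ 1 := by
    intro p hp h
    obtain ⟨g, hg⟩ := exists_prime_orderOf_dvd_card' p h
    have hg' : orderOf (g : MulAut (D ⧸ Φ)) = p := (orderOf_coe g).trans hg
    exact ⟨g, g.2, by rw [← hg', pow_orderOf_eq_one], fun e => by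
      rw [e, orderOf_one] at hg'; exact hp.out.one_lt.ne hg'⟩
  have cD := Φ.index_mul_card
  have pΦ : 0 < Nat.card Φ := Nat.card_pos
  by_cases h7 : 7 ∣ Nat.card ψ.range
  · obtain ⟨g, hg, g7, g1⟩ := elt 7 inferInstance h7
    letI : CommGroup (D ⧸ Φ) := { (inferInstance : Group (D ⧸ Φ)) with mul_comm := comm_of_sq V2 }
    have m1 := card_modEq_Fx (U := ⊤) (e := g) (fun _ _ => trivial) g7
    rw [top_inf_eq, card_top] at m1
    have m2 := card_range_dif g
    have hU : ∀ u ∈ (dif g).range, g u ∈ (dif g).range := by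
      rintro _ ⟨w, rfl⟩
      rw [map_dif, mul_inv_cancel_right]
      exact ⟨_, rfl⟩
    have m3 := card_modEq_Fx hU g7
    have m4 := card_dvd_of_le (inf_le_right : (dif g).range ⊓ Fx g ≤ Fx g)
    have m5 : Nat.card (Fx g) ≠ Nat.card (D ⧸ Φ) := fun e => g1 (Fx_eq_top (eq_top_of_card_eq _ e))
    obtain ⟨k, hk⟩ := (hD.to_quotient Φ).exists_card_eq
    obtain ⟨l, hl⟩ := ((hD.to_quotient Φ).to_subgroup (Fx g)).exists_card_eq
    have k4 : k ≤ 4 := (Nat.pow_le_pow_iff_right (by norm_num)).mp (show 2 ^ k ≤ 2 ^ 4 from hk ▸ h16)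
    have l4 : l ≤ k := (Nat.pow_le_pow_iff_right (by norm_num)).mp
      (show 2 ^ l ≤ 2 ^ k by rw [← hk, ← hl]; exact card_le_card_group _)
    unfold Nat.ModEq at m1 m3
    have c8 : Nat.card (dif g).range = 8 ∧ Nat.card (Fx g) ≤ 2 := by
      rw [hk, hl] at m1 m2 m5
      rw [hl]
      interval_cases k <;> interval_cases l <;> omega
    have c1 : (dif g).range ⊓ Fx g = ⊥ := by
      have := Nat.le_of_dvd Nat.card_pos m4
      exact card_eq_one.mp (by omega)
    have nf : ∀ u ∈ (dif g).range, u ≠ 1 → u ∉ Fx g := fun u hu u1 e =>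
      u1 (mem_bot.mp (c1 ▸ (⟨hu, e⟩ : u ∈ (dif g).range ⊓ Fx g)))
    have const : ∀ u ∈ (dif g).range, u ≠ 1 → ∀ v ∈ (dif g).range, v ≠ 1 → q v = q u := by
      intro u hu u1
      let S : Set (D ⧸ Φ) := {v | v ∈ (dif g).range ∧ v ≠ 1 ∧ q v = q u}
      have a1 := ncard_modEq_fix (S := S) (Set.toFinite _) g
        (fun s hs => ⟨hU s hs.1, by simpa using hs.2.1, (qinv g hg s).trans hs.2.2⟩) (p := 7)
        fun s _ => by
          have it : ∀ k : ℕ, (g : _ → _)^[k] s = (g ^ k) s := by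
            intro k
            induction k with
            | zero => rfl
            | succ k ih => rw [Function.iterate_succ_apply', ih, pow_succ']; rfl
          rw [it, g7]; rfl
      rw [show {s | s ∈ S ∧ g s = s} = ∅ from Set.eq_empty_of_forall_notMem fun s hs =>
        nf s hs.1.1 hs.1.2.1 hs.2, Set.ncard_empty] at a1
      have a2 : 0 < S.ncard := (Set.ncard_pos (Set.toFinite _)).mpr ⟨u, hu, u1, rfl⟩
      have a3 : S = ((dif g).range : Set (D ⧸ Φ)) \ {1} :=
        Set.eq_of_subset_of_ncard_le (fun s hs => ⟨hs.1, hs.2.1⟩) (by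
          rw [Set.ncard_sdiff_singleton_of_mem (one_mem _)]
          have : ((dif g).range : Set (D ⧸ Φ)).ncard = 8 := c8.1
          unfold Nat.ModEq at a1
          omega) (Set.toFinite _)
      intro v hv v1
      have : v ∈ S := by rw [a3]; exact ⟨hv, v1⟩
      exact this.2.2
    let U := (dif g).range.comap (QuotientGroup.mk' Φ)
    have cU : Nat.card U = 8 * Nat.card Φ := by rw [card_comap_mk', c8.1]
    obtain ⟨x, hx, x1⟩ : ∃ x ∈ U, x ∉ Φ := by
      by_contra hh
      push Not at hh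
      have := card_le_of_le (show U ≤ Φ from hh)
      omega
    have cst : ∀ w ∈ U, w ∉ Φ → w ^ 2 = x ^ 2 := fun w hw w1 => by
      rw [← hq, ← hq]
      exact const _ hx (mt (QuotientGroup.eq_one_iff x).mp x1) _ hw
        (mt (QuotientGroup.eq_one_iff w).mp w1)
    have x2 : x ^ 2 ≠ 1 := fun e => nf _ hx (mt (QuotientGroup.eq_one_iff x).mp x1) (aniso g hg x e)
    obtain ⟨w, hw, cm, w1, w2⟩ := exists_comm_of_card (U := U) (N := zpowers (x ^ 2)) x1 (sq x)
      (fun w hw => comm_mem_of_sq (A := U) (fun z hz => by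
        by_cases e : z ∈ Φ
        · rw [(hle z e).2]; exact one_mem _
        · rw [cst z hz e]; exact mem_zpowers _) hx hw) (by
        rw [Nat.card_zpowers, orderOf_eq_prime (hle _ (sq x)).2 x2]; omega)
    have := cst _ (mul_mem hx hw) w2
    rw [cm.mul_pow, cst w hw w1, mul_eq_left] at this
    exact x2 this
  have h5 := (five_or_seven hd hns).resolve_right h7
  have h3 : 3 ∣ Nat.card ψ.range := by
    by_contra h3
    have e : 20160 = (2 ^ 6 * 5 ^ 1 * 3 ^ 2) * 7 := by norm_num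
    rw [e] at hd
    have d1 := (Nat.Coprime.dvd_mul_right
      ((Nat.Prime.coprime_iff_not_dvd (by norm_num : Nat.Prime 7)).mpr h7).symm).mp hd
    have d2 := (Nat.Coprime.dvd_mul_right (Nat.Coprime.pow_right 2
      ((Nat.Prime.coprime_iff_not_dvd (by norm_num : Nat.Prime 3)).mpr h3).symm)).mp d1
    obtain ⟨u, v, hu, hv, huv⟩ := (Nat.dvd_mul).mp d2
    obtain ⟨a, -, rfl⟩ := (Nat.dvd_prime_pow (by norm_num : Nat.Prime 2)).mp hu
    obtain ⟨b, -, rfl⟩ := (Nat.dvd_prime_pow (by norm_num : Nat.Prime 5)).mp hv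
    exact hns (Cfsg.Agent.S0144.result 2 5 a b (by norm_num) (by norm_num) huv.symm)
  obtain ⟨y, hy, y5, y1⟩ := elt 5 inferInstance h5
  obtain ⟨r, hr, r3, r1⟩ := elt 3 inferInstance h3
  have c16 : Nat.card (D ⧸ Φ) = 16 := by
    by_contra hne
    have := (h5.trans (card_subgroup_dvd_card _)).trans
      (card_aut_elem V2 (lt_of_le_of_ne h16 hne))
    norm_num at this
  have ne1 : ∀ x : D, x ∉ Φ → x ^ 2 ≠ 1 := fun x x1 e => by
    have := aniso y hy x e
    rw [Fx_five c16 y5 y1, mem_bot] at this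
    exact x1 ((QuotientGroup.eq_one_iff x).mp this)
  rw [index_eq_card, c16] at cD
  obtain ⟨x, x1⟩ : ∃ x : D, x ∉ Φ := by
    by_contra hh
    push Not at hh
    have := card_le_of_le (show ⊤ ≤ Φ from fun x _ => hh x)
    rw [card_top] at this
    omega
  obtain ⟨w, -, cm, w1, w2⟩ := exists_comm_of_card (U := ⊤) (N := Φ) x1 (sq x)
    (fun w _ => H9.commutatorElement_mem_frattini hD x w) (by rw [card_top]; nlinarith)
  refine q16 c16 q y5 y1 r3 r1 (qinv y hy) (qinv r hr) (mt (QuotientGroup.eq_one_iff x).mp x1)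
    (mt (QuotientGroup.eq_one_iff w).mp w1) (mt (QuotientGroup.eq_one_iff _).mp w2) ?_ ?_ ?_ <;>
    rw [hq, hq] <;> intro k
  · exact ne1 _ w2 (by rw [cm.mul_pow, ← k, ← pow_two, (hle _ (sq x)).2])
  · rw [cm.mul_pow, eq_comm, mul_eq_left] at k
    exact ne1 w w1 k
  · rw [cm.mul_pow, eq_comm, mul_eq_right] at k
    exact ne1 x x1 k

theorem exists_char_exp_four {X : Type*} [Group X] [Finite X] (h2 : IsPGroup 2 X) :
    ∃ D : Subgroup X, D.Characteristic ∧ (∀ x ∈ D, x ^ 4 = 1) ∧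
      (∀ x ∈ D, ∀ g ∈ D, g * x ^ 2 = x ^ 2 * g) ∧
      ∀ a : MulAut X, (orderOf a).Coprime 2 → (∀ x ∈ D, a x = x) → a = 1 := by
  haveI : Fact (Nat.Prime 2) := ⟨by norm_num⟩
  obtain ⟨H, hH, c1, c2, c3⟩ := H9.exists_critical h2
  have hpow : ∀ x ∈ H, ∀ y ∈ H, (x * y) ^ 4 = x ^ 4 * y ^ 4 := by
    intro x hx y hy
    have e : (x * y) ^ 2 = x ^ 2 * ⁅x⁻¹, y⁆ * y ^ 2 := by
      simp only [commutatorElement_def, pow_two]; group
    have k := c2 _ (inv_mem hx) y
    have a1 : Commute (x ^ 2) ⁅x⁻¹, y⁆ := (mem_centralizer_iff.mp (c1 x hx) _ k.1).symm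
    have a2 : Commute (x ^ 2 * ⁅x⁻¹, y⁆) (y ^ 2) :=
      mem_centralizer_iff.mp (c1 y hy) _ (mul_mem (pow_mem hx 2) k.1)
    have a3 : ⁅x⁻¹, y⁆ ^ 2 = 1 := by
      rw [← H9.commutatorElement_pow_left (mem_centralizer_iff.mp k.2 _ (inv_mem hx))]
      exact commutatorElement_eq_one_iff_mul_comm.mpr
        (mem_centralizer_iff.mp (c1 _ (inv_mem hx)) y hy).symm
    rw [show 4 = 2 * 2 from rfl, pow_mul, e, a2.mul_pow, a1.mul_pow, a3, mul_one, pow_mul, pow_mul]
  let D : Subgroup X :=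
    { carrier := {x | x ∈ H ∧ x ^ 4 = 1}
      one_mem' := ⟨one_mem _, one_pow 4⟩
      mul_mem' := fun {a b} ha hb => ⟨mul_mem ha.1 hb.1, by rw [hpow a ha.1 b hb.1, ha.2, hb.2, one_mul]⟩
      inv_mem' := fun {a} ha => ⟨inv_mem ha.1, by rw [inv_pow, ha.2, inv_one]⟩ }
  refine ⟨D, H9.characteristic_of_forall_mem fun φ x hx => ⟨H9.apply_mem_of_characteristic φ hx.1,
    by rw [← map_pow, hx.2, map_one]⟩, fun x hx => hx.2,
    fun x hx g hg => mem_centralizer_iff.mp (c1 x hx.1) g hg.1, fun a ha hf => ?_⟩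
  have h4 : IsPGroup 4 X := fun g => by
    obtain ⟨k, hk⟩ := h2 g
    exact ⟨k, by rw [show (4 : ℕ) = 2 * 2 from rfl, mul_pow, pow_mul, hk, one_pow]⟩
  exact H9.mulAut_eq_one_of_fixes_self_centralizing h2 c3 a ha
    (H9.mulAut_fixes_of_pow_hom h4 hpow a (Nat.Coprime.pow_right 2 ha)
      (fun x hx => H9.apply_mem_of_characteristic a hx) fun x hx e => hf x ⟨hx, e⟩)

theorem s3117 {X : Type*} [Group X] [Finite X] (h2 : IsPGroup 2 X)
    (h3 : Nat.card {x : X // orderOf x = 2} = 3) : Group.IsSolvable (MulAut X) := by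
  haveI : Fact (Nat.Prime 2) := ⟨by norm_num⟩
  have hI : {x : X | x ^ 2 = 1}.ncard ≤ 4 := by
    have : {x : X | x ^ 2 = 1} ⊆ insert 1 {x : X | orderOf x = 2} := fun x hx => by
      by_cases e : x = 1
      · exact Or.inl e
      · exact Or.inr (orderOf_eq_prime hx e)
    have h := (Set.ncard_le_ncard this).trans (Set.ncard_insert_le _ _)
    have h' : {x : X | orderOf x = 2}.ncard = 3 := h3
    omega
  have h4 := S2W.rank_le_four h2 fun A _ _ hA =>
    (Set.ncard_le_ncard (s := (A : Set X)) hA).trans hI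
  obtain ⟨D, hD, d4, dc, df⟩ := exists_char_exp_four h2
  letI : MulAction (MulAut X) {x : X // orderOf x = 2} :=
    { smul := fun a x => ⟨a x, by rw [MulEquiv.orderOf_eq]; exact x.2⟩
      one_smul := fun _ => rfl
      mul_smul := fun _ _ _ => rfl }
  let π := MulAction.toPermHom (MulAut X) {x : X // orderOf x = 2}
  refine solvable_of_hom π ?_ (solvable_of_card_lt _ _ rfl (lt_of_le_of_lt (card_le_card_group _) (by
    rw [Nat.card_perm, h3]; decide)))
  let φ : π.ker →* MulAut D := (MulAut.characteristic D).comp π.ker.subtype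
  have hφ : ∀ (a : π.ker) (x : D), (φ a x : X) = (a : MulAut X) x := fun _ _ => rfl
  have hDp := h2.to_subgroup D
  refine solvable_of_hom ((H3.frattiniAut D).comp φ) ?_ (solvable_range_of_exp_four hDp
    (fun x => Subtype.ext (d4 x x.2)) (fun x g => Subtype.ext (dc x x.2 g g.2)) ?_
    (H3.index_frattini_le_of_sectionalPRankLE hDp (H3.sectionalPRankLE_subgroup h4 D)) φ ?_)
  · have : IsPGroup 2 ((H3.frattiniAut D).comp φ).ker :=
      H10.isPGroup_of_forall_coprime fun a ha hco => by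
        have e1 : φ a = 1 := H10.eq_one_of_mem_isPGroup_of_coprime (H3.isPGroup_ker_frattiniAut hDp)
          ha (Nat.Coprime.coprime_dvd_left (orderOf_map_dvd φ a) hco)
        refine Subtype.ext (df a (by rwa [orderOf_coe]) fun x hx => ?_)
        rw [← hφ a ⟨x, hx⟩, e1]; rfl
    haveI := this.isNilpotent
    infer_instance
  · exact (Set.ncard_le_ncard_of_injOn (s := {x : D | x ^ 2 = 1}) (t := {x : X | x ^ 2 = 1})
      (fun x : D => (x : X))
      (fun x hx => by
        have := congrArg Subtype.val (show x ^ 2 = 1 from hx)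
        exact this) Subtype.val_injective.injOn).trans hI
  · intro a x hx
    apply Subtype.ext
    rw [hφ]
    by_cases e : (x : X) = 1
    · rw [e, map_one]
    · exact congrArg Subtype.val (DFunLike.congr_fun a.2
        ⟨x, orderOf_eq_prime (congrArg Subtype.val hx) e⟩)

end H93.S2B
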