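import Cfsg.Agent.H11.StableQuot
import Cfsg.Agent.H92.Res

/-! For every odd `p`, normalizer-form `p`-stability passes to the quotient by a normal
`p`-subgroup centralized by all `p'`-elements. -/

set_option autoImplicit false

namespace H93

open Matrix MatrixGroups Cfsg Subgroup H16 H13 H7 H11
open scoped commutatorElement

universe u

variable {p : ℕ} [Fact p.Prime]

theorem eq_one_of_pow_coprime {G : Type*} [Group G] {z : G} {n k : ℕ} (hn : n.Coprime p)
    (h1 : z ^ n = 1) (h2 : z ^ p ^ k = 1) : z = 1 := by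
  rw [← orderOf_eq_one_iff]
  exact Nat.eq_one_of_dvd_coprimes (hn.pow_right k) (orderOf_dvd_of_pow_eq_one h1)
    (orderOf_dvd_of_pow_eq_one h2)

omit [Fact p.Prime] in
theorem conj_mem_Nm' {G : Type*} [Group G] {A : Subgroup G} {g a : G} (hg : g ∈ Nm A)
    (ha : a ∈ A) : g * a * g⁻¹ ∈ A := (mem_normalizer_iff.mp hg a).mp ha

theorem not_stable_of_central_nat_odd (hp : p ≠ 2) {G X : Type*} [Group G] [Finite G] [Group X]
    (π : G →* X) (ι : Multiplicative (Fin 2 → ZMod p) →* X) (hι : Function.Injective ι)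
    (hker : IsPGroup p π.ker) (hsurj : ∀ v, ∃ a, π a = ι v)
    (hcent : ∀ a, π a ∈ ι.range → a ∈ Ce π.ker)
    (hB : ∀ g : G, (orderOf g).Coprime p → g ∈ Ce π.ker)
    (h : ∀ m, ∃ g, ActsVia π ι g m) : ¬ IsNormalizerPStable p G := by
  intro hst
  have hpp : p.Prime := Fact.out
  have h2p : Nat.Coprime 2 p := (Nat.coprime_primes Nat.prime_two hpp).mpr hp.symm
  have h2 : (2 : ZMod p) ≠ 0 := fun e => hp ((Nat.prime_dvd_prime_iff_eq hpp Nat.prime_two).mp
    ((ZMod.natCast_eq_zero_iff 2 p).mp (by exact_mod_cast e)))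
  set A := ι.range.comap π with hAdef
  have hBA : π.ker ≤ A := fun b hb => ⟨1, by rw [map_one, hb]⟩
  have hz1 : ∀ z ∈ π.ker, ∀ n : ℕ, n.Coprime p → z ^ n = 1 → z = 1 := fun z hz n hn e => by
    obtain ⟨k, hk⟩ := hker ⟨z, hz⟩
    exact eq_one_of_pow_coprime hn e (congrArg Subtype.val hk)
  have hdiv : ∀ a b : G, π a = π b → a⁻¹ * b ∈ π.ker := fun a b e => by
    rw [MonoidHom.mem_ker, map_mul, map_inv, e, inv_mul_cancel]
  -- `p'`-elements acting trivially on the section centralize `A`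
  have htriv : ∀ k : G, (orderOf k).Coprime p → ActsVia π ι k 1 → ∀ a ∈ A, k * a * k⁻¹ = a := by
    rintro k hk hk1 a ⟨v, hv⟩
    have hz : a⁻¹ * (k * a * k⁻¹) ∈ π.ker := hdiv _ _ (by
      rw [map_mul, map_mul, map_inv, ← hv, ← ofAdd_toAdd v, hk1]; simp)
    have e1 := conj_eq_of_mem_Ce (hB k hk) hz
    have e2 : ∀ n : ℕ, k ^ n * a * (k ^ n)⁻¹ = a * (a⁻¹ * (k * a * k⁻¹)) ^ n := by
      intro n
      induction n with
      | zero => simp
      | succ n ih =>
        calc _ = k * (k ^ n * a * (k ^ n)⁻¹) * k⁻¹ := by rw [pow_succ']; group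
          _ = k * a * k⁻¹ * (k * (a⁻¹ * (k * a * k⁻¹)) * k⁻¹) ^ n := by rw [ih, conj_pow]; group
          _ = _ := by rw [e1, pow_succ', ← mul_assoc a, mul_inv_cancel_left]
    have e3 := e2 (orderOf k)
    rw [pow_orderOf_eq_one, one_mul, inv_one, mul_one, left_eq_mul] at e3
    have := hz1 _ hz _ hk e3
    rw [inv_mul_eq_one] at this
    exact this.symm
  let N : Subgroup G :=
    { carrier := {g | ∃ m, ActsVia π ι g m}
      one_mem' := ⟨1, actsVia_one⟩
      mul_mem' := fun ⟨_, ha⟩ ⟨_, hb⟩ => ⟨_, ha.mul hb⟩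
      inv_mem' := fun ⟨_, ha⟩ => ⟨_, ha.inv⟩ }
  let M : Subgroup G :=
    { carrier := {g | ActsVia π ι g 1 ∨ ActsVia π ι g (-1)}
      one_mem' := Or.inl actsVia_one
      mul_mem' := by
        rintro a b (ha | ha) (hb | hb) <;> have := ha.mul hb <;>
          simp only [mul_one, one_mul, neg_mul_neg] at this <;> tauto
      inv_mem' := by
        rintro a (ha | ha) <;> have := ha.inv <;> simp only [inv_one, inv_neg_one] at this <;>
          tauto }
  have : Fact (Nat.Prime 2) := ⟨Nat.prime_two⟩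
  obtain ⟨t, ⟨j, htj⟩, ht⟩ : ∃ t : G, (∃ j : ℕ, t ^ 2 ^ j = 1) ∧ ActsVia π ι t (-1) := by
    obtain ⟨t, ht⟩ := h (-1)
    obtain ⟨k, n, h1, h2⟩ := H92.exists_pPart (p := 2) (isOfFinOrder_of_finite t) 1
    refine ⟨t ^ k, ⟨n, h1⟩, ?_⟩
    have := ht.pow k
    rwa [Odd.neg_one_pow (Nat.odd_iff.mpr h2)] at this
  obtain ⟨T, hT, htT⟩ := H92.exists_sylIn_ge (B := M) (H92.isPGroup_zpowers htj)
    (zpowers_le.mpr (Or.inr ht))
  replace htT : t ∈ T := htT (mem_zpowers t)
  have hTc : ∀ k ∈ T, ActsVia π ι k 1 → ∀ a ∈ A, k * a * k⁻¹ = a := fun k hk => by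
    obtain ⟨i, hi⟩ := H92.isPGroup_iff_forall.mp hT.isPGroup k hk
    exact htriv k (Nat.Coprime.coprime_dvd_left (orderOf_dvd_of_pow_eq_one hi) (h2p.pow_left i))
  have htt : ∀ a ∈ A, t * (t * a * t⁻¹) * t⁻¹ = a := fun a ha => by
    have := hTc _ (mul_mem htT htT) (by simpa using ht.mul ht) a ha
    exact Eq.trans (by group) this
  have hgood : ∀ m, ∃ g, ActsVia π ι g m ∧
      ∀ a ∈ A, t * (g * a * g⁻¹) * t⁻¹ = g * (t * a * t⁻¹) * g⁻¹ := by
    intro m
    obtain ⟨g, hg⟩ := h m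
    obtain ⟨n, hn, e⟩ := hT.frattini (B := N) (by
      rintro b ⟨mb, hb⟩ n (hn | hn) <;> have := (hb.mul hn).mul hb.inv <;>
        simp only [mul_one, mul_neg, neg_mul, mul_inv_cancel] at this
      · exact Or.inl this
      · exact Or.inr this) (show g ∈ N from ⟨m, hg⟩)
    have key : ∀ (x : G) (mx : SL(2, ZMod p)), ActsVia π ι x mx → x * t * x⁻¹ ∈ T →
        ∀ a ∈ A, t * (x * a * x⁻¹) * t⁻¹ = x * (t * a * t⁻¹) * x⁻¹ := by
      intro x mx hx hxT a ha
      have h1 := hTc _ (mul_mem (inv_mem htT) hxT) (by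
        simpa using ht.inv.mul ((hx.mul ht).mul hx.inv)) _ (conj_mem_Nm' hx.mem_Nm ha)
      calc _ = t * (t⁻¹ * (x * t * x⁻¹) * (x * a * x⁻¹) * (t⁻¹ * (x * t * x⁻¹))⁻¹) * t⁻¹ := by
            rw [h1]
        _ = _ := by group
    rcases hn with hn | hn
    · exact ⟨n * g, by simpa using hn.mul hg, key _ _ (hn.mul hg) (e t htT)⟩
    · refine ⟨t * (n * g), by simpa using ht.mul (hn.mul hg), key _ _ (ht.mul (hn.mul hg)) ?_⟩
      have := mul_mem (mul_mem htT (e t htT)) (inv_mem htT)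
      convert this using 1; group
  -- elements inverted by `t`
  have hI : ∀ v, ∃ c ∈ A, t * c * t⁻¹ = c⁻¹ ∧ π c = ι (.ofAdd v) := by
    intro v
    obtain ⟨a, ha⟩ := hsurj (.ofAdd ((2 : ZMod p)⁻¹ • v))
    have haA : a ∈ A := ⟨_, ha.symm⟩
    have e : π (a * (t * a * t⁻¹)⁻¹) = ι (.ofAdd v) := by
      rw [map_mul, map_inv, map_mul, map_mul, map_inv, ha, ht, ← map_inv, ← map_mul, ← ofAdd_neg,
        ← ofAdd_add]
      congr 2
      have e1 : ((-1 : SL(2, ZMod p)) : Matrix (Fin 2) (Fin 2) (ZMod p)) = -1 := rfl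
      rw [e1, neg_mulVec, one_mulVec, neg_neg, ← two_smul (ZMod p), smul_smul, mul_inv_cancel₀ h2,
        one_smul]
    refine ⟨_, ⟨_, e.symm⟩, ?_, e⟩
    calc _ = t * a * t⁻¹ * (t * (t * a * t⁻¹) * t⁻¹)⁻¹ := by group
      _ = _ := by rw [htt a haA]; group
  have htB : t ∈ Ce π.ker := hB t
    (Nat.Coprime.coprime_dvd_left (orderOf_dvd_of_pow_eq_one htj) (h2p.pow_left j))
  have hsq : ∀ c c' d : G, c ∈ A → c' ∈ A → d ∈ A → t * c * t⁻¹ = c⁻¹ → t * c' * t⁻¹ = c'⁻¹ →
      t * d * t⁻¹ = d⁻¹ → π d = π (c * c') → (d⁻¹ * (c * c')) ^ 2 = ⁅c, c'⁆ := by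
    intro c c' d hc hc' hd ec ec' ed e
    have hz := hdiv _ _ e
    have e1 := conj_eq_of_mem_Ce htB hz
    have e2 := conj_eq_of_mem_Ce (hcent d hd) hz
    calc _ = d * (d⁻¹ * (c * c')) * d⁻¹ * (t * (d⁻¹ * (c * c')) * t⁻¹) := by rw [e1, e2, pow_two]
      _ = c * c' * d⁻¹ * ((t * d * t⁻¹)⁻¹ * ((t * c * t⁻¹) * (t * c' * t⁻¹))) := by group
      _ = _ := by rw [ec, ec', ed, commutatorElement_def]; group
  obtain ⟨u, hu, hut⟩ := hgood (uMat 1)
  let s : SL(2, ZMod p) := ⟨!![0, -1; 1, 0], by simp [det_fin_two]⟩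
  obtain ⟨n, hn, hnt⟩ := hgood s
  obtain ⟨e₁, he₁, -, pe₁⟩ := hI ![1, 0]
  obtain ⟨e₂, he₂, -, pe₂⟩ := hI ![0, 1]
  have hgen : ∀ K : Subgroup G, π.ker ≤ K → e₁ ∈ K → e₂ ∈ K → A ≤ K := by
    rintro K h0 h1 h2 a ⟨v, hv⟩
    have e : π (e₁ ^ (v.toAdd 0).val * e₂ ^ (v.toAdd 1).val) = π a := by
      rw [map_mul, map_pow, map_pow, pe₁, pe₂, ← map_pow ι, ← map_pow ι, ← map_mul, ← hv]
      congr 1
      apply Multiplicative.toAdd.injective
      ext i; fin_cases i <;> simp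
    exact (mul_mem_cancel_left (inv_mem (mul_mem (pow_mem h1 _) (pow_mem h2 _)))).mp
      (h0 (hdiv _ _ e))
  have hcB : ∀ a ∈ A, ∀ b ∈ A, ⁅a, b⁆ ∈ π.ker := by
    rintro a ⟨v, hv⟩ b ⟨w, hw⟩
    rw [MonoidHom.mem_ker, map_commutatorElement, ← hv, ← hw, ← map_commutatorElement,
      commutatorElement_eq_one_iff_mul_comm.mpr (mul_comm _ _), map_one]
  let D : Subgroup G := centralizer {u}
  let K : G → Subgroup G := fun b =>
    { carrier := {a | a ∈ A ∧ (b ∈ A → ⁅a, b⁆ ∈ D)}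
      one_mem' := ⟨one_mem _, fun _ => by simp⟩
      mul_mem' := fun {a a'} ha ha' => ⟨mul_mem ha.1 ha'.1, fun hb => by
        have e : ⁅a * a', b⁆ = a * ⁅a', b⁆ * a⁻¹ * ⁅a, b⁆ := by
          simp only [commutatorElement_def]; group
        rw [e, conj_eq_of_mem_Ce (hcent a ha.1) (hcB _ ha'.1 _ hb)]
        exact mul_mem (ha'.2 hb) (ha.2 hb)⟩
      inv_mem' := fun {a} ha => ⟨inv_mem ha.1, fun hb => by
        have e : ⁅a⁻¹, b⁆ = (a⁻¹ * ⁅a, b⁆ * a⁻¹⁻¹)⁻¹ := by
          simp only [commutatorElement_def]; group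
        rw [e, conj_eq_of_mem_Ce (hcent _ (inv_mem ha.1)) (hcB _ ha.1 _ hb)]
        exact inv_mem (ha.2 hb)⟩ }
  have hKB : ∀ b, π.ker ≤ K b := fun b z hz => ⟨hBA hz, fun hb => by
    rw [commutatorElement_eq_one_iff_mul_comm.mpr (hcent b hb z hz)]; exact one_mem _⟩
  have h12 : ⁅e₁, e₂⁆ ∈ D := by
    have z1 := hdiv e₁ (u * e₁ * u⁻¹) (by
      rw [map_mul, map_mul, map_inv, pe₁, hu]; congr 2; ext i; fin_cases i <;> simp [vecHead])
    have z2 := hdiv (e₁ * e₂) (u * e₂ * u⁻¹) (by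
      rw [map_mul, map_mul, map_mul, map_inv, pe₁, pe₂, hu, ← map_mul, ← ofAdd_add]
      congr 2; ext i; fin_cases i <;> simp [vecHead, vecTail])
    obtain ⟨z, hz, e1⟩ : ∃ z ∈ π.ker, u * e₁ * u⁻¹ = e₁ * z := ⟨_, z1, by group⟩
    obtain ⟨z', hz', e2⟩ : ∃ z ∈ π.ker, u * e₂ * u⁻¹ = e₁ * e₂ * z := ⟨_, z2, by group⟩
    rw [mem_centralizer_singleton_iff, eq_comm, ← mul_inv_eq_iff_eq_mul, conjugate_commutatorElement,
      e1, e2]
    have c1 := conj_eq_of_mem_Ce (hcent _ (mul_mem (mul_mem he₁ he₂) (hBA hz'))) hz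
    have c2 := conj_eq_of_mem_Ce (hcent _ (inv_mem he₁)) hz'
    have c3 := conj_eq_of_mem_Ce (hcent _ he₁) (hcB _ he₁ _ he₂)
    calc _ = e₁ * (z * (e₁ * e₂ * z' * z * (e₁ * e₂ * z')⁻¹)⁻¹) * e₁ * e₂ *
          (z' * (e₁⁻¹ * z' * e₁⁻¹⁻¹)⁻¹) * e₁⁻¹ * e₂⁻¹ * e₁⁻¹ := by
          simp only [commutatorElement_def]; group
      _ = e₁ * ⁅e₁, e₂⁆ * e₁⁻¹ := by rw [c1, c2]; simp only [commutatorElement_def]; group
      _ = _ := c3
  have hcD : ∀ a ∈ A, ∀ b ∈ A, ⁅a, b⁆ ∈ D := by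
    have k1 : A ≤ K e₁ := hgen _ (hKB _) ⟨he₁, fun _ => by simp⟩ ⟨he₂, fun _ => by
      rw [← commutatorElement_inv]; exact inv_mem h12⟩
    have k2 : A ≤ K e₂ := hgen _ (hKB _) ⟨he₁, fun _ => h12⟩ ⟨he₂, fun _ => by simp⟩
    intro a ha b hb
    refine (hgen (K b) (hKB _) ⟨he₁, fun _ => ?_⟩ ⟨he₂, fun _ => ?_⟩ ha).2 hb
    · rw [← commutatorElement_inv]; exact inv_mem ((k1 hb).2 he₁)
    · rw [← commutatorElement_inv]; exact inv_mem ((k2 hb).2 he₂)
  set A₁ : Subgroup G := closure {c | c ∈ A ∧ t * c * t⁻¹ = c⁻¹} with hA₁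
  have hA₁A : A₁ ≤ A := (closure_le _).mpr fun c hc => hc.1
  have hNm : ∀ (g : G) (m : SL(2, ZMod p)), ActsVia π ι g m →
      (∀ a ∈ A, t * (g * a * g⁻¹) * t⁻¹ = g * (t * a * t⁻¹) * g⁻¹) → g ∈ Nm A₁ := by
    intro g m hg hgt
    refine mem_normalizer_of_forall fun a ha => ?_
    have : A₁ ≤ A₁.comap (MulAut.conj g).toMonoidHom := (closure_le _).mpr fun c hc =>
      subset_closure ⟨conj_mem_Nm' hg.mem_Nm hc.1, by
        change t * (g * c * g⁻¹) * t⁻¹ = (g * c * g⁻¹)⁻¹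
        rw [hgt c hc.1, hc.2]; group⟩
    exact this ha
  have hdec : ∀ a ∈ A₁, ∃ c ∈ A, t * c * t⁻¹ = c⁻¹ ∧ c⁻¹ * a ∈ π.ker ⊓ D := by
    intro a ha
    induction ha using closure_induction with
    | mem c hc => exact ⟨c, hc.1, hc.2, by simp⟩
    | one => exact ⟨1, one_mem _, by simp, by simp⟩
    | inv a _ ih =>
      obtain ⟨c, hc, ec, hz⟩ := ih
      refine ⟨c⁻¹, inv_mem hc, by rw [conj_inv.symm, ec], ?_⟩
      have := conj_eq_of_mem_Ce (hcent c hc) (π.ker.inv_mem hz.1)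
      rw [show c⁻¹⁻¹ * a⁻¹ = c * (c⁻¹ * a)⁻¹ * c⁻¹ by group, this]
      exact inv_mem hz
    | mul a a' _ _ ih ih' =>
      obtain ⟨c, hc, ec, hz⟩ := ih
      obtain ⟨c', hc', ec', hz'⟩ := ih'
      obtain ⟨v, hv⟩ := mul_mem hc hc'
      obtain ⟨d, hd, ed, pd⟩ := hI v.toAdd
      have pd' : π d = π (c * c') := pd.trans hv
      refine ⟨d, hd, ed, ?_⟩
      have h1 : d⁻¹ * (c * c') ∈ π.ker ⊓ D := by
        refine ⟨hdiv _ _ pd', ?_⟩
        obtain ⟨k, hk⟩ := hker ⟨_, hdiv _ _ pd'⟩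
        refine mem_of_pow_mem_of_coprime (p := 2) (k := 1) (Nat.Coprime.coprime_dvd_left
          (orderOf_dvd_of_pow_eq_one (congrArg Subtype.val hk)) (h2p.symm.pow_left k)) ?_
        rw [pow_one, hsq c c' d hc hc' hd ec ec' ed pd']
        exact hcD c hc c' hc'
      have := conj_eq_of_mem_Ce (hcent _ (inv_mem hc')) hz.1
      rw [show d⁻¹ * (a * a') = d⁻¹ * (c * c') * (c'⁻¹ * (c⁻¹ * a) * c'⁻¹⁻¹) * (c'⁻¹ * a') by group,
        this]
      exact mul_mem (mul_mem h1 hz) hz'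
  let A₀ : Subgroup G :=
    { carrier := {a | ∃ x : ZMod p, π a = ι (.ofAdd ![x, 0])}
      one_mem' := ⟨0, by rw [map_one, ← map_one ι]; congr 1; ext i; fin_cases i <;> rfl⟩
      mul_mem' := by
        rintro a b ⟨x, hx⟩ ⟨y, hy⟩
        refine ⟨x + y, ?_⟩
        rw [map_mul, hx, hy, ← map_mul, ← ofAdd_add]; simp
      inv_mem' := by
        rintro a ⟨x, hx⟩
        refine ⟨-x, ?_⟩
        rw [map_inv, hx, ← map_inv, ← ofAdd_neg]; simp }
  have hfixu : ∀ a ∈ A₁ ⊓ A₀, a ∈ D := by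
    rintro a ⟨ha, x, hx⟩
    obtain ⟨c, hc, ec, hz⟩ := hdec a ha
    have pc : π c = ι (.ofAdd ![x, 0]) := by
      have : c⁻¹ * a ∈ π.ker := hz.1
      rw [MonoidHom.mem_ker, map_mul, map_inv, inv_mul_eq_one] at this
      rw [this, hx]
    have e1 : π (u * c * u⁻¹) = π (c * 1) := by
      rw [mul_one, map_mul, map_mul, map_inv, pc, hu]; congr 2; ext i; fin_cases i <;> simp [vecHead]
    have e2 := hsq c 1 _ hc (one_mem _) (conj_mem_Nm' hu.mem_Nm hc) ec (by simp)
      (by rw [hut c hc, ec]; group) e1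
    rw [commutatorElement_one_right] at e2
    have e3 := hz1 _ (hdiv _ _ e1) 2 h2p e2
    rw [mul_one, inv_mul_eq_one, mul_inv_eq_iff_eq_mul] at e3
    simpa using mul_mem (show c ∈ D from mem_centralizer_singleton_iff.mpr e3.symm) hz.2
  have hA : IsPGroup p A := by
    refine IsPGroup.comap_of_ker_isPGroup ?_ π hker
    rintro ⟨_, v, rfl⟩
    refine ⟨1, Subtype.ext ?_⟩
    change ι v ^ p ^ 1 = 1
    rw [pow_one, ← map_pow, map_eq_one_iff _ hι]
    apply Multiplicative.toAdd.injective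
    ext i; simp
  have huN := hNm u _ hu hut
  have hq : ⁅⁅A₁, zpowers u⁆, zpowers u⁆ = ⊥ := by
    have h1 : ⁅A₁, zpowers u⁆ ≤ A₁ ⊓ A₀ := by
      rw [commutator_le]
      rintro a ha y hy
      obtain ⟨n, rfl⟩ := (mem_powers_iff_mem_zpowers.mpr hy)
      obtain ⟨v, hv⟩ := hA₁A ha
      refine ⟨?_, -(n * 1 * v.toAdd 1), ?_⟩
      · rw [commutatorElement_def, mul_assoc, mul_assoc, ← mul_assoc _ a⁻¹]
        exact mul_mem ha (conj_mem_Nm' (pow_mem huN n) (inv_mem ha))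
      have := hu.pow n (-v.toAdd)
      rw [uMat_pow] at this
      simp only
      rw [map_commutatorElement, commutatorElement_def, mul_assoc, mul_assoc, ← mul_assoc (π (u ^ n)),
        ← hv, ← map_inv ι, ← ofAdd_toAdd v⁻¹, toAdd_inv, this, ← map_mul]
      congr 1
      apply Multiplicative.toAdd.injective
      ext i; fin_cases i <;> simp [vecHead, vecTail]
    rw [commutator_eq_bot_iff_le_centralizer]
    refine h1.trans fun a ha => ?_
    have h2 : zpowers u ≤ centralizer {a} := by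
      rw [zpowers_le, mem_centralizer_singleton_iff]
      exact (mem_centralizer_singleton_iff.mp (hfixu a ha)).symm
    exact fun y hy => mem_centralizer_singleton_iff.mp (h2 hy)
  have hx : u * (n * u * n⁻¹) ∈ conjClosure (Nm A₁) u :=
    mul_mem (mem_conjClosure _ _) (subset_closure ⟨n, hNm n _ hn hnt, rfl⟩)
  obtain ⟨k, hk⟩ := exists_pow_coprime (p := p) (u * (n * u * n⁻¹))
  have h5 := isNormalizerPStable_iff.mp hst _ (hA.to_le hA₁A) u huN hq _ (pow_mem hx _) hk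
  have h6 := (hu.mul ((hn.mul hu).mul hn.inv)).pow (p ^ k)
  have h7 : (uMat 1 * (s * uMat 1 * s⁻¹)) ^ p ^ k = 1 := by
    refine sl_mulVec_faithful _ _ fun v => hι ?_
    obtain ⟨a, haA, ea, ha⟩ := hI v
    have := congrArg π (conj_eq_of_mem_Ce h5 (show a ∈ A₁ from subset_closure ⟨haA, ea⟩))
    rw [map_mul, map_mul, map_inv, ha, h6] at this
    exact this.trans (by simp; rfl)
  have h8 := tr_eq_two_of_pow_eq_one p h7
  rw [tr_uMat_mul, tr_conj, tr_uMat, conj_uMat_10] at h8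
  simp [s] at h8

/-- Two elements acting quadratically on `Q` modulo a subgroup centralized by the
`p'`-elements. -/
theorem not_stable_of_quad_mod_odd (hp : p ≠ 2) {G : Type*} [Group G] [Finite G] (Q T : Subgroup G)
    [Q.Normal] (hQ : IsPGroup p Q) (hT : ∀ g : G, (orderOf g).Coprime p → g ∈ Ce T) {a b : G}
    (hgen : Q ⊔ closure {a, b} = ⊤) (qa : ⁅⁅Q, zpowers a⁆, zpowers a⁆ ≤ T)
    (qb : ⁅⁅Q, zpowers b⁆, zpowers b⁆ ≤ T) (hnp : ¬ pResidual p G ≤ Ce Q) :
    ¬ IsNormalizerPStable p G := by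
  have hpp : p.Prime := Fact.out
  set L := pResidual p G with hL
  have hLn : L.Normal := pResidual_normal
  have hLcl : ∀ K : Subgroup G, (∀ g : G, (orderOf g).Coprime p → g ∈ K) → L ≤ K :=
    fun K hK => (closure_le K).mpr hK
  obtain ⟨R, ⟨hRn, hRQ, hRL⟩, hmin⟩ := exists_minimal_of_wellFoundedLT
    (fun R : Subgroup G => R.Normal ∧ R ≤ Q ∧ ¬ L ≤ Ce R) ⟨Q, inferInstance, le_rfl, hnp⟩
  have hR := hQ.to_le hRQ
  set B := R ⊓ Ce L with hB
  have hBn : B.Normal := inferInstance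
  have hlt : ∀ K : Subgroup G, K.Normal → K < R → K ≤ B := fun K hK h =>
    le_inf h.le (le_centralizer_iff.mp (by
      by_contra hc
      exact h.not_ge (hmin ⟨hK, h.le.trans hRQ, hc⟩ h.le)))
  have hR1 : R ≠ ⊥ := fun h => hRL (by rw [h]; intro x _ y hy; simp [mem_bot.mp hy])
  have hcop : ∀ g : G, (orderOf g).Coprime p → ⁅R, zpowers g⁆ ≤ B → g ∈ Ce R := by
    intro g hg h
    have h1 : zpowers g ≤ L := zpowers_le.mpr (mem_pResidual_of_coprime hg)
    refine H1.commutator_eq_bot_iff_le_centralizer'.mp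
      (H1.commutator_eq_bot_of_commutator_commutator_eq_bot le_normalizer_of_normal
        (H1.coprime_card_of_isPGroup hR (by rwa [Nat.card_zpowers])) (Or.inl inferInstance) ?_)
      (mem_zpowers g)
    rw [commutator_eq_bot_iff_le_centralizer]
    exact h.trans (inf_le_right.trans (centralizer_le h1))
  have hRQB : ⁅R, Q⁆ ≤ B := by
    refine hlt _ inferInstance (lt_of_le_of_ne (commutator_le_left R Q) fun h => hR1 ?_)
    exact H1.eq_bot_of_le_commutator hQ.isNilpotent hRQ le_rfl h.ge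
  have hRL' : ⁅R, L⁆ = R := by
    by_contra h
    have h1 := hlt _ inferInstance (lt_of_le_of_ne (commutator_le_left R L) h)
    exact hRL (hLcl _ fun g hg => hcop g hg
      ((commutator_mono le_rfl (zpowers_le.mpr (mem_pResidual_of_coprime hg))).trans h1))
  have hRB : R ≤ Ce B := by
    rw [← commutator_eq_bot_iff_le_centralizer, ← hRL']
    refine commutator_commutator_eq_bot_of_rotate ?_ ?_
    · rw [H1.commutator_eq_bot_iff_le_centralizer'.mpr (inf_le_right : B ≤ Ce L),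
        commutator_bot_left]
    · rw [commutator_eq_bot_iff_le_centralizer]
      exact (commutator_le_left B R).trans inf_le_right
  let π := QuotientGroup.mk' B
  have hπ : Function.Surjective π := QuotientGroup.mk'_surjective B
  have hker : π.ker = B := QuotientGroup.ker_mk' B
  have hN : (R.map π).Normal := Normal.map inferInstance π hπ
  have hq : ∀ c : G, ⁅⁅Q, zpowers c⁆, zpowers c⁆ ≤ T →
      ⁅⁅R.map π, zpowers (π c)⁆, zpowers (π c)⁆ = ⊥ := by
    intro c hc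
    rw [← MonoidHom.map_zpowers, ← map_commutator, ← map_commutator, Subgroup.map_eq_bot_iff, hker]
    refine le_inf ((commutator_mono (commutator_le_left _ _) le_rfl).trans
      (commutator_le_left _ _)) ?_
    exact ((commutator_mono (commutator_mono hRQ le_rfl) le_rfl).trans hc).trans
      (le_centralizer_iff.mp (hLcl _ hT))
  have hcomm : ∀ x ∈ R, ∀ y ∈ Q, π x * π y = π y * π x := fun x hx y hy => by
    rw [← commutatorElement_eq_one_iff_mul_comm, ← map_commutatorElement]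
    exact (QuotientGroup.eq_one_iff _).mpr (hRQB (commutator_mem_commutator hx hy))
  have hV : IsElementaryAbelian p (R.map π) := by
    refine ⟨⟨⟨?_⟩⟩, ?_⟩
    · rintro ⟨_, x, hx, rfl⟩ ⟨_, y, hy, rfl⟩
      exact Subtype.ext (hcomm x hx y (hRQ hy))
    · rintro _ ⟨x, hx, rfl⟩
      rw [← map_pow]
      refine (QuotientGroup.eq_one_iff _).mpr (hlt ((frattini R).map R.subtype) inferInstance
        (lt_of_le_of_ne (map_subtype_le _) fun h => hR1 ?_)
        ⟨_, H3.pow_mem_frattini_pgroup hR ⟨x, hx⟩, rfl⟩)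
      have h1 : frattini R = ⊤ := by
        apply Subgroup.map_injective R.subtype_injective
        rw [h, ← MonoidHom.range_eq_map, range_subtype]
      have h2 : (⊥ : Subgroup R) = ⊤ := frattini_nongenerating (by rw [h1, sup_top_eq])
      rw [← Subgroup.range_subtype R, MonoidHom.range_eq_map, ← h2, Subgroup.map_bot]
  obtain ⟨g, hg, hgR⟩ : ∃ g : G, (orderOf g).Coprime p ∧ g ∉ Ce R := by
    by_contra hc
    push Not at hc
    exact hRL (hLcl _ hc)
  obtain ⟨ι, hι, hιV, h⟩ := quad_ambient hp (R.map π) hV (a := π a) (b := π b)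
    (le_normalizer_of_normal (mem_top _)) (le_normalizer_of_normal (mem_top _)) (hq a qa) (hq b qb)
    (by
      obtain ⟨y, hy, l, hl, rfl⟩ := mem_sup_of_normal_left.mp (hgen ▸ mem_top g)
      refine ⟨π l, ?_, fun k e => hgR (mem_of_pow_mem_of_coprime (k := k) hg ?_)⟩
      · have := mem_map_of_mem π hl
        rwa [MonoidHom.map_closure, Set.image_pair] at this
      · refine hcop _ (Nat.Coprime.coprime_dvd_left (orderOf_pow_dvd _) hg) ?_
        have hCn : (centralizer (R.map π : Set (G ⧸ B))).Normal := inferInstance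
        have h1 : π y ∈ centralizer (R.map π : Set (G ⧸ B)) := by
          rintro _ ⟨x, hx, rfl⟩; exact hcomm x hx y hy
        have h2 : π ((y * l) ^ p ^ k) ∈ centralizer (R.map π : Set (G ⧸ B)) := by
          rw [← QuotientGroup.eq_one_iff] at e h1 ⊢
          rw [map_pow, map_mul, QuotientGroup.mk_pow, QuotientGroup.mk_mul, h1, one_mul,
            ← QuotientGroup.mk_pow, e]
        rw [← hker, ← Subgroup.map_eq_bot_iff, map_commutator, MonoidHom.map_zpowers]
        exact H1.commutator_eq_bot_iff_le_centralizer'.mpr (zpowers_le.mpr h2))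
  refine not_stable_of_central_nat_odd hp π ι hι (by rw [hker]; exact hR.to_inf_left)
    (fun v => hπ _) (fun x hx => ?_) (fun x hx => ?_) fun m => ?_
  · obtain ⟨v, hv⟩ := hx
    obtain ⟨y, hy, e⟩ := hιV v
    have : x ∈ (R.map π).comap π := ⟨y, hy, e.trans hv⟩
    rw [comap_map_eq, hker, sup_of_le_left (inf_le_left : B ≤ R)] at this
    rw [hker]; exact hRB this
  · rw [hker]
    exact le_centralizer_iff.mp (inf_le_right : B ≤ Ce L) (mem_pResidual_of_coprime hx)
  · obtain ⟨x, -, e⟩ := h m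
    obtain ⟨x, rfl⟩ := hπ x
    exact ⟨x, e⟩

/-- For odd `p`, normalizer-form `p`-stability passes to the quotient by a normal `p`-subgroup
centralized by the `p'`-elements. -/
theorem isNormalizerPStable_of_central_ker_odd (hp : p ≠ 2) {G H : Type*} [Group G] [Finite G]
    [Group H] (hst : IsNormalizerPStable p G) (f : G →* H) (hf : Function.Surjective f)
    (hk : IsPGroup p f.ker) (hT : ∀ g : G, (orderOf g).Coprime p → g ∈ Ce f.ker) :
    IsNormalizerPStable p H := by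
  have : Finite H := Finite.of_surjective f hf
  intro Q hQ x hx hq
  by_contra hna
  obtain ⟨y, h, hh, hk'⟩ := exists_conj_not_pgroup (p := p) _ (QuotientGroup.mk'_surjective _) hna
  obtain ⟨a, rfl⟩ := hf x
  obtain ⟨b, hb⟩ := hf (y * ⟨f a, hx⟩ * y⁻¹ : normalizer (Q : Set H))
  have hbN : f b ∈ Nm Q := hb ▸ (y * ⟨f a, hx⟩ * y⁻¹).2
  have qb : ⁅⁅Q, zpowers (f b)⁆, zpowers (f b)⁆ = ⊥ := hb ▸ quad_conj y.2 hq
  set Q' := Q.comap f with hQ'
  set M := Q' ⊔ closure {a, b} with hM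
  have haM : a ∈ M := mem_sup_right (subset_closure (Or.inl rfl))
  have hbM : b ∈ M := mem_sup_right (subset_closure (Or.inr rfl))
  have hMN : M ≤ Nm Q' := sup_le le_normalizer ((closure_le _).mpr (by
    rintro _ (rfl | rfl)
    · exact comap_Nm_le f Q hx
    · exact comap_Nm_le f Q hbN))
  have hn : (Q'.subgroupOf M).Normal := normal_subgroupOf_of_le_normalizer hMN
  have hcl : (closure {(⟨a, haM⟩ : M), ⟨b, hbM⟩}).map M.subtype = closure {a, b} := by
    rw [MonoidHom.map_closure, Set.image_pair]; rfl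
  have hq' : ∀ (c : G) (hc : c ∈ M), ⁅⁅Q, zpowers (f c)⁆, zpowers (f c)⁆ = ⊥ →
      ⁅⁅Q'.subgroupOf M, zpowers (⟨c, hc⟩ : M)⁆, zpowers (⟨c, hc⟩ : M)⁆ ≤ f.ker.subgroupOf M := by
    intro c hc h
    rw [subgroupOf, subgroupOf, MonoidHom.comap_ker, ← Subgroup.map_eq_bot_iff, map_commutator,
      map_commutator, MonoidHom.map_zpowers, eq_bot_iff, ← h, hQ', comap_comap]
    exact commutator_mono (commutator_mono (map_comap_le _ _) le_rfl) le_rfl
  refine not_stable_of_quad_mod_odd hp (Q'.subgroupOf M) (f.ker.subgroupOf M)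
    (hQ.comap_of_ker_isPGroup f hk).comap_subtype (fun g hg => ?_) (a := ⟨a, haM⟩) (b := ⟨b, hbM⟩)
    ?_ (hq' a haM hq) (hq' b hbM qb) (fun hc => ?_)
    (isNormalizerPStable_of_injective hst M.subtype M.subtype_injective)
  · intro z hz
    exact Subtype.ext (hT g (by simpa using hg) z hz)
  · apply Subgroup.map_injective M.subtype_injective
    rw [Subgroup.map_sup, hcl, map_subgroupOf_eq_of_le (le_sup_left : Q' ≤ M),
      ← MonoidHom.range_eq_map, range_subtype]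
  · have h1 : (h : H) ∈ (closure {a, b}).map f := by
      have := mem_map_of_mem (normalizer (Q : Set H)).subtype hh
      rw [MonoidHom.map_closure, Set.image_pair] at this
      rw [MonoidHom.map_closure, Set.image_pair, hb]
      exact this
    obtain ⟨g, hg, e⟩ := h1
    obtain ⟨k, hk2⟩ := exists_pow_coprime (p := p) (⟨g, mem_sup_right hg⟩ : M)
    have h2 := hc (mem_pResidual_of_coprime hk2)
    refine hk' k ((QuotientGroup.eq_one_iff _).mpr fun z hz => ?_)
    obtain ⟨z, rfl⟩ := hf z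
    have h3 := congrArg (f.comp M.subtype) (h2 ⟨z, mem_sup_left hz⟩ hz)
    simpa [e] using h3

/-- Control of strong fusion in `p`-stable groups, `p` odd. -/
theorem ctrl_zjD_of_stable_odd (hp : p ≠ 2) {e : ℕ} (he : p ∣ e) {G : Type u} [Group G] [Finite G]
    (hG : IsNormalizerPStable p G) (P : Sylow p G) {D : Subgroup G}
    (hD : IsStronglyClosed D P) : Ctrl (Nm (zj e D)) P ⊤ :=
  ctrl_of_normal_charP (finFunctor_zj he) False (fun G _ => IsNormalizerPStable p G)
    (fun _ _ _ U h => isNormalizerPStable_of_injective h U.subtype U.subtype_injective)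
    (fun G _ _ h => isNormalizerPStable_of_coprime_ker h _ (QuotientGroup.mk'_surjective _)
      (H10.coprime_card_ker_mk'_pPrimeCore p G))
    (fun G _ _ P hP h => isNormalizerPStable_of_central_ker_odd hp h _ (QuotientGroup.mk'_surjective _)
      (by rw [QuotientGroup.ker_mk']; exact H2.pCore_isPGroup p G)
      fun g hg => by rw [QuotientGroup.ker_mk']; exact coprime_mem_Ce_of_sup P.2 hP hg)
    (fun _ _ _ P _ h hc hD _ => zjD_normal hp e P hD hc
      (weakStable_of_isNormalizerPStable P h))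
    G hG P D hD False.elim

end H93
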