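import Cfsg.Agent.H93.Stab
import Cfsg.Agent.H94.Factor
import Cfsg.Agent.H94.Real
import Cfsg.Agent.H92.Normal

/-! `p`-stable fusion systems. -/

set_option autoImplicit false

namespace H93

open Cfsg Cfsg.FusionSystem Subgroup H92
open scoped commutatorElement

section fus

variable {Ω : Type*} [Group Ω] {S T : Subgroup Ω} {p : ℕ} {F : FusionSystem S}
  {E : FusionSystem T} {P Q R : Subgroup Ω} {f : Ω → Ω}

/-- `χ` acts quadratically. -/
def QuadAut {Q : Subgroup Ω} (χ : MulAut Q) : Prop := ∀ x ∈ Q, af χ (x⁻¹ * af χ x) = x⁻¹ * af χ x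

theorem quadAut_iff {χ : MulAut Q} :
    (∀ a : Q, χ a⁻¹ * a * χ a⁻¹ * χ (χ a) = 1) ↔ QuadAut χ := by
  have key : ∀ a : Q, χ a⁻¹ * a * χ a⁻¹ * χ (χ a) = 1 ↔ χ (a⁻¹ * χ a) = a⁻¹ * χ a := fun a => by
    rw [map_mul, map_inv, mul_assoc, mul_eq_one_iff_inv_eq, eq_comm]
    simp
  simp only [key]
  refine ⟨fun h x hx => ?_, fun h a => Subtype.ext ?_⟩
  · have := congrArg Subtype.val (h ⟨x, hx⟩)
    rw [← af_coe] at this
    simpa [af_of_mem χ hx] using this
  · have := h a a.2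
    rw [← af_coe]
    simpa using this

/-- Quadratic automorphisms of `Q` lie in the `p`-core of the automizer. -/
def StabAt (p : ℕ) (F : FusionSystem S) (Q : Subgroup Ω) : Prop :=
  ∀ χ ∈ F.autGroup Q, QuadAut χ → χ ∈ pCoreOf p (F.autGroup Q)

/-- `p`-stability of a fusion system, in the form of the statements. -/
def FStab (p : ℕ) (F : FusionSystem S) : Prop :=
  ∀ Q : Subgroup Ω, F.IsFullyNormalized Q → ∀ χ : MulAut Q, χ ∈ F.autGroup Q →
    (∀ a : Q, (χ a⁻¹) * a * (χ a⁻¹) * (χ (χ a)) = 1) →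
      χ ∈ ((pCore p (F.autGroup Q)).map (F.autGroup Q).subtype : Subgroup (MulAut Q))

theorem fStab_iff' : FStab p F ↔ ∀ Q, F.IsFullyNormalized Q → StabAt p F Q := by
  simp only [FStab, quadAut_iff]
  rfl

theorem StabAt.of_isConj (h : StabAt p F Q) (hc : F.IsConj P Q) : StabAt p F P := by
  obtain ⟨f, hf, e⟩ := isConj_iff.1 hc
  intro χ hχ hq
  have := h _ ((hf.tr_mem_iff e).2 hχ) fun y hy => by
    rw [← e] at hy
    obtain ⟨x, hx, rfl⟩ := hf.mem_img.1 hy
    have h1 := mul_mem (inv_mem hx) (af_mem χ hx)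
    rw [hf.af_tr e χ hx, ← hf.map_inv hx, ← hf.map_mul (inv_mem hx) (af_mem χ hx),
      hf.af_tr e χ h1, hq x hx]
  rw [← hf.map_tr_pCoreOf e] at this
  obtain ⟨ψ, hψ, e'⟩ := this
  rwa [← (hf.tr e).injective e']

theorem fStab_iff [Finite S] : FStab p F ↔ ∀ Q ≤ S, StabAt p F Q := by
  rw [fStab_iff']
  refine ⟨fun h Q hQ => ?_, fun h Q hQ => h Q hQ.1⟩
  obtain ⟨R, hc, hR⟩ := exists_fullyNormalized F hQ
  exact (h R hR).of_isConj hc

theorem StabAt.of_sub (h : StabAt p F Q) (hE : E.IsSubsystemOf F) : StabAt p E Q :=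
  fun χ hχ hq => le_pCoreOf (B := E.autGroup Q) (N := pCoreOf p (F.autGroup Q) ⊓ E.autGroup Q)
    inf_le_right (fun _ hb _ hn => ⟨conj_mem_pCoreOf (autGroup_mono hE Q hb) hn.1,
      (E.autGroup Q).mul_mem ((E.autGroup Q).mul_mem hb hn.2) ((E.autGroup Q).inv_mem hb)⟩) ((isPGroup_pCoreOf p _).to_le inf_le_left)
    ⟨h χ (autGroup_mono hE Q hχ) hq, hχ⟩

theorem FStab.of_sub [Finite S] (h : FStab p F) (hE : E.IsSubsystemOf F) : FStab p E :=
  fStab_iff'.2 fun Q hQ => (fStab_iff.1 h Q (hQ.1.trans (le_of_isSubsystemOf hE))).of_sub hE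

theorem QuadAut.exists_pow [Finite Q] [Fact p.Prime] (hQ : IsPGroup p Q) {χ : MulAut Q}
    (h : QuadAut χ) : ∃ k, χ ^ p ^ k = 1 := by
  obtain ⟨k, hk⟩ := hQ.exists_card_eq
  refine ⟨k, aut_eq_one fun x hx => ?_⟩
  rw [af_pow_of_fix hx (h x hx), ← hk]
  have := congrArg Subtype.val (pow_card_eq_one' (x := (⟨_, mul_mem (inv_mem hx) (af_mem χ hx)⟩ : Q)))
  rw [show (x⁻¹ * af χ x) ^ Nat.card Q = 1 from this, mul_one]

theorem stabAt_of_isCyclic [Finite Q] [Fact p.Prime] (hQ : IsPGroup p Q) [IsCyclic Q] :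
    StabAt p F Q := fun χ hχ hq => by
  obtain ⟨k, hk⟩ := hq.exists_pow hQ
  refine le_pCoreOf (zpowers_le.2 hχ) (fun b _ n hn => ?_) (isPGroup_zpowers hk) (mem_zpowers χ)
  have : b * n = n * b := (IsCyclic.mulAutMulEquiv Q).injective (by
    rw [map_mul, map_mul, mul_comm])
  rwa [this, mul_inv_cancel_right]

variable [Finite S] [Fact p.Prime]

theorem fStab_iff_noncyclic (hS : IsPGroup p S) :
    FStab p F ↔ ∀ R, F.IsFullyNormalized R → ¬ IsCyclic R →
      ∀ N : FusionSystem (normalizerIn S R), F.IsNormalizerSystem R N → FStab p N := by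
  refine ⟨fun h R _ _ N hN => h.of_sub (H94.normSys_sub hN), fun h => fStab_iff'.2 fun Q hQ => ?_⟩
  have := finite_of_le hQ.1
  by_cases hc : IsCyclic Q
  · exact stabAt_of_isCyclic (hS.to_le hQ.1)
  · have hN := isNormalizerSystem_normSys F Q hQ.1
    have := finite_of_le (normalizerIn_le S Q)
    have := fStab_iff.1 (h Q hQ hc _ hN) Q (le_normalizerIn hQ.1)
    rwa [StabAt, H94.autGroup_normSys hN] at this

/-- All automorphisms of a conjugate of `Q` extend to a centric radical subgroup. -/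
theorem exists_radical_ext (hS : IsPGroup p S) (hF : F.IsSaturated p) (hQ : Q ≤ S) :
    ∃ P R, F.IsConj Q P ∧ P ≤ R ∧ F.IsFullyNormalized R ∧ F.IsCentric R ∧ F.IsRadical p R ∧
      ∀ f, Mor F P f → img P f = P → ∃ g, Mor F R g ∧ img R g = R ∧ ∀ x ∈ P, g x = f x := by
  have key := induction_on_card_ge S (fun R => F.IsCentric R → ∀ P, F.IsConj Q P → P ≤ R →
    (∀ f, Mor F P f → img P f = P → ∃ g, Mor F R g ∧ img R g = R ∧ ∀ x ∈ P, g x = f x) →
    ∃ P R, F.IsConj Q P ∧ P ≤ R ∧ F.IsFullyNormalized R ∧ F.IsCentric R ∧ F.IsRadical p R ∧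
      ∀ f, Mor F P f → img P f = P → ∃ g, Mor F R g ∧ img R g = R ∧ ∀ x ∈ P, g x = f x) (by
    intro R hR ih hc P hP hPR hext
    obtain ⟨R', hc', hR'⟩ := exists_fullyNormalized F hR
    obtain ⟨φ, hφ, rfl⟩ := isConj_iff.1 hc'
    obtain ⟨ψ, hψ, e1, e2⟩ := hφ.exists_inv
    have hcc := isCentric_of_isConj hc' hc
    have hP' := isConj_trans hP (hφ.mono hPR).isConj
    have hle : img P φ ≤ img R φ := img_mono φ hPR
    have hext' : ∀ f, Mor F (img P φ) f → img (img P φ) f = img P φ →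
        ∃ g, Mor F (img R φ) g ∧ img (img R φ) g = img R φ ∧ ∀ x ∈ img P φ, g x = f x := by
      intro f hf e
      have hm : ∀ x ∈ P, f (φ x) ∈ img P φ := fun x hx => e ▸ mem_img_of_mem f (mem_img_of_mem φ hx)
      have h1 : Mor F P fun x => ψ (f (φ x)) :=
        ((hφ.mono hPR).comp hf fun x hx => mem_img_of_mem φ hx).comp hψ fun x hx => hle (hm x hx)
      obtain ⟨g, hg, eg, eg'⟩ := hext _ h1 (h1.img_eq_of_maps fun x hx => by
        obtain ⟨y, hy, e'⟩ := (hφ.mono hPR).mem_img.1 (hm x hx)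
        rw [← e', e1 y (hPR hy)]; exact hy)
      have hm2 : ∀ x ∈ img R φ, ψ x ∈ R := fun x hx => by
        obtain ⟨y, hy, rfl⟩ := hφ.mem_img.1 hx
        rw [e1 y hy]; exact hy
      have hm3 : ∀ x ∈ img R φ, g (ψ x) ∈ R := fun x hx => eg ▸ mem_img_of_mem g (hm2 x hx)
      have h2 : Mor F (img R φ) fun x => φ (g (ψ x)) := (hψ.comp hg hm2).comp hφ hm3
      refine ⟨_, h2, h2.img_eq_of_maps fun x hx => mem_img_of_mem φ (hm3 x hx), fun x hx => ?_⟩
      obtain ⟨y, hy, rfl⟩ := (hφ.mono hPR).mem_img.1 hx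
      obtain ⟨w, hw, e'⟩ := hφ.mem_img.1 (hle (hm y hy))
      rw [e1 y (hPR hy), eg' y hy, ← e', e1 w hw]
    by_cases hr : F.IsRadical p (img R φ)
    · exact ⟨_, _, hP', hle, hR', hcc, hr, hext'⟩
    have hN := isNormalizerSystem_normSys F _ hR'.1
    obtain ⟨U, hU, hUn⟩ := H94.exists_normal_gt_of_not_radical hS hF hR' hcc hr hN
    have hUS : U ≤ S := hUn.1.trans (normalizerIn_le _ _)
    refine ih U hUS (hφ.card_img ▸ card_lt_of_lt' hUS hU) (isCentric_of_le hcc hU.le hUS) _ hP'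
      (hle.trans hU.le) fun f hf e => ?_
    obtain ⟨g, hg, eg, eg'⟩ := hext' f hf e
    obtain ⟨k, hk, ek, ek'⟩ := (isNormal_iff.1 hUn).2 _ _
      (H94.mor_norm_of hN hg le_rfl eg le_rfl (le_normalizerIn hR'.1))
    exact ⟨k, (hk.of_sub (H94.normSys_sub hN)).mono le_sup_right, ek',
      fun x hx => (ek x (hle hx)).trans (eg' x hx)⟩)
  obtain ⟨P, hc, hP⟩ := exists_fullyCentralized F hQ
  have hle : P ⊔ centralizerIn S P ≤ S := sup_le hP.1 (centralizerIn_le _ _)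
  refine key (P ⊔ centralizerIn S P) hle ?_ P hc le_sup_left fun f hf e => ?_
  · refine ⟨hle, fun R' hR' => ?_⟩
    obtain ⟨g, hg, rfl⟩ := isConj_iff.1 hR'
    refine (centralizerIn_anti S (img_mono g le_sup_left)).trans ?_
    rw [← img_centralizerIn_eq hP hg le_sup_left le_sup_right]
    exact img_mono g le_sup_right
  · obtain ⟨g, hg, eg⟩ := exists_ext_sup_centralizer hS hF hf (e.symm ▸ hP)
    refine ⟨g, hg, hg.img_eq_of_maps fun x hx => ?_, eg⟩
    have e' : img P g = P := (img_congr eg).trans e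
    have := mem_img_of_mem g hx
    rw [hg.img_sup le_sup_left le_sup_right, img_centralizerIn_eq hP hg le_sup_left le_sup_right,
      e'] at this
    exact this

theorem fStab_iff_radical (hS : IsPGroup p S) (hF : F.IsSaturated p) :
    FStab p F ↔ ∀ R, F.IsFullyNormalized R → F.IsCentric R → F.IsRadical p R →
      ∀ N : FusionSystem (normalizerIn S R), F.IsNormalizerSystem R N → FStab p N := by
  refine ⟨fun h R _ _ _ N hN => h.of_sub (H94.normSys_sub hN),
    fun h => fStab_iff.2 fun Q hQ => ?_⟩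
  obtain ⟨P, R, hc, hPR, h1, h2, h3, hext⟩ := exists_radical_ext hS hF hQ
  have hN := isNormalizerSystem_normSys F R h1.1
  have := finite_of_le (normalizerIn_le S R)
  have hPN := hPR.trans (le_normalizerIn h1.1)
  have h4 := fStab_iff.1 (h R h1 h2 h3 _ hN) P hPN
  have e : (normSys F R h1.1).autGroup P = F.autGroup P :=
    le_antisymm (autGroup_mono (H94.normSys_sub hN) P) fun α hα => by
      obtain ⟨g, hg, eg, eg'⟩ := hext _ (mor_af (isConj_le_right hc) hα) (img_af α)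
      exact (H94.mor_norm_of hN hg le_rfl eg hPR hPN).mem_autGroup fun x hx => (eg' x hx).symm
  rw [StabAt, e] at h4
  exact StabAt.of_isConj h4 hc

end fus

section grp

open H13

universe u

variable {p : ℕ} [Fact p.Prime]

theorem mem_pCoreOf_iff_conjClosure {G : Type*} [Group G] [Finite G] {A : Subgroup G} {χ : G}
    (hχ : χ ∈ A) : χ ∈ pCoreOf p A ↔ ∀ x ∈ conjClosure A χ, (orderOf x).Coprime p → x = 1 := by
  refine ⟨fun h x hx hc => ?_, fun h => le_pCoreOf (conjClosure_le hχ le_normalizer)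
    (fun b hb n hn => (mem_normalizer_iff.1 (le_Nm_conjClosure A χ hb) n).1 hn)
    (isPGroup_of_forall_coprime h) (mem_conjClosure A χ)⟩
  have := conjClosure_le h (fun b hb => H7.mem_normalizer_of_forall fun n hn =>
    conj_mem_pCoreOf hb hn) hx
  obtain ⟨k, hk⟩ := isPGroup_iff_forall.1 (isPGroup_pCoreOf p A) x this
  exact eq_one_of_coprime_of_pow hc hk

variable {G : Type u} [Group G] [Finite G]

omit [Fact p.Prime] in
theorem quadAut_cAut {Q : Subgroup G} {g : G} (hg : g ∈ H16.Nm Q) :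
    QuadAut (cAut Q g hg) ↔ ⁅⁅Q, zpowers g⁆, zpowers g⁆ = ⊥ := by
  constructor
  · intro h
    rw [commutator_eq_bot_iff_le_centralizer, zpowers_eq_closure, centralizer_closure,
      ← zpowers_eq_closure, commutator_le]
    intro a ha y hy
    obtain ⟨n, rfl⟩ := mem_powers_iff_mem_zpowers.2 hy
    have h1 := af_pow_of_fix (Q.inv_mem ha) (h _ (Q.inv_mem ha)) n
    have h2 := h _ (Q.inv_mem ha)
    rw [af_cAut hg (Q.mul_mem (Q.inv_mem (Q.inv_mem ha)) (af_mem _ (Q.inv_mem ha)))] at h2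
    rw [show cAut Q g hg ^ n = cAut Q (g ^ n) (pow_mem hg n) from (map_pow _ _ _).symm,
      af_cAut _ (Q.inv_mem ha)] at h1
    have h3 : ⁅a, g ^ n⁆ = (a⁻¹⁻¹ * af (cAut Q g hg) a⁻¹) ^ n := by
      rw [commutatorElement_def, mul_assoc, mul_assoc, ← mul_assoc (g ^ n), h1,
        mul_inv_cancel_left]
    simp only
    rw [h3]
    exact pow_mem (mem_centralizer_singleton_iff.2 (mul_inv_eq_iff_eq_mul.1 h2).symm) n
  · intro h x hx
    rw [af_cAut hg (Q.mul_mem (Q.inv_mem hx) (af_mem _ hx)), af_cAut hg hx]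
    have := commutator_eq_bot_iff_le_centralizer.1 h
      (commutator_mem_commutator (Q.inv_mem hx) (mem_zpowers g)) g (mem_zpowers g)
    rw [commutatorElement_def, inv_inv] at this
    rw [mul_inv_eq_iff_eq_mul]
    simpa only [mul_assoc] using this

/-- The group form of stability at `Q`. -/
def GStabAt (p : ℕ) (Q : Subgroup G) : Prop :=
  ∀ g ∈ H16.Nm Q, ⁅⁅Q, zpowers g⁆, zpowers g⁆ = ⊥ →
    ∀ x ∈ conjClosure (H16.Nm Q) g, (orderOf x).Coprime p → x ∈ H16.Ce Q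

theorem stabAt_group_iff {S Q : Subgroup G} (hQ : Q ≤ S) :
    StabAt p (groupFusionSystem S) Q ↔ GStabAt p Q := by
  have hA : (groupFusionSystem S).autGroup Q = (⊤ : Subgroup (H16.Nm Q)).map Q.normalizerMonoidHom := by
    rw [H94.groupFusionSystem_eq, H94.autGroup_fos hQ, H94.autInducedBy_eq_map, top_subgroupOf]
  have hN : (⊤ : Subgroup (H16.Nm Q)).map (H16.Nm Q).subtype = H16.Nm Q := by
    rw [← MonoidHom.range_eq_map, range_subtype]
  have hK : ∀ x : H16.Nm Q, Q.normalizerMonoidHom x = 1 ↔ (x : G) ∈ H16.Ce Q := fun x => by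
    rw [← MonoidHom.mem_ker, normalizerMonoidHom_ker, mem_subgroupOf]
  rw [StabAt, hA]
  constructor
  · intro h g hg hq x hx hc
    have h1 := h (cAut Q g hg) ⟨_, mem_top _, rfl⟩ ((quadAut_cAut hg).2 hq)
    rw [cAut, mem_pCoreOf_iff_conjClosure (mem_map_of_mem _ (mem_top (⟨g, hg⟩ : H16.Nm Q)))] at h1
    rw [← hN, show g = (H16.Nm Q).subtype ⟨g, hg⟩ from rfl, ← map_conjClosure] at hx
    obtain ⟨y, hy, rfl⟩ := hx
    refine (hK y).1 (h1 _ ?_ ?_)
    · rw [← map_conjClosure]; exact mem_map_of_mem _ hy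
    · exact Nat.Coprime.coprime_dvd_left (orderOf_map_dvd _ _) (by simpa using hc)
  · rintro h _ ⟨⟨g, hg⟩, -, rfl⟩ hq
    rw [mem_pCoreOf_iff_conjClosure (mem_map_of_mem _ (mem_top (⟨g, hg⟩ : H16.Nm Q))),
      ← map_conjClosure]
    rintro _ ⟨y, hy, rfl⟩ hc
    obtain ⟨k, hk⟩ := H7.exists_pow_coprime (p := p) y
    refine eq_one_of_coprime_of_pow hc (k := k) ?_
    rw [← map_pow, hK]
    refine h g hg ((quadAut_cAut hg).1 hq) _ ?_ (by rwa [orderOf_coe])
    have := mem_map_of_mem (H16.Nm Q).subtype (pow_mem hy (p ^ k))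
    rwa [map_conjClosure, hN] at this

omit [Fact p.Prime] [Finite G] in
theorem GStabAt.of_cj {Q : Subgroup G} {t : G} (h : GStabAt p (H16.cj t Q)) : GStabAt p Q := by
  intro g hg hq x hx hc
  have h1 := h (t * g * t⁻¹) (by rw [H16.Nm_cj, H16.mem_cj]; simpa [mul_assoc] using hg) (by
    rw [show zpowers (t * g * t⁻¹) = H16.cj t (zpowers g) by
      rw [H16.cj_eq_map, MonoidHom.map_zpowers]; rfl, ← H16.cj_commutator, ← H16.cj_commutator,
      hq, H16.cj_eq_bot_iff]) (t * x * t⁻¹) (by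
    have := mem_map_of_mem (MulAut.conj t).toMonoidHom hx
    rwa [map_conjClosure, ← H16.cj_eq_map, ← H16.Nm_cj] at this)
    (by rwa [show t * x * t⁻¹ = MulAut.conj t x from rfl, MulEquiv.orderOf_eq])
  rw [H16.Ce_cj, H16.mem_cj] at h1
  simpa [mul_assoc] using h1

theorem stable_iff_fStab (P : Sylow p G) :
    IsNormalizerPStable p G ↔ FStab p (groupFusionSystem (P : Subgroup G)) := by
  rw [isNormalizerPStable_iff, fStab_iff]
  refine ⟨fun h Q hQ => (stabAt_group_iff hQ).2 (h Q (P.isPGroup'.to_le hQ)), fun h Q hQ => ?_⟩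
  obtain ⟨R, hR⟩ := hQ.exists_le_sylow
  obtain ⟨t, rfl⟩ := MulAction.exists_smul_eq G R P
  have h1 : H16.cj t Q ≤ ((t • R : Sylow p G) : Subgroup G) := H16.cj_mono t hR
  exact GStabAt.of_cj ((stabAt_group_iff h1).1 (h _ h1))

theorem exists_ctrl_gt (hp : p ≠ 2) (hst : IsNormalizerPStable p G) (P : Sylow p G)
    {Q : Subgroup G} [Q.Normal] (hQ : Q ≤ P) (hc : ¬ (P : Subgroup G) ⊓ H16.Ce Q ≤ Q) :
    ∃ W, Q < W ∧ W ≤ P ∧ (P : Subgroup G) ≤ H16.Nm W ∧ Ctrl (H16.Nm W) P ⊤ := by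
  have hZ := finFunctor_zj.{u} (p := p) dvd_rfl
  let f := QuotientGroup.mk' Q
  have hk : f.ker = Q := QuotientGroup.ker_mk' Q
  set D := Q ⊔ (P : Subgroup G) ⊓ H16.Ce Q with hD
  have hDP : D ≤ P := sup_le hQ inf_le_left
  have hD' : D = (P : Subgroup G) ⊓ (Q ⊔ H16.Ce Q) := by
    refine le_antisymm (le_inf hDP (sup_le_sup_left inf_le_right _)) fun x hx => ?_
    obtain ⟨a, ha, c, hc', rfl⟩ := mem_sup_of_normal_left.1 hx.2
    exact mul_mem (mem_sup_left ha) (mem_sup_right ⟨(mul_mem_cancel_left (hQ ha)).1 hx.1, hc'⟩)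
  have hDb : D.map f ≠ ⊥ := fun h => hc (le_sup_right.trans (by
    rwa [Subgroup.map_eq_bot_iff, hk] at h))
  have hW := hZ.ne_bot _ _ ((P.isPGroup'.to_le hDP).map f) hDb
  have hWD := hZ.le _ (D.map f)
  have hND : H16.Nm D ≤ H16.Nm ((zj p (D.map f)).comap f) := fun g hg =>
    comap_Nm_le f _ (hZ.Nm_le (D.map f) (le_normalizer_map f ⟨g, hg, rfl⟩))
  have hPD : (P : Subgroup G) ≤ H16.Nm D := by
    rw [hD']
    exact (le_inf le_normalizer le_normalizer_of_normal).trans (H16.Nm_inf_le _ _)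
  refine ⟨(zj p (D.map f)).comap f, lt_of_le_of_ne (hk.ge.trans (ker_le_comap f _)) fun e => hW ?_,
    ((comap_mono hWD).trans ?_).trans hDP, hPD.trans hND,
    ctrl_of_normal_pair (C := H16.Ce Q) P hQ ?_ (ctrl_of_le hND)⟩
  · rw [← map_comap_eq_self_of_surjective (QuotientGroup.mk'_surjective Q) (zj p (D.map f)), ← e,
      Subgroup.map_eq_bot_iff, hk]
  · rw [comap_map_eq, hk]; exact sup_le le_rfl le_sup_left
  set L := (P : Subgroup G) ⊔ H16.Ce Q with hL
  have hPL : (P : Subgroup G) ≤ L := le_sup_left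
  let f' := f.subgroupMap L
  have hf' : Function.Surjective f' := f.subgroupMap_surjective L
  have hk' : f'.ker = Q.subgroupOf L := by
    ext x
    rw [MonoidHom.mem_ker, mem_subgroupOf, Subtype.ext_iff]
    exact QuotientGroup.eq_one_iff (x : G)
  have hkp : IsPGroup p f'.ker := hk' ▸ (P.isPGroup'.to_le hQ).comap_subtype
  have hC : (P.subtype hPL : Subgroup L) ⊔ H16.Ce f'.ker = ⊤ := by
    refine eq_top_iff.2 fun x _ => ?_
    obtain ⟨a, ha, c, hc', e⟩ := mem_sup_of_normal_right.1 x.2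
    have : x = ⟨a, hPL ha⟩ * ⟨c, mem_sup_right hc'⟩ := Subtype.ext e.symm
    rw [this, hk']
    exact mul_mem (mem_sup_left ha) (mem_sup_right fun y hy => Subtype.ext (hc' y hy))
  have hst' := isNormalizerPStable_of_central_ker_odd hp
    (isNormalizerPStable_of_injective hst L.subtype L.subtype_injective) f' hf' hkp
    fun g hg => coprime_mem_Ce_of_sup (P.subtype hPL).isPGroup' hC hg
  have hmap : ∀ K : Subgroup G, K ≤ L → (K.subgroupOf L).map f' = (K.map f).subgroupOf (L.map f) := by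
    intro K hK
    ext ⟨x, hx⟩
    exact ⟨fun ⟨y, hy, e⟩ => ⟨y, hy, congrArg Subtype.val e⟩,
      fun ⟨y, hy, e⟩ => ⟨⟨y, hK hy⟩, hy, Subtype.ext e⟩⟩
  have hsc : IsStronglyClosed ((D.map f).subgroupOf (L.map f))
      ((P.subtype hPL).mapSurjective hf' : Subgroup (L.map f)) := by
    refine ⟨?_, ?_⟩
    · rw [← hmap D (hDP.trans hPL)]
      exact map_mono fun x hx => hDP hx
    · rintro ⟨_, l, hl, rfl⟩ ⟨x, hx, e⟩ ⟨_, g, hg, rfl⟩ ⟨y, hy, e'⟩
      have e2 : f y = f (g * x * g⁻¹) := by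
        rw [map_mul, map_mul, map_inv, e]; exact congrArg Subtype.val e'
      refine ⟨y, ?_, congrArg Subtype.val e'⟩
      rw [hD']
      refine ⟨hy, ?_⟩
      have h1 : g * x * g⁻¹ ∈ Q ⊔ H16.Ce Q := Normal.conj_mem inferInstance _ (hD'.le hx).2 g
      have h2 : (y : G) * (g * x * g⁻¹)⁻¹ ∈ Q := by
        refine hk.le ?_
        rw [MonoidHom.mem_ker, map_mul, map_inv, e2, mul_inv_cancel]
      exact (mul_mem_cancel_right (inv_mem h1)).1 (mem_sup_left h2)
  have h1 := ctrl_zjD_of_stable_odd hp dvd_rfl hst' _ hsc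
  have h2 := hZ.subgroupOf (map_mono (f := f) (hDP.trans hPL))
  have h3 := ctrl_lift_central f' hf' (H7.isSylowIn_top (P.subtype hPL)) hkp hC
    (U := zj p ((D.map f).subgroupOf (L.map f))) (by
      refine le_trans ?_ (hZ.Nm_le _)
      rw [← hmap D (hDP.trans hPL)]
      refine (map_mono ?_).trans (le_normalizer_map f')
      intro x hx
      exact H7.mem_normalizer_of_forall fun y hy => (mem_normalizer_iff.1 (hPD hx) y).1 hy) h1
  refine (ctrl_of_subgroupOf hPL (h3.mono (fun x hx => ?_) le_rfl)).mono inf_le_right le_rfl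
  refine H7.mem_normalizer_of_forall fun y hy => ?_
  have hyL : y ∈ L := hPL (hDP (by
    have := comap_mono (f := f) hWD hy
    rwa [comap_map_eq, hk, sup_eq_left.2 le_sup_left] at this))
  have h4 := (mem_normalizer_iff.1 hx ⟨y, hyL⟩).1 (by
    rw [h2]; exact hy)
  rw [h2] at h4
  exact h4

/-- In a `p`-stable group the normalizer of a self-centralizing subgroup controls fusion. -/
theorem exists_centric_ctrl (hp : p ≠ 2) (hst : IsNormalizerPStable p G) (P : Sylow p G) :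
    ∃ Q, Q ≤ (P : Subgroup G) ∧ (P : Subgroup G) ≤ H16.Nm Q ∧ Ctrl (H16.Nm Q) P ⊤ ∧
      (P : Subgroup G) ⊓ H16.Ce Q ≤ Q := by
  obtain ⟨Q, ⟨h1, h2, h3⟩, hmax⟩ := exists_maximal_of_wellFoundedGT (fun Q : Subgroup G =>
    Q ≤ (P : Subgroup G) ∧ (P : Subgroup G) ≤ H16.Nm Q ∧ Ctrl (H16.Nm Q) P ⊤)
    ⟨⊥, bot_le, le_normalizer_of_normal, ctrl_of_le le_normalizer_of_normal⟩
  refine ⟨Q, h1, h2, h3, ?_⟩
  by_contra hc
  have : (Q.subgroupOf (H16.Nm Q)).Normal := normal_in_normalizer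
  obtain ⟨W, hW1, hW2, hW3, hW4⟩ := exists_ctrl_gt hp
    (isNormalizerPStable_of_injective hst (H16.Nm Q).subtype (H16.Nm Q).subtype_injective)
    (P.subtype h2) (Q := Q.subgroupOf (H16.Nm Q)) (fun x hx => h1 hx) fun h => hc fun x hx =>
      h (x := ⟨x, h2 hx.1⟩) ⟨hx.1, fun y hy => Subtype.ext (hx.2 y hy)⟩
  have hN : ∀ x : H16.Nm Q, x ∈ H16.Nm W → (x : G) ∈ H16.Nm (W.map (H16.Nm Q).subtype) :=
    fun x hx => le_normalizer_map _ ⟨x, hx, rfl⟩
  refine hW1.not_ge fun x hx => hmax (y := W.map (H16.Nm Q).subtype) ⟨?_, fun y hy =>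
    hN ⟨y, h2 hy⟩ (hW3 hy), h3.trans le_rfl le_rfl ((ctrl_of_subgroupOf h2
      (hW4.mono (M' := (H16.Nm (W.map (H16.Nm Q).subtype)).subgroupOf _) hN le_rfl)).mono inf_le_right le_rfl)⟩
    (fun y hy => ⟨⟨y, le_normalizer hy⟩, hW1.le hy, rfl⟩) ⟨x, hx, rfl⟩
  rintro _ ⟨y, hy, rfl⟩
  exact hW2 hy

omit [Fact p.Prime] [Finite G] in
theorem isNormal_group_of_ctrl {S Q : Subgroup G} (h1 : Q ≤ S) (h : Ctrl (H16.Nm Q) S ⊤) :
    (groupFusionSystem S).IsNormal Q := by
  refine isNormal_iff.2 ⟨h1, fun R f hf => ?_⟩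
  obtain ⟨hR, hm, g, e⟩ := mor_group_iff.1 hf
  obtain ⟨x, hx, ex⟩ := h R hR g (mem_top g) (H16.cj_le_iff.2 fun y hy => e y hy ▸ hm y hy)
  refine ⟨fun y => x * y * x⁻¹, mor_group_iff.2 ⟨sup_le hR h1, fun y hy => ?_, x, fun _ _ => rfl⟩,
    fun y hy => by rw [e y hy, ex y hy], ?_⟩
  · refine H16.cj_le_iff.1 (?_ : H16.cj x (R ⊔ Q) ≤ S) y hy
    rw [H16.cj_sup, H16.cj_eq_iff.2 hx]
    exact sup_le (H16.cj_le_iff.2 fun y hy => by rw [← ex y hy, ← e y hy]; exact hm y hy) h1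
  · rw [H94.img_conj_eq_cj]; exact H94.mem_normalizer_iff_cj.1 hx

theorem isConstrained_of_fStab (hp : p ≠ 2) (P : Sylow p G)
    (h : FStab p (groupFusionSystem (P : Subgroup G))) :
    (groupFusionSystem (P : Subgroup G)).IsConstrained p := by
  obtain ⟨Q, h1, -, h3, h4⟩ := exists_centric_ctrl hp ((stable_iff_fStab P).2 h) P
  have hn := isNormal_group_of_ctrl h1 h3
  exact ⟨H94.isSaturated_group P, Q, hn, isCentric_of_fullyCentralized
    (fc_of_fn P.isPGroup' (H94.isSaturated_group P) (fn_of_normal hn)) h4⟩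

end grp

theorem core_ne_bot_of_isConstrained {Ω : Type*} [Group Ω] {S : Subgroup Ω} {p : ℕ}
    {F : FusionSystem S} (h : F.IsConstrained p) (hS : S ≠ ⊥) : F.core ≠ ⊥ := fun e => by
  obtain ⟨-, Q, hn, hc⟩ := h
  obtain rfl : Q = ⊥ := le_bot_iff.1 (e ▸ le_core hn)
  exact hS (le_bot_iff.1 fun x hx => centralizerIn_le_of_centric hc
    (mem_centralizerIn.2 ⟨hx, fun y hy => by simp [mem_bot.1 hy]⟩))

end H93
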