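/- The `2`-length is bounded by the exponent of a Sylow `2`-subgroup. -/
import Cfsg.Agent.H93.TL5
import Cfsg.Agent.H18.HHGroup
import Cfsg.Agent.H96.PMin
import Cfsg.Agent.S0205

set_option autoImplicit false
set_option linter.unusedSectionVars false

namespace H93.TL

open Subgroup Module Polynomial H22 Cfsg H98 H96 H18
open scoped commutatorElement

universe u

/-- The bound for the exponent `2 ^ e`. -/
def IH (e : ℕ) : Prop := ∀ (Y : Type u) [Group Y] [Finite Y] [Group.IsSolvable Y],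
  (∀ y : Y, E2 y → y ^ 2 ^ e = 1) → PLengthLE 2 e Y

/-- There is a quotient of `2`-length at most `m` whose kernel has odd order elements in `S`. -/
def Gd (m : ℕ) {X : Type u} [Group X] (S : X → Prop) : Prop :=
  ∃ (Y : Type u) (_ : Group Y) (_ : Finite Y) (f : X →* Y), PLengthLE 2 m Y ∧
    ∀ g, f g = 1 → Odd (orderOf g) → S g

variable {m : ℕ} {X : Type u} [Group X] [Finite X] {S S' : X → Prop}

theorem Gd.mono (h : Gd m S) (e : ∀ g, Odd (orderOf g) → S g → S' g) : Gd m S' := by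
  obtain ⟨Y, _, _, f, h1, h2⟩ := h
  exact ⟨Y, _, inferInstance, f, h1, fun g a b => e g b (h2 g a b)⟩

theorem Gd.and (h : Gd m S) (h' : Gd m S') : Gd m fun g => S g ∧ S' g := by
  obtain ⟨Y, _, _, f, h1, h2⟩ := h
  obtain ⟨Y', _, _, f', h3, h4⟩ := h'
  exact ⟨Y × Y', _, inferInstance, f.prod f', pLengthLE_of_inf_ker (MonoidHom.fst _ _)
    (MonoidHom.snd _ _) (eq_bot_iff.2 fun x hx => Prod.ext hx.1 hx.2) h1 h3, fun g a b =>
      ⟨h2 g (congrArg Prod.fst a) b, h4 g (congrArg Prod.snd a) b⟩⟩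

theorem Gd.comap {X' : Type u} [Group X'] (f : X' →* X) (h : Gd m S) : Gd m fun g => S (f g) := by
  obtain ⟨Y, _, _, f', h1, h2⟩ := h
  exact ⟨Y, _, inferInstance, f'.comp f, h1, fun g a b =>
    h2 _ a (b.of_dvd_nat (orderOf_map_dvd f g))⟩

theorem E2.eq_one {x : X} (h : E2 x) (e : Odd (orderOf x)) : x = 1 :=
  h.elim fun j hj => eq_one_of_coprime hj (pow_orderOf_eq_one x)
    ((Nat.coprime_two_left.2 e).pow_left j)

theorem E2.lift {Y : Type*} [Group Y] {f : X →* Y} (hf : Function.Surjective f) {y : Y}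
    (h : E2 y) : ∃ x, f x = y ∧ E2 x :=
  (exists_lift_primePow f hf Nat.prime_two ((exists_orderOf_eq_pow_iff Nat.prime_two).2 h)).imp
    fun _ e => ⟨e.1, (exists_orderOf_eq_pow_iff Nat.prime_two).1 e.2⟩

theorem isPGroup_map_of_odd {Y : Type*} [Group Y] (f : X →* Y) {P : Subgroup X}
    (h : ∀ g ∈ P, Odd (orderOf g) → f g = 1) : IsPGroup 2 (P.map f) := by
  rintro ⟨_, g, hg, rfl⟩
  obtain ⟨j, i, h1, h2⟩ := Nat.exists_eq_two_pow_mul_odd (orderOf_pos g).ne'
  exact ⟨j, Subtype.ext ((map_pow f g _).symm.trans (h _ (pow_mem hg _) (h1.of_dvd_nat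
    (orderOf_dvd_of_pow_eq_one (by rw [← pow_mul, ← h2, pow_orderOf_eq_one])))))⟩

theorem mem_cent {A B : Subgroup X} (hA : IsPGroup 2 A) (hB : B ≤ A) {g : X} (ho : Odd (orderOf g))
    (h1 : g ∈ centralizer (B : Set X)) (h2 : ∀ a ∈ A, ⁅a, g⁆ ∈ B) : g ∈ centralizer (A : Set X) :=
  fun a ha => commutatorElement_eq_one_iff_mul_comm.1 ((E2.of_mem hA (hB (h2 a ha))).elim
    fun j hj => eq_one_of_coprime hj (comm_pow_eq_one (h1 _ (h2 a ha)) (pow_orderOf_eq_one g))
      ((Nat.coprime_two_left.2 ho).pow_left j))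

theorem IH.gd [Group.IsSolvable X] (h : IH.{u} (m + 1)) (he : ∀ y : X, E2 y → y ^ 2 ^ (m + 1) = 1) :
    Gd m (· ∈ centralizer (pCore 2 X : Set X)) :=
  ⟨_, _, inferInstance, QuotientGroup.mk' _, pLengthLE_succ_iff.1 (h X he), fun g a b => by
    have h1 : g ∈ pPrimePCore 2 X := (QuotientGroup.eq_one_iff g).1 a
    exact H2.pPrimeCore_le_centralizer_pCore 2 X ((QuotientGroup.eq_one_iff g).1
      ((E2.of_mem (H98.isPGroup_pCore 2 _)
        (show QuotientGroup.mk' (pPrimeCore 2 X) g ∈ pCore 2 _ from h1)).eq_one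
        (b.of_dvd_nat (orderOf_map_dvd (QuotientGroup.mk' (pPrimeCore 2 X)) g))))⟩

theorem IH.gd_section [Group.IsSolvable X] (h : IH.{u} (m + 1)) (M : Subgroup X) [hM : M.Normal]
    (M2 : IsPGroup 2 M) (he : ∀ x, E2 x → ∀ w ∈ M, (w * x) ^ 2 ^ (m + 1) = x ^ 2 ^ (m + 1)) :
    Gd m (· ∈ centralizer (M : Set X)) := by
  let φ : X →* MulAut M := MulAut.conjNormal
  have := Finite.of_equiv _ (SemidirectProduct.equivProd (φ := φ.range.subtype)).symm
  have := Group.isSolvable_of_surjective φ.rangeRestrict_surjective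
  have := Group.isSolvable_of_ker_le_range _ _
    (SemidirectProduct.range_inl_eq_ker_rightHom (φ := φ.range.subtype)).ge
  refine ((h.gd (X := M ⋊[φ.range.subtype] φ.range) fun s ⟨j, hj⟩ => ?_).comap
    (SemidirectProduct.inr.comp φ.rangeRestrict)).mono fun g _ e a ha => ?_
  swap
  · obtain ⟨x, e, hx⟩ := E2.lift φ.rangeRestrict_surjective (y := s.right)
      ⟨j, (map_pow SemidirectProduct.rightHom s _).symm.trans (by rw [hj, map_one])⟩
    have e1 : ∀ k : ℕ, ((s ^ k).left : X) = (s.left * x) ^ k * (x ^ k)⁻¹ := fun k => by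
      induction k with
      | zero => simp
      | succ k ih =>
        rw [pow_succ', SemidirectProduct.mul_left, ← e, Subgroup.coe_mul, pow_succ', pow_succ']
        change _ * (x * _ * x⁻¹) = _
        rw [ih]; group
    refine SemidirectProduct.ext (Subtype.ext ?_) ?_
    · rw [e1, he x hx _ s.left.2, mul_inv_cancel]; rfl
    · refine (map_pow SemidirectProduct.rightHom s _).trans ?_
      rw [SemidirectProduct.rightHom_eq_right, ← e, ← map_pow]
      refine Subtype.ext (MulEquiv.ext fun w => Subtype.ext (mul_inv_eq_iff_eq_mul.2 ?_))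
      have := he x hx _ (mul_mem w.2 (hM.conj_mem _ (inv_mem w.2) x))
      rw [show w * (x * (w : X)⁻¹ * x⁻¹) * x = w * x * (w : X)⁻¹ by group, conj_pow] at this
      exact (mul_inv_eq_iff_eq_mul.1 this).symm
  · have : (SemidirectProduct.inl (φ := φ.range.subtype)).range.Normal := by
      rw [SemidirectProduct.range_inl_eq_ker_rightHom]; infer_instance
    have i2 : IsPGroup 2 (SemidirectProduct.inl (φ := φ.range.subtype)).range :=
      M2.of_surjective _ (MonoidHom.rangeRestrict_surjective _)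
    have := congrArg (fun s => (s.left : X)) (e _ (H2.le_pCore i2 ⟨⟨a, ha⟩, rfl⟩))
    simpa [φ, eq_mul_inv_iff_mul_eq] using this

variable {K : Type*} [Field K] [IsAlgClosed K] {G : Type u} {V : Type*} [Group G] [Finite G]
  [AddCommGroup V] [Module K V] [FiniteDimensional K V] {ρ : Representation K G V} {n : ℕ}

theorem Mod.core [Group.IsSolvable G] (h : Mod ρ n) (hO : pCore 2 G = ⊥) {N A : Subgroup G}
    (hA : IsPGroup 2 A) (h1 : A ≠ ⊥) (hK : A ≤ closure (Zs G n)) (AN : A ≤ N)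
    (NA : N ≤ normalizer (A : Set G)) : ∃ B < A, N ≤ normalizer (B : Set G) ∧
      (∀ x ∈ N, E2 x → ∀ a ∈ A, ⁅a, x ^ 2 ^ n⁆ ∈ B) ∧
      ∀ R ⊆ Zs G n, IsPGroup 2 (closure R) → A ≤ closure R → N ≤ normalizer (closure R : Set G) →
        ∀ x ∈ N, E2 x → ∀ w ∈ A, (w * x) ^ 2 ^ n * (x ^ 2 ^ n)⁻¹ ∈ B := by
  obtain ⟨⟨a, ha⟩, a1⟩ := ne_bot_iff_exists_ne_one.1 h1
  obtain ⟨q, W, _, _, b, H, φ, s, e⟩ := h.exists_site hO (hK ha) (.of_mem hA ha)
    fun e => a1 (Subtype.ext e)
  have hH : closure (Zs G n) ≤ H := (closure_le _).2 (by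
    rintro _ ⟨x, hx, rfl⟩
    obtain ⟨j, i, rfl, y, e, -⟩ := s.exc x hx
    rw [pow_add, pow_mul, ← e]
    exact pow_mem y.2 _)
  obtain ⟨J, j1, j2, j3⟩ := s.step hA (hK.trans hH) fun k =>
    e ⟨a, hH (hK ha)⟩ rfl (mem_bot.1 (k.le (mem_map_of_mem φ ha)))
  have key : ∀ c ∈ A, (∀ g ∈ N, g * c * g⁻¹ ∈ J) → c ∈ coreIn N (A ⊓ J) := fun c hc e =>
    mem_coreIn.2 ⟨AN hc, fun g hg => mem_cj.2 ⟨(mem_normalizer_iff''.1 (NA hg) c).1 hc,
      by simpa using e _ (inv_mem hg)⟩⟩
  have cj : ∀ g ∈ N, ∀ x ∈ N, g * x * g⁻¹ ∈ N := fun g hg x hx =>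
    mul_mem (mul_mem hg hx) (inv_mem hg)
  refine ⟨coreIn N (A ⊓ J), (coreIn_le _ _).trans_lt (inf_lt_left.2 j1), le_normalizer_coreIn _ _,
    fun x hx x2 a ha => key _ ?_ fun g hg => ?_, fun R r1 r2 r3 r4 x hx x2 w hw =>
      key _ (mul_pow_mul_inv_mem hw (NA hx) _) fun g hg => ?_⟩
  · rw [commutatorElement_def, mul_assoc, mul_assoc, ← mul_assoc (x ^ _)]
    exact mul_mem ha ((mem_normalizer_iff.1 (pow_mem (NA hx) _) _).1 (inv_mem ha))
  · rw [conjugate_commutatorElement, ← conj_pow]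
    exact j2 _ (x2.conj g) (NA (cj g hg x hx)) _ ((mem_normalizer_iff.1 (NA hg) a).1 ha)
  · have := j3 R r1 r2 r3 _ (x2.conj g) (NA (cj g hg x hx)) (r4 (cj g hg x hx)) _
      ((mem_normalizer_iff.1 (NA hg) w).1 hw)
    rwa [conj_mul, conj_pow, conj_pow, conj_inv, conj_mul] at this

theorem Mod.pLength [Group.IsSolvable G] (ih : IH.{u} (m + 1)) (h : Mod ρ (m + 1))
    (hO : pCore 2 G = ⊥) : PLengthLE 2 (m + 1) G := by
  obtain ⟨T, hT⟩ := exists_isSyl 2 (pPrimePCore 2 G)
  have T2 := hT.isPGroup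
  set N := normalizer (T : Set G)
  have hπ := QuotientGroup.mk'_surjective (pPrimeCore 2 G)
  set π := QuotientGroup.mk' (pPrimeCore 2 G)
  have t1 : T.map π = pCore 2 _ := by
    have := hT.map π
    rw [pPrimePCore, map_comap_eq_self_of_surjective hπ] at this
    exact this.eq_of_isPGroup (isPGroup_pCore 2 _)
  have t2 : N.map π = ⊤ := by
    have := congrArg (Subgroup.map π) (hT.frattini le_top le_normalizer_of_normal)
    rwa [top_inf_eq, Subgroup.map_sup, pPrimePCore, map_comap_eq_self_of_surjective hπ, ← t1,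
      sup_of_le_left (map_mono le_normalizer), map_top_of_surjective _ hπ] at this
  have t3 : ∀ g ∈ centralizer (T : Set G), Odd (orderOf g) → π g = 1 := fun g hg ho =>
    (E2.of_mem (isPGroup_pCore 2 _) (centralizer_pCore_le (isPSolvable_of_isSolvable 2)
      (H2.pPrimeCore_quotient_pPrimeCore 2 G) (by
        rw [← t1]
        rintro _ ⟨t, ht, rfl⟩
        rw [← map_mul, hg t ht, map_mul]))).eq_one (ho.of_dvd_nat (orderOf_map_dvd π g))
  let R := {z | ∃ x ∈ N, E2 x ∧ z = x ^ 2 ^ (m + 1)}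
  have r1 : R ⊆ Zs G (m + 1) := fun _ ⟨x, _, e⟩ => ⟨x, e⟩
  have r2 : closure R ≤ N := (closure_le _).2 fun _ ⟨x, hx, _, e⟩ => e ▸ pow_mem hx _
  have r3 : N ≤ normalizer (closure R : Set G) := fun g hg => mem_normalizer_of_cj_le (by
    rw [cj, MonoidHom.map_closure, closure_le]
    rintro _ ⟨_, ⟨x, hx, x2, rfl⟩, rfl⟩
    exact subset_closure ⟨_, mul_mem (mul_mem hg hx) (inv_mem hg), x2.conj g, conj_pow.symm⟩)
  have hK : (closure (Zs G (m + 1))).Normal := normal_of_top_le_normalizer fun g _ =>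
    mem_normalizer_of_cj_le (by
      rw [cj, MonoidHom.map_closure, closure_le]
      rintro _ ⟨_, ⟨x, x2, rfl⟩, rfl⟩
      exact subset_closure ⟨_, x2.conj g, conj_pow.symm⟩)
  have tc : ∀ g ∈ N, ∀ t ∈ T, ⁅t, g⁆ ∈ T := fun g hg t ht => by
    rw [commutatorElement_def, mul_assoc, mul_assoc, ← mul_assoc g]
    exact mul_mem ht ((mem_normalizer_iff.1 hg _).1 (inv_mem ht))
  have b1 : ∀ A ≤ T ⊓ closure (Zs G (m + 1)), N ≤ normalizer (A : Set G) → ∀ g ∈ closure R,
      Odd (orderOf g) → g ∈ centralizer (A : Set G) := fun A => by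
    induction A using WellFoundedLT.induction with | ind A ih => ?_
    intro a1 a2 g hg ho
    by_cases a0 : A = ⊥
    · simp [a0, mem_centralizer_iff]
    have A2 := T2.to_le (a1.trans inf_le_left)
    obtain ⟨B, c1, c2, c3, -⟩ := h.core hO A2 a0 (a1.trans inf_le_right)
      (a1.trans (inf_le_left.trans le_normalizer)) a2
    refine mem_cent A2 c1.le ho (ih B c1 (c1.le.trans a1) c2 g hg ho)
      ((closure_le (commInto A B)).2 ?_ hg).2
    rintro _ ⟨x, hx, x2, rfl⟩
    exact ⟨c2 (pow_mem hx _), c3 x hx x2⟩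
  have b2 : closure R ≤ T := by
    have : ((closure R).map π).Normal := normal_of_top_le_normalizer
      (t2.ge.trans ((map_mono r3).trans (le_normalizer_map π)))
    have b3 := map_le_iff_le_comap.1 (H2.le_pCore (isPGroup_map_of_odd π (P := closure R)
      fun g hg ho => t3 g (mem_cent T2 inf_le_left ho (b1 _ le_rfl (le_normalizer_inf le_rfl
        le_normalizer_of_normal) g hg ho) fun t ht => mem_inf.2 ⟨tc g (r2 hg) t ht, mul_mem
          (hK.conj_mem _ (closure_mono r1 hg) t) (inv_mem (closure_mono r1 hg))⟩) ho))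
    rw [closure_le]
    rintro _ ⟨x, hx, x2, rfl⟩
    exact hT.le_of_le_normalizer' (E2.of_mem x2.zpowers (pow_mem (mem_zpowers x) _)).zpowers
      (zpowers_le.2 (b3 (subset_closure ⟨x, hx, x2, rfl⟩))) (zpowers_le.2 (pow_mem hx _))
      (mem_zpowers _)
  have e2 : ∀ x : N, E2 x → E2 (x : G) := fun x => Exists.imp fun _ => congrArg Subtype.val
  have d1 : ∀ A ≤ closure R, N ≤ normalizer (A : Set G) →
      Gd m fun g : N => (g : G) ∈ centralizer (A : Set G) := fun A => by
    induction A using WellFoundedLT.induction with | ind A ihA => ?_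
    intro a1 a2
    by_cases a0 : A = ⊥
    · exact ⟨PUnit, _, inferInstance, 1, pLengthLE_mono (pLengthLE_zero_iff.2 (by simp))
        (Nat.zero_le m), fun g _ _ => by simp [a0, mem_centralizer_iff]⟩
    have A2 := T2.to_le (a1.trans b2)
    obtain ⟨B, c1, c2, -, c3⟩ := h.core hO A2 a0 (a1.trans (closure_mono r1)) (a1.trans r2) a2
    have := (normal_subgroupOf_iff_le_normalizer (c1.le.trans (a1.trans r2))).2 c2
    have := (normal_subgroupOf_iff_le_normalizer (a1.trans r2)).2 a2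
    have hs := QuotientGroup.mk'_surjective (B.subgroupOf N)
    have := this.map _ hs
    refine ((ihA B c1 (c1.le.trans a1) c2).and ((ih.gd_section ((A.subgroupOf N).map
      (QuotientGroup.mk' (B.subgroupOf N))) (A2.comap_subtype.map _) ?_).comap
        (QuotientGroup.mk' _))).mono fun g ho e =>
          mem_cent A2 c1.le (by rwa [orderOf_coe]) e.1 fun a ha => ?_
    · rintro x x2 _ ⟨w, hw, rfl⟩
      obtain ⟨x, rfl, x3⟩ := x2.lift hs
      rw [← mul_inv_eq_one, ← map_mul, ← map_pow, ← map_pow, ← map_inv, ← map_mul]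
      exact (QuotientGroup.eq_one_iff _).2 (c3 R r1 (T2.to_le b2) a1 r3 x x.2 (e2 x x3) w hw)
    · refine (QuotientGroup.eq_one_iff (N := B.subgroupOf N) ⁅(⟨a, r2 (a1 ha)⟩ : N), g⁆).1 ?_
      rw [← QuotientGroup.mk'_apply, map_commutatorElement, commutatorElement_eq_one_iff_mul_comm]
      exact e.2 _ (mem_map_of_mem _ ha)
  have := (normal_subgroupOf_iff_le_normalizer r2).2 r3
  have hs := QuotientGroup.mk'_surjective ((closure R).subgroupOf N)
  obtain ⟨Y, _, _, f, f1, f2⟩ := ((d1 _ le_rfl r3).and ((ih.gd (X := N ⧸ (closure R).subgroupOf N)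
      fun x x2 => by
        obtain ⟨x, rfl, x3⟩ := x2.lift hs
        rw [← map_pow]
        exact (QuotientGroup.eq_one_iff _).2 (Subgroup.subset_closure ⟨x, x.2, e2 x x3, rfl⟩)).comap
      (QuotientGroup.mk' _))).mono (S' := fun g : N => π g = 1) fun g ho e => by
    rw [← orderOf_coe] at ho
    refine t3 g (mem_cent T2 b2 ho e.1 fun a ha => (QuotientGroup.eq_one_iff
      (N := (closure R).subgroupOf N) ⁅(⟨a, le_normalizer ha⟩ : N), g⁆).1 ?_) ho
    have := (normal_subgroupOf_iff_le_normalizer (le_normalizer (H := T))).2 le_rfl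
    have := this.map _ hs
    rw [← QuotientGroup.mk'_apply, map_commutatorElement, commutatorElement_eq_one_iff_mul_comm]
    exact e.2 _ (H2.le_pCore (N := (T.subgroupOf N).map _) (T2.comap_subtype.map _)
      (mem_map_of_mem _ ha))
  refine pLengthLE_of_quotient_coprime _ (H2.coprime_card_pPrimeCore 2 G)
    (pLengthLE_of_surjective ?_ (π.comp N.subtype) (by
      rw [← MonoidHom.range_eq_top, MonoidHom.range_comp, range_subtype, t2]))
  rw [add_comm]
  refine pLengthLE_add_of_ker_le f 1 (le_trans ?_ ups_two.ge) f1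
  have := MonoidHom.normal_ker f |>.map _ (QuotientGroup.mk'_surjective (pPrimeCore 2 N))
  refine map_le_iff_le_comap.1 (H2.le_pCore (isPGroup_map_of_odd _ fun g hg ho =>
    (QuotientGroup.eq_one_iff g).2 (H2.le_pPrimeCore (N := (pPrimeCore 2 G).subgroupOf N)
      ((H2.coprime_card_pPrimeCore 2 G).coprime_dvd_left ?_)
        ((QuotientGroup.eq_one_iff (g : G)).1 (f2 g hg ho)))))
  exact card_comap_dvd_of_injective _ _ N.subtype_injective

theorem ih_all : ∀ e, IH.{u} e
  | 0 => fun Y _ _ _ h => pLengthLE_zero_iff.2 (coprime_card_of_forall_isPGroup_eq_bot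
      fun P hP => eq_bot_iff.2 fun x hx => by simpa using h x (.of_mem hP hx))
  | 1 => fun Y _ _ _ h => pLengthLE_of_lowerCentralSeries (isPSolvable_of_isSolvable 2) 1
      fun P hP => by
        have sq : ∀ x ∈ P, x * x = 1 := fun x hx => by simpa [pow_two] using h x (.of_mem hP hx)
        refine eq_bot_iff.2 (commutator_le.2 fun a ha b hb => ?_)
        rw [mem_bot, commutatorElement_def, inv_eq_of_mul_eq_one_right (sq a ha),
          inv_eq_of_mul_eq_one_right (sq b hb), mul_assoc (a * b), sq _ (mul_mem ha hb)]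
  | m + 2 => fun Y _ _ _ h => by
    refine pLengthLE_of_quotient_coprime _ (H2.coprime_card_pPrimeCore 2 Y) ?_
    obtain ⟨X, _, _, f, hf, -, hc, hV, hC⟩ := exists_frattini_reduction (centralizer_pCore_le
      (isPSolvable_of_isSolvable 2) (H2.pPrimeCore_quotient_pPrimeCore 2 Y))
    have hs := hf.comp (QuotientGroup.mk'_surjective _)
    have := Group.isSolvable_of_surjective (f := f.comp (QuotientGroup.mk' _)) hs
    replace h : ∀ x : X, E2 x → x ^ 2 ^ (m + 2) = 1 := fun x hx => by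
      obtain ⟨y, rfl, hy⟩ := hx.lift (f := f.comp (QuotientGroup.mk' _)) hs
      rw [← map_pow, h y hy, map_one]
    obtain ⟨W, _, _, _, ρ, ι, e1, e2, -, e4, e5, -⟩ :=
      exists_rep_pCore (isPSolvable_of_isSolvable 2) hV hC
    have h0 : ι 1 = 0 := by simpa using e2 1 1
    have key : ∀ (x : X) (v : pCore 2 X) (k : ℕ), ∃ w : pCore 2 X, (w : X) = (v * x) ^ k *
        (x ^ k)⁻¹ ∧ ι w = ∑ i ∈ Finset.range k, (ρ x ^ i) (ι v) := fun x v k => by
      induction k with
      | zero => exact ⟨1, by simp, by simpa using h0⟩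
      | succ k ih =>
        obtain ⟨w, hw1, hw2⟩ := ih
        refine ⟨w * ⟨x ^ k * v * (x ^ k)⁻¹, Normal.conj_mem inferInstance _ v.2 _⟩, ?_, ?_⟩
        · rw [Subgroup.coe_mul, hw1, pow_succ, pow_succ]; group
        · rw [e2, hw2, Finset.sum_range_succ, ← e5 (x ^ k) v ⟨_, _⟩ rfl, QuotientGroup.mk_pow,
            map_pow]
    obtain ⟨g0, gd⟩ := natDegree_geom_sum_X (K := AlgebraicClosure (ZMod 2)) (2 ^ (m + 2))
      (by positivity)
    rw [show m + 2 = 1 + (m + 1) by omega]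
    refine pLengthLE_add_of_ker_le ((QuotientGroup.mk' (pCore 2 X)).comp f) 1 (by
      rw [← MonoidHom.comap_ker, QuotientGroup.ker_mk', hc, ups_two]; exact pCore_le_pPrimePCore)
      (Mod.pLength (ρ := ρ) (ih_all (m + 1)) ⟨e1, fun k hk => natCast_ne_zero_algClosure
        (Nat.not_even_iff_odd.2 hk ∘ even_iff_two_dvd.2), fun x hx => ?_,
        fun x hx => ⟨_, g0, Nat.lt_of_succ_le gd.le, ?_⟩⟩ (H2.pCore_quotient_pCore 2 X))
    all_goals obtain ⟨x, rfl, hy⟩ := hx.lift (QuotientGroup.mk'_surjective _)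
    · rw [← map_pow, h x hy, map_one]
    · refine LinearMap.ext_on_range e4 fun v => ?_
      obtain ⟨w, hw1, hw2⟩ := key x v (2 ^ (m + 2))
      rw [h x hy, h _ (hy.mul (isPGroup_pCore 2 X) (le_normalizer_of_normal (mem_top x)) v.2),
        mul_inv_cancel] at hw1
      rw [show w = 1 from Subtype.ext hw1, h0] at hw2
      simpa [map_sum, LinearMap.sum_apply] using hw2.symm

theorem isSolvable_of_pLengthLE : ∀ (k : ℕ) (G : Type u) [Group G] [Finite G], PLengthLE 2 k G →
    Group.IsSolvable G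
  | 0, G, _, _, h => Cfsg.Agent.S0205.result (Nat.coprime_two_right.1 (pLengthLE_zero_iff.1 h))
  | k + 1, G, _, _, h => by
    have := isSolvable_of_pLengthLE k _ (pLengthLE_succ_iff.1 h)
    have := Cfsg.Agent.S0205.result (H2.odd_card_oddCore G)
    have := (isPGroup_pCore 2 (G ⧸ pPrimeCore 2 G)).isNilpotent
    have : Group.IsSolvable (pPrimePCore 2 G) := Group.isSolvable_of_ker_le_range
      (inclusion (pPrimeCore_le_pPrimePCore (p := 2) (G := G)))
      ((QuotientGroup.mk' _).subgroupComap _) fun x hx =>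
        ⟨⟨x, (QuotientGroup.eq_one_iff _).1 (congrArg Subtype.val hx)⟩, rfl⟩
    exact Group.isSolvable_of_ker_le_range (pPrimePCore 2 G).subtype (QuotientGroup.mk' (pPrimePCore 2 G))
      (by rw [QuotientGroup.ker_mk', range_subtype])

theorem pLengthLE_of_sylow {G : Type u} [Group G] [Finite G] (hG : IsPSolvable 2 G) (e : ℕ)
    (h : ∀ (P : Sylow 2 G), ∀ x ∈ (P : Subgroup G), x ^ 2 ^ e = 1) : PLengthLE 2 e G := by
  obtain ⟨k, hk⟩ := exists_pLengthLE hG
  have := isSolvable_of_pLengthLE k G hk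
  refine ih_all e G fun y hy => ?_
  obtain ⟨P, hP⟩ := hy.zpowers.exists_le_sylow
  exact h P y (hP (mem_zpowers y))

end H93.TL
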